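import Cfsg.Prelude.Def_FusionSystem

/-!
Joins of central, resp. normal, subgroups of a fusion system are central, resp. normal.
-/

set_option autoImplicit false

namespace Cfsg.Agent.Lib.FusionAlperin.Join

variable {Ω : Type*} [Group Ω] {S : Subgroup Ω} (F : Cfsg.FusionSystem S)

theorem restrict_mem {P R : Subgroup Ω} (hRP : R ≤ P) {φ : P →* Ω} (hφ : φ ∈ F.Hom P) :
    φ.comp (Subgroup.inclusion hRP) ∈ F.Hom R := by
  have hP : P ≤ S := (F.le_of_mem hφ).1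
  have h1 := F.conj_mem (P := R) (hRP.trans hP) (one_mem S)
  have hh : ∀ x : R, conjHom R (1 : Ω) x ∈ P := fun x => by
    simpa [conjHom] using hRP x.2
  have h2 := F.comp_mem h1 hφ hh
  have : φ.comp ((conjHom R (1 : Ω)).codRestrict P hh) = φ.comp (Subgroup.inclusion hRP) := by
    ext x
    show φ _ = φ _
    congr 1
    ext
    simp [conjHom]
  rwa [this] at h2

theorem isCentral_bot : F.IsCentral ⊥ := by
  refine ⟨bot_le, fun P φ hφ => ?_⟩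
  refine ⟨φ.comp (Subgroup.inclusion (by simp : P ⊔ ⊥ ≤ P)), restrict_mem F _ hφ, fun x => rfl, fun x => ?_⟩
  have hx : (x : Ω) = 1 := Subgroup.mem_bot.mp x.2
  have : x = 1 := Subtype.ext hx
  subst this
  simp

theorem isCentral_sup {Q₁ Q₂ : Subgroup Ω} (h₁ : F.IsCentral Q₁) (h₂ : F.IsCentral Q₂) :
    F.IsCentral (Q₁ ⊔ Q₂) := by
  refine ⟨sup_le h₁.1 h₂.1, fun P φ hφ => ?_⟩
  obtain ⟨ψ₁, hψ₁, hP₁, hQ₁⟩ := h₁.2 P φ hφ
  obtain ⟨ψ₂, hψ₂, hP₂, hQ₂⟩ := h₂.2 _ ψ₁ hψ₁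
  have hle : P ⊔ (Q₁ ⊔ Q₂) ≤ P ⊔ Q₁ ⊔ Q₂ := by rw [sup_assoc]
  refine ⟨ψ₂.comp (Subgroup.inclusion hle), restrict_mem F hle hψ₂, fun x => ?_, ?_⟩
  · exact (hP₂ (Subgroup.inclusion le_sup_left x)).trans (hP₁ x)
  · intro x
    let K : Subgroup Ω := (ψ₂.eqLocus (P ⊔ Q₁ ⊔ Q₂).subtype).map (P ⊔ Q₁ ⊔ Q₂).subtype
    have hK : Q₁ ⊔ Q₂ ≤ K := by
      refine sup_le (fun q hq => ?_) (fun q hq => ?_)
      · exact ⟨⟨q, le_sup_left (a := P ⊔ Q₁) (b := Q₂) (le_sup_right (a := P) hq)⟩,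
          (hP₂ ⟨q, le_sup_right (a := P) hq⟩).trans (hQ₁ ⟨q, hq⟩), rfl⟩
      · exact ⟨⟨q, le_sup_right (a := P ⊔ Q₁) hq⟩, hQ₂ ⟨q, hq⟩, rfl⟩
    obtain ⟨y, hy, hyx⟩ := hK x.2
    have : (Subgroup.inclusion hle (Subgroup.inclusion le_sup_right x)) = y := Subtype.ext hyx.symm
    show ψ₂ _ = _
    rw [this]
    exact (show ψ₂ y = (y : Ω) from hy).trans hyx

theorem isNormal_bot : F.IsNormal ⊥ := by
  refine ⟨bot_le, fun P φ hφ => ?_⟩
  refine ⟨φ.comp (Subgroup.inclusion (by simp : P ⊔ ⊥ ≤ P)), restrict_mem F _ hφ, fun x => rfl, ?_⟩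
  rw [Subgroup.bot_subgroupOf, Subgroup.map_bot]

theorem isNormal_sup {Q₁ Q₂ : Subgroup Ω} (h₁ : F.IsNormal Q₁) (h₂ : F.IsNormal Q₂) :
    F.IsNormal (Q₁ ⊔ Q₂) := by
  refine ⟨sup_le h₁.1 h₂.1, fun P φ hφ => ?_⟩
  obtain ⟨ψ₁, hψ₁, hP₁, hQ₁⟩ := h₁.2 P φ hφ
  obtain ⟨ψ₂, hψ₂, hP₂, hQ₂⟩ := h₂.2 _ ψ₁ hψ₁
  have hle : P ⊔ (Q₁ ⊔ Q₂) ≤ P ⊔ Q₁ ⊔ Q₂ := by rw [sup_assoc]
  refine ⟨ψ₂.comp (Subgroup.inclusion hle), restrict_mem F hle hψ₂, fun x => ?_, ?_⟩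
  · exact (hP₂ (Subgroup.inclusion le_sup_left x)).trans (hP₁ x)
  · apply le_antisymm
    · rw [Subgroup.subgroupOf_sup (le_sup_left.trans le_sup_right) (le_sup_right.trans le_sup_right), Subgroup.map_sup]
      refine sup_le_sup ?_ ?_
      · rintro _ ⟨y, hy, rfl⟩
        have hy' : (y : Ω) ∈ Q₁ := hy
        have e : Subgroup.inclusion hle y =
            Subgroup.inclusion le_sup_left (⟨(y : Ω), le_sup_right (a := P) hy'⟩ : ↥(P ⊔ Q₁)) := rfl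
        refine hQ₁.le ⟨⟨(y : Ω), le_sup_right (a := P) hy'⟩, hy', ?_⟩
        show _ = ψ₂ (Subgroup.inclusion hle y)
        rw [e, hP₂]
      · rintro _ ⟨y, hy, rfl⟩
        have hy' : (y : Ω) ∈ Q₂ := hy
        exact hQ₂.le ⟨Subgroup.inclusion hle y, hy', rfl⟩
    · refine sup_le ?_ ?_
      · intro q hq
        rw [← hQ₁] at hq
        obtain ⟨y, hy, rfl⟩ := hq
        have hy' : (y : Ω) ∈ Q₁ := hy
        refine ⟨⟨(y : Ω), le_sup_right (a := P) (le_sup_left (b := Q₂) hy')⟩, le_sup_left (b := Q₂) hy', ?_⟩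
        show ψ₂ (Subgroup.inclusion le_sup_left y) = _
        rw [hP₂]
      · intro q hq
        rw [← hQ₂] at hq
        obtain ⟨y, hy, rfl⟩ := hq
        have hy' : (y : Ω) ∈ Q₂ := hy
        exact ⟨⟨(y : Ω), le_sup_right (a := P) (le_sup_right (a := Q₁) hy')⟩, le_sup_right (a := Q₁) hy', rfl⟩

theorem finite_subgroups_le (S : Subgroup Ω) [Finite S] : {Q : Subgroup Ω | Q ≤ S}.Finite := by
  have h : {Q : Subgroup Ω | Q ≤ S} ⊆ Set.range (fun Q : Subgroup S => Q.map S.subtype) := fun Q hQ =>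
    ⟨Q.subgroupOf S, Subgroup.map_subgroupOf_eq_of_le hQ⟩
  exact (Set.finite_range _).subset h

theorem sSup_mem_of_finite {s : Set (Subgroup Ω)} (hfin : s.Finite) (p : Subgroup Ω → Prop) (hbot : p ⊥)
    (hsup : ∀ a b, p a → p b → p (a ⊔ b)) (hs : ∀ a ∈ s, p a) : p (sSup s) := by
  revert hs
  refine hfin.induction_on _ (fun _ => by simpa using hbot) ?_
  intro a t _ _ ih hs
  rw [sSup_insert]
  exact hsup _ _ (hs a (Set.mem_insert a t)) (ih fun b hb => hs b (Set.mem_insert_of_mem a hb))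

theorem isCentral_center [Finite S] : F.IsCentral F.center :=
  sSup_mem_of_finite ((finite_subgroups_le S).subset fun _ h => h.1) _ (isCentral_bot F)
    (fun _ _ => isCentral_sup F) fun _ h => h

theorem isNormal_core [Finite S] : F.IsNormal F.core :=
  sSup_mem_of_finite ((finite_subgroups_le S).subset fun _ h => h.1) _ (isNormal_bot F)
    (fun _ _ => isNormal_sup F) fun _ h => h

end Cfsg.Agent.Lib.FusionAlperin.Join
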