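import Cfsg.Agent.Lib.FusionAlperin.MathieuCert

/-!
# The five Mathieu groups as coded groups: membership tests and invariant labels
-/

set_option autoImplicit false

namespace Cfsg.Agent.Lib.FusionAlperin.MathieuInst

open Cfsg Cfsg.Agent.Lib.Computation Cfsg.Agent.Lib.Golay
open scoped Pointwise

/-- Code test for the stabiliser of the extra point. -/
def in23 (c : ℕ) : Bool := inM24 c && Nat.beq (getW 5 c 23) 23

/-- Code test for the stabiliser of two points. -/
def in22 (c : ℕ) : Bool := in23 c && Nat.beq (getW 5 c 0) 0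

/-- Code test for the dodecad stabiliser. -/
def in12 (c : ℕ) : Bool := inM24 c && Nat.beq (permMask c (qrMask 0)) (qrMask 0)

/-- Code test for the stabiliser of a point in a dodecad. -/
def in11 (c : ℕ) : Bool := in12 c && Nat.beq (getW 5 c 0) 0

/-- Label of a point relative to the extra point. -/
def extra23 (i : ℕ) : ℕ := bif Nat.beq i 23 then 1 else 0

/-- Label of a point relative to two points. -/
def extra22 (i : ℕ) : ℕ := extra23 i + bif Nat.beq i 0 then 2 else 0

/-- Label of a point relative to the dodecad. -/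
def extra12 (i : ℕ) : ℕ := bif (qrMask 0).testBit i then 1 else 0

/-- Label of a point relative to the dodecad and one of its points. -/
def extra11 (i : ℕ) : ℕ := extra12 i + bif Nat.beq i 0 then 2 else 0

theorem idx_none : idx (none : GolayPt) = 23 := rfl

theorem idx_zero : idx (some 0 : GolayPt) = 0 := rfl

theorem gperm_fix {c : ℕ} (hc : okCode c = true) {p : GolayPt} {i : ℕ} (hp : idx p = i)
    (h : getW 5 c i = i) : gperm c p = p :=
  idx_injective (by rw [idx_gperm hc, hp, h])

theorem mem23 (c : ℕ) (h : in23 c = true) : gperm c ∈ Spor.M23 := by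
  rw [in23, Bool.and_eq_true, Nat.beq_eq] at h
  exact ⟨gperm_mem_M24 h.1, gperm_fix (okCode_of_inM24 h.1) idx_none h.2⟩

theorem mem22 (c : ℕ) (h : in22 c = true) : gperm c ∈ Spor.M22 := by
  rw [in22, Bool.and_eq_true, Nat.beq_eq] at h
  refine ⟨mem23 c h.1, gperm_fix ?_ idx_zero h.2⟩
  rw [in23, Bool.and_eq_true] at h
  exact okCode_of_inM24 h.1.1

theorem mem12 (c : ℕ) (h : in12 c = true) : gperm c ∈ Spor.M12 := by
  rw [in12, Bool.and_eq_true, Nat.beq_eq] at h
  refine ⟨gperm_mem_M24 h.1, ?_⟩
  show gperm c • Spor.squareDodecad = Spor.squareDodecad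
  rw [squareDodecad_eq, smul_setOfMask (okCode_of_inM24 h.1), h.2]

theorem mem11 (c : ℕ) (h : in11 c = true) : gperm c ∈ Spor.M11 := by
  rw [in11, Bool.and_eq_true, Nat.beq_eq] at h
  refine ⟨mem12 c h.1, gperm_fix ?_ idx_zero h.2⟩
  rw [in12, Bool.and_eq_true] at h
  exact okCode_of_inM24 h.1.1

theorem beq_idx_fix {g : Equiv.Perm GolayPt} {p₀ : GolayPt} (hg : g p₀ = p₀) {i : ℕ}
    (hi : idx p₀ = i) (p : GolayPt) : Nat.beq (idx (g p)) i = Nat.beq (idx p) i := by
  rw [Bool.eq_iff_iff, Nat.beq_eq, Nat.beq_eq, ← hi]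
  constructor
  · intro h
    rw [g.injective ((idx_injective h).trans hg.symm)]
  · intro h
    rw [idx_injective h, hg]

theorem extra23_eq : ∀ g ∈ Spor.M23, ∀ p, extra23 (idx (g p)) = extra23 (idx p) := by
  intro g hg p
  rw [extra23, extra23, beq_idx_fix (show g none = none from hg.2) idx_none]

theorem extra22_eq : ∀ g ∈ Spor.M22, ∀ p, extra22 (idx (g p)) = extra22 (idx p) := by
  intro g hg p
  rw [extra22, extra22, extra23_eq g hg.1, beq_idx_fix (show g (some 0) = some 0 from hg.2) idx_zero]

theorem extra12_eq : ∀ g ∈ Spor.M12, ∀ p, extra12 (idx (g p)) = extra12 (idx p) := by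
  intro g hg p
  have h : g p ∈ Spor.squareDodecad ↔ p ∈ Spor.squareDodecad := apply_mem_iff_of_stab hg p
  rw [squareDodecad_eq, mem_setOfMask, mem_setOfMask] at h
  rw [extra12, extra12, Bool.eq_iff_iff.2 h]

theorem extra11_eq : ∀ g ∈ Spor.M11, ∀ p, extra11 (idx (g p)) = extra11 (idx p) := by
  intro g hg p
  rw [extra11, extra11, extra12_eq g hg.1, beq_idx_fix (show g (some 0) = some 0 from hg.2) idx_zero]

theorem card23 : Nat.card Spor.M23 = 10200960 := card_stab_point none

theorem card22 : Nat.card Spor.M22 = 443520 := card_stab_two (by simp)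

theorem card12 : Nat.card Spor.M12 = 95040 := card_dodecadStab squareDodecad_mem

theorem card11 : Nat.card Spor.M11 = 7920 :=
  card_dodecadPointStab squareDodecad_mem (by
    rw [squareDodecad_eq, mem_setOfMask, idx_zero]
    decide +kernel)

end Cfsg.Agent.Lib.FusionAlperin.MathieuInst
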