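import Mathlib
import Cfsg.Agent.Lib.FusionSystem.Saturation

/-!
Two maps of a saturated fusion system that agree on a centric subgroup normal in their source differ by the
conjugation by an element of the centre of that subgroup.
-/

set_option autoImplicit false
set_option linter.style.haveILetI false

namespace Cfsg.Agent.Lib.FusionAlperin.Agree

open Cfsg Cfsg.FusionSystem Cfsg.Agent.Lib.FS

variable {Ω : Type*} [Group Ω] {S : Subgroup Ω} {F : FusionSystem S}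

theorem exists_conj_of_agree [Finite S] {p : ℕ} [Fact p.Prime] (hS : IsPGroup p S) (hF : F.IsSaturated p)
    {R Q : Subgroup Ω} (hQR : Q ≤ R) (hRQ : R ≤ Subgroup.normalizer (Q : Set Ω)) (hQc : F.IsCentric Q)
    {φ φ' : R →* Ω} (hφ : φ ∈ F.Hom R) (hφ' : φ' ∈ F.Hom R)
    (hag : ∀ (q : Ω) (hq : q ∈ Q), φ' ⟨q, hQR hq⟩ = φ ⟨q, hQR hq⟩) :
    ∃ (z : Ω) (hz : z ∈ Q), (∀ q ∈ Q, z * q = q * z) ∧
      ∀ x : R, φ' x = φ (⟨z, hQR hz⟩ * x * ⟨z, hQR hz⟩⁻¹) := by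
  have hR := src_le hφ
  haveI := finite_sub hR
  haveI := finite_sub hQc.1
  -- the discrepancy lies in the image of Q
  set QR : Subgroup Ω := (Q.subgroupOf R).map φ with hQRdef
  have hQconj : F.IsConj Q QR := ⟨_, restrict_mem hφ hQR, (map_subgroupOf_eq_range hQR φ).symm⟩
  have hc : ∀ x : R, ∃ (q : Ω) (hq : q ∈ Q), φ' x = φ (x * ⟨q, hQR hq⟩) := by
    intro x
    have hmem : (φ x)⁻¹ * φ' x ∈ centralizerIn S QR := by
      refine mem_centralizerIn'.2 ⟨S.mul_mem (S.inv_mem (apply_mem hφ x)) (apply_mem hφ' x), ?_⟩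
      rintro _ ⟨⟨w, hwR⟩, hw, rfl⟩
      have hwQ : w ∈ Q := hw
      have hcj : (x : Ω) * w * (x : Ω)⁻¹ ∈ Q := conj_mem_of_normalizer (hRQ x.2) hwQ
      have e1 : φ' x * φ' ⟨w, hwR⟩ * (φ' x)⁻¹ = φ x * φ ⟨w, hwR⟩ * (φ x)⁻¹ := by
        rw [← map_inv, ← map_mul, ← map_mul, ← map_inv, ← map_mul, ← map_mul]
        exact hag _ hcj
      rw [show φ' ⟨w, hwR⟩ = φ ⟨w, hwR⟩ from hag w hwQ] at e1
      calc (φ x)⁻¹ * φ' x * φ ⟨w, hwR⟩ * ((φ x)⁻¹ * φ' x)⁻¹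
          = (φ x)⁻¹ * (φ' x * φ ⟨w, hwR⟩ * (φ' x)⁻¹) * φ x := by group
        _ = φ ⟨w, hwR⟩ := by rw [e1]; group
    obtain ⟨⟨q, hqR⟩, hq, e⟩ := hQc.2 QR hQconj hmem
    refine ⟨q, hq, ?_⟩
    rw [map_mul, show φ ⟨q, hQR hq⟩ = φ ⟨q, hqR⟩ from rfl, e]
    group
  choose c hcQ hc using hc
  -- the automorphism δ = φ⁻¹ φ'
  have hval : ∀ x, φ' x ∈ φ.range := fun x => ⟨_, (hc x).symm⟩
  haveI : Finite φ.range := finite_sub (range_le_base hφ)
  have hr : φ'.range = φ.range := range_eq_of_mem hφ' hval (card_range hφ).le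
  obtain ⟨φi, hφi, hφiR, hφl, -⟩ := exists_inv hφ rfl
  obtain ⟨δh, hδh, heδ⟩ := exists_comp hφ' hφi hval
  have hδR : δh.range = R :=
    range_eq_of_mem hδh (fun x => by rw [heδ]; exact hφiR.le ⟨_, rfl⟩) le_rfl
  set δ : MulAut R := homEquiv hδh hδR with hδdef
  have hδA : δ ∈ F.autGroup R := homEquiv_mem_autGroup hδh hδR
  have hδ : ∀ x : R, δ x = x * ⟨c x, hQR (hcQ x)⟩ := by
    intro x
    refine Subtype.ext ?_
    show δh x = _
    rw [heδ]
    simp only [hc x]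
    exact hφl _ _
  have hfix : ∀ (q : Ω) (hq : q ∈ Q), δ ⟨q, hQR hq⟩ = ⟨q, hQR hq⟩ := by
    intro q hq
    refine Subtype.ext ?_
    show δh _ = q
    rw [heδ]
    simp only [hag q hq]
    exact hφl _ _
  -- it has p-power order
  obtain ⟨k, hk⟩ := IsPGroup.iff_card.1 (isPGroup_of_le hS hQc.1)
  have hiter : ∀ (n : ℕ) (x : R), (δ ^ n) x = x * ⟨c x, hQR (hcQ x)⟩ ^ n := by
    intro n
    induction n with
    | zero => intro x; simp
    | succ n ih =>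
      intro x
      rw [pow_succ', MulAut.mul_apply, ih, map_mul, map_pow, hfix _ (hcQ x), hδ, pow_succ', mul_assoc]
  have hδp : IsPGroup p (Subgroup.zpowers δ) := by
    have h1 : δ ^ p ^ k = 1 := by
      refine MulEquiv.ext fun x => ?_
      rw [hiter, MulAut.one_apply]
      have : (⟨c x, hcQ x⟩ : Q) ^ p ^ k = 1 := by rw [← hk]; exact pow_card_eq_one'
      have h2 : c x ^ p ^ k = 1 := congrArg Subtype.val this
      conv_rhs => rw [← mul_one x]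
      congr 1
      exact Subtype.ext h2
    obtain ⟨j, -, hj⟩ := (Nat.dvd_prime_pow Fact.out).1 (orderOf_dvd_of_pow_eq_one h1)
    exact IsPGroup.of_card (n := j) (by rw [Nat.card_zpowers, hj])
  -- move R to a fully normalized subgroup and conjugate δ into Aut_S
  obtain ⟨R', ⟨β, hβ, hβR'⟩, hR'⟩ := exists_isFullyNormalized F hR
  obtain ⟨T, hT⟩ := (fullyAutomized_of_fullyNormalized hS hF hR').2
  haveI := finite_sub hR'.1
  set B := MulAut.congr (homEquiv hβ hβR') δ with hB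
  have hBA : B ∈ F.autGroup R' := congr_mem_autGroup hβ hβR' hδA
  have hBp : IsPGroup p (Subgroup.zpowers B) := by
    have := hδp.map (MulAut.congr (homEquiv hβ hβR')).toMonoidHom
    rwa [MonoidHom.map_zpowers] at this
  obtain ⟨γ, hγ, hconj⟩ := exists_conj_le_sylow T hT (Subgroup.zpowers_le.2 hBA) hBp
  obtain ⟨s, hs, hse⟩ := mem_autInducedBy.1 (hconj B (Subgroup.mem_zpowers B))
  obtain ⟨τ, hτ, -, hτγ⟩ := exists_hom_of_aut hR'.1 hγ
  obtain ⟨χ, hχ, heχ⟩ := exists_comp hβ hτ fun x => hβR'.le ⟨x, rfl⟩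
  have hχval : ∀ x, χ x = γ (homEquiv hβ hβR' x) := fun x => by rw [heχ, hτγ]; rfl
  have hkey : ∀ x, χ (δ x) = s * χ x * s⁻¹ := by
    intro x
    rw [hχval, hχval, ← hse, MulAut.mul_apply, MulAut.mul_apply, MulAut.inv_apply_self, hB]
    show _ = (γ (homEquiv hβ hβR' (δ ((homEquiv hβ hβR').symm (homEquiv hβ hβR' x)))) : Ω)
    rw [MulEquiv.symm_apply_apply]
  set QX : Subgroup Ω := (Q.subgroupOf R).map χ
  have hQX : F.IsConj Q QX := ⟨_, restrict_mem hχ hQR, (map_subgroupOf_eq_range hQR χ).symm⟩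
  have hsC : s ∈ centralizerIn S QX := by
    refine mem_centralizerIn'.2 ⟨hs, ?_⟩
    rintro _ ⟨⟨w, hwR⟩, hw, rfl⟩
    rw [← hkey, show δ ⟨w, hwR⟩ = ⟨w, hwR⟩ from hfix w hw]
  obtain ⟨⟨z, hzR⟩, hz, hzs⟩ := hQc.2 QX hQX hsC
  have hz' : z ∈ Q := hz
  have hδz : ∀ x : R, δ x = ⟨z, hzR⟩ * x * ⟨z, hzR⟩⁻¹ := by
    intro x
    apply F.injective_of_mem hχ
    rw [hkey, map_mul, map_mul, map_inv, hzs]
  refine ⟨z, hz', fun q hq => ?_, fun x => ?_⟩
  · have h := congrArg (fun y : R => (y : Ω)) ((hfix q hq).symm.trans (hδz ⟨q, hQR hq⟩))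
    simp only [Subgroup.coe_mul, Subgroup.coe_inv] at h
    exact (eq_mul_inv_iff_mul_eq.1 h).symm
  · rw [hc x, ← hδ x, hδz x]

end Cfsg.Agent.Lib.FusionAlperin.Agree
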