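import Mathlib

/-!
# Monomial permutations of a family of cycles of prime length

Permutations of `ι × ZMod p` of the form `(i, z) ↦ (π i, a i * z + b i)`: those with `∏ a = 1`
that are even lie in the subgroup generated by the monomial `p`-elements, when `p ≤ |ι|`.
-/

set_option autoImplicit false

namespace Cfsg.Agent.Lib.FusionAlperin.AltMonomial

open Equiv Equiv.Perm

variable (p : ℕ) [Fact p.Prime] {ι : Type*}

/-- Translations in each fibre. -/
def base : Multiplicative (ι → ZMod p) →* Perm (ι × ZMod p) where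
  toFun f := Equiv.prodCongrRight fun i => Equiv.addRight (f.toAdd i)
  map_one' := by ext x <;> simp
  map_mul' f g := by ext x <;> simp [add_assoc, add_comm (f.toAdd x.1)]

/-- Permutations of the fibres. -/
def top : Perm ι →* Perm (ι × ZMod p) where
  toFun σ := Equiv.prodCongrLeft fun _ => σ
  map_one' := by ext x <;> simp
  map_mul' f g := by ext x <;> simp

/-- Scalings in each fibre. -/
def scal : (ι → (ZMod p)ˣ) →* Perm (ι × ZMod p) where
  toFun a := Equiv.prodCongrRight fun i => (a i).mulLeft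
  map_one' := by ext x <;> simp
  map_mul' f g := by ext x <;> simp [mul_assoc]

theorem base_apply (f : Multiplicative (ι → ZMod p)) (x : ι × ZMod p) :
    base p f x = (x.1, x.2 + f.toAdd x.1) := rfl

theorem top_apply (σ : Perm ι) (x : ι × ZMod p) : top p σ x = (σ x.1, x.2) := rfl

theorem scal_apply (a : ι → (ZMod p)ˣ) (x : ι × ZMod p) :
    scal p a x = (x.1, (a x.1 : ZMod p) * x.2) := rfl

/-- `g` is `(i, z) ↦ (π i, a i * z + b i)`. -/
def HasForm (g : Perm (ι × ZMod p)) (π : Perm ι) (a : ι → (ZMod p)ˣ) (b : ι → ZMod p) : Prop :=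
  ∀ i z, g (i, z) = (π i, (a i : ZMod p) * z + b i)

variable {p}

theorem HasForm.mul {g g' : Perm (ι × ZMod p)} {π π' : Perm ι} {a a' : ι → (ZMod p)ˣ}
    {b b' : ι → ZMod p} (h : HasForm p g π a b) (h' : HasForm p g' π' a' b') :
    HasForm p (g * g') (π * π') (fun i => a (π' i) * a' i)
      (fun i => (a (π' i) : ZMod p) * b' i + b (π' i)) := by
  intro i z
  rw [Perm.mul_apply, h' i z, h]
  refine Prod.ext rfl ?_
  simp only [Units.val_mul]
  ring

theorem HasForm.inv {g : Perm (ι × ZMod p)} {π : Perm ι} {a : ι → (ZMod p)ˣ}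
    {b : ι → ZMod p} (h : HasForm p g π a b) :
    HasForm p g⁻¹ π⁻¹ (fun i => (a (π⁻¹ i))⁻¹) (fun i => -(((a (π⁻¹ i))⁻¹ : (ZMod p)ˣ) : ZMod p) * b (π⁻¹ i)) := by
  intro i z
  rw [Perm.inv_eq_iff_eq, h]
  refine Prod.ext (π.apply_symm_apply i).symm ?_
  simp only
  rw [mul_add, ← mul_assoc, Units.mul_inv, one_mul, ← mul_assoc, mul_neg, Units.mul_inv]
  ring

theorem hasForm_base (f : Multiplicative (ι → ZMod p)) :
    HasForm p (base p f) 1 (fun _ => 1) f.toAdd := by
  intro i z; simp [base_apply]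

theorem hasForm_top (σ : Perm ι) : HasForm p (top p σ) σ (fun _ => 1) (fun _ => 0) := by
  intro i z; simp [top_apply]

theorem hasForm_scal (a : ι → (ZMod p)ˣ) : HasForm p (scal p a) 1 a (fun _ => 0) := by
  intro i z; simp [scal_apply]

variable (p ι)

/-- The group of monomial permutations. -/
def mono : Subgroup (Perm (ι × ZMod p)) where
  carrier := {g | ∃ π a b, HasForm p g π a b}
  mul_mem' := by rintro _ _ ⟨_, _, _, h⟩ ⟨_, _, _, h'⟩; exact ⟨_, _, _, h.mul h'⟩
  one_mem' := ⟨1, fun _ => 1, fun _ => 0, fun i z => by simp⟩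
  inv_mem' := by rintro _ ⟨_, _, _, h⟩; exact ⟨_, _, _, h.inv⟩

/-- The subgroup generated by the monomial `p`-elements. -/
def monoP : Subgroup (Perm (ι × ZMod p)) :=
  Subgroup.closure {x | x ∈ mono p ι ∧ ∃ k, orderOf x = p ^ k}

variable {p ι}

theorem mem_monoP {x : Perm (ι × ZMod p)} (hx : x ∈ mono p ι) (h : x ^ p = 1) : x ∈ monoP p ι := by
  obtain ⟨k, -, hk⟩ := (Nat.dvd_prime_pow Fact.out).1 (show orderOf x ∣ p ^ 1 by
    rw [pow_one]; exact orderOf_dvd_of_pow_eq_one h)
  exact Subgroup.subset_closure ⟨hx, k, hk⟩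

theorem monoP_conj {x h : Perm (ι × ZMod p)} (hh : h ∈ mono p ι) (hx : x ∈ monoP p ι) :
    h * x * h⁻¹ ∈ monoP p ι := by
  induction hx using Subgroup.closure_induction with
  | mem x hx =>
    obtain ⟨hxm, k, hk⟩ := hx
    refine Subgroup.subset_closure ⟨mul_mem (mul_mem hh hxm) (inv_mem hh), k, ?_⟩
    rw [← hk]
    exact orderOf_injective (MulAut.conj h).toMonoidHom (MulAut.conj h).injective x
  | one => simp
  | mul a b _ _ iha ihb =>
    rw [show h * (a * b) * h⁻¹ = (h * a * h⁻¹) * (h * b * h⁻¹) by group]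
    exact mul_mem iha ihb
  | inv a _ iha =>
    rw [show h * a⁻¹ * h⁻¹ = (h * a * h⁻¹)⁻¹ by group]
    exact inv_mem iha

theorem base_mem_monoP (f : Multiplicative (ι → ZMod p)) : base p f ∈ monoP p ι := by
  refine mem_monoP ⟨_, _, _, hasForm_base f⟩ ?_
  rw [← map_pow]
  have : f ^ p = 1 := by
    apply Multiplicative.toAdd.injective
    ext i
    simp
  rw [this, map_one]

variable [Fintype ι] [DecidableEq ι]

theorem top_threeCycle_mem (hp : p ≠ 2) (hm : p ≤ Fintype.card ι) {τ : Perm ι}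
    (hτ : τ.IsThreeCycle) : top p τ ∈ monoP p ι := by
  have hp2 := (Fact.out : p.Prime).two_le
  obtain ⟨c, hc⟩ : ∃ c : Perm ι, c.cycleType = {p} :=
    (exists_with_cycleType_iff ι).2 ⟨by simpa using hm, by simpa using hp2⟩
  have hcp : c ^ p = 1 := by
    have h := pow_orderOf_eq_one c
    rwa [← lcm_cycleType, hc, Multiset.lcm_singleton, normalize_eq] at h
  obtain ⟨u, hu⟩ : ∃ u, c u ≠ u := by
    by_contra h
    push Not at h
    rw [show c = 1 from Equiv.ext h, cycleType_one] at hc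
    exact Multiset.singleton_ne_zero p hc.symm
  have hcu : c (c u) ≠ u := by
    intro h
    have h2 : (c ^ 2) u = u := by rw [pow_two, Perm.mul_apply, h]
    obtain ⟨k, hk⟩ := (Fact.out : p.Prime).odd_of_ne_two hp
    have h3 : (c ^ p) u = c u := by
      rw [hk, pow_succ', pow_mul, Perm.mul_apply, pow_apply_eq_self_of_apply_eq_self h2]
    rw [hcp] at h3
    exact hu h3.symm
  have hu2 : c (c u) ≠ c u := fun h => hu (c.injective h)
  set s := Equiv.swap u (c u) with hs
  set c' := s * c * s⁻¹ with hc'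
  have h3 : (c * c'⁻¹).IsThreeCycle := by
    have e : c * c'⁻¹ = Equiv.swap (c u) (c (c u)) * Equiv.swap (c u) u := by
      rw [swap_apply_apply, swap_comm (c u) u, hc', hs, swap_inv, mul_inv_rev, mul_inv_rev, swap_inv]
      simp only [mul_assoc]
    rw [e]
    exact isThreeCycle_swap_mul_swap_same hu2.symm hu hcu
  obtain ⟨d, hd⟩ := isConj_iff.1 (isConj_iff_cycleType_eq.2 (h3.trans hτ.symm))
  rw [← hd, show d * (c * c'⁻¹) * d⁻¹ = (d * c * d⁻¹) * (d * c' * d⁻¹)⁻¹ by group, map_mul, map_inv]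
  refine mul_mem ?_ (inv_mem ?_) <;> refine mem_monoP ⟨_, _, _, hasForm_top _⟩ ?_ <;>
    rw [← map_pow, conj_pow]
  · rw [hcp, mul_one, mul_inv_cancel, map_one]
  · rw [hc', conj_pow, hcp, mul_one, mul_inv_cancel, mul_one, mul_inv_cancel, map_one]

theorem top_mem_monoP (hp : p ≠ 2) (hm : p ≤ Fintype.card ι) {σ : Perm ι}
    (hσ : σ ∈ alternatingGroup ι) : top p σ ∈ monoP p ι := by
  rw [← Equiv.Perm.closure_three_cycles_eq_alternating] at hσ
  have h := Subgroup.mem_map_of_mem (top p) hσ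
  rw [MonoidHom.map_closure] at h
  exact (Subgroup.closure_le _).2 (by rintro _ ⟨τ, hτ, rfl⟩; exact top_threeCycle_mem hp hm hτ) h

/-- The scaling of one fibre against another. -/
theorem scal_pair_mem (hp : p ≠ 2) (hm : p ≤ Fintype.card ι) (i j : ι) (x : (ZMod p)ˣ) :
    scal p (Pi.mulSingle i x * (Pi.mulSingle j x)⁻¹) ∈ monoP p ι := by
  rcases eq_or_ne i j with rfl | hij
  · rw [mul_inv_cancel, map_one]; exact one_mem _
  have hp3 : 3 ≤ Fintype.card ι := by
    have := (Fact.out : p.Prime).two_le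
    omega
  obtain ⟨k, hki, hkj⟩ : ∃ k, k ≠ i ∧ k ≠ j := by
    have h2 : ({i, j} : Finset ι).card < (Finset.univ : Finset ι).card := by
      rw [Finset.card_pair hij, Finset.card_univ]; omega
    obtain ⟨k, -, hk⟩ := Finset.exists_mem_notMem_of_card_lt_card h2
    simp only [Finset.mem_insert, Finset.mem_singleton, not_or] at hk
    exact ⟨k, hk⟩
  set σ := Equiv.swap i j * Equiv.swap i k with hσ
  have hσm : σ ∈ alternatingGroup ι := by
    rw [mem_alternatingGroup, hσ, map_mul, sign_swap hij, sign_swap hki.symm]; rfl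
  have hσj : σ j = i := by
    rw [hσ, Perm.mul_apply, swap_apply_of_ne_of_ne hij.symm hkj.symm, swap_apply_right]
  have e : top p σ * scal p (Pi.mulSingle j x) * (top p σ)⁻¹ = scal p (Pi.mulSingle i x) := by
    rw [mul_inv_eq_iff_eq_mul]
    refine Equiv.ext fun z => ?_
    simp only [Perm.mul_apply, top_apply, scal_apply]
    refine Prod.ext rfl ?_
    show _ = (((Pi.mulSingle i x : ι → (ZMod p)ˣ) (σ z.1) : (ZMod p)ˣ) : ZMod p) * z.2
    congr 2
    rcases eq_or_ne z.1 j with h | h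
    · rw [h, hσj, Pi.mulSingle_eq_same, Pi.mulSingle_eq_same]
    · rw [Pi.mulSingle_eq_of_ne h, Pi.mulSingle_eq_of_ne (by rw [← hσj]; exact fun h' => h (σ.injective h'))]
  rw [map_mul, map_inv, ← e, mul_assoc (top p σ * _)]
  have h1 := top_mem_monoP hp hm hσm
  have h2 := monoP_conj (⟨_, _, _, hasForm_scal (Pi.mulSingle j x)⟩ : scal p (Pi.mulSingle j x) ∈ mono p ι)
    (inv_mem h1)
  have := mul_mem h1 h2
  rwa [show top p σ * (scal p (Pi.mulSingle j x) * (top p σ)⁻¹ * (scal p (Pi.mulSingle j x))⁻¹) =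
    top p σ * scal p (Pi.mulSingle j x) * ((top p σ)⁻¹ * (scal p (Pi.mulSingle j x))⁻¹) by group] at this

theorem scal_mem_monoP (hp : p ≠ 2) (hm : p ≤ Fintype.card ι) {a : ι → (ZMod p)ˣ}
    (ha : ∏ i, a i = 1) : scal p a ∈ monoP p ι := by
  have : Nonempty ι := Fintype.card_pos_iff.1 ((Fact.out : p.Prime).pos.trans_le hm)
  obtain ⟨i₀⟩ := this
  have h2 : ∏ i, (Pi.mulSingle i₀ (a i) : ι → (ZMod p)ˣ) = Pi.mulSingle i₀ (∏ i, a i) :=
    (map_prod (MonoidHom.mulSingle (fun _ : ι => (ZMod p)ˣ) i₀) _ _).symm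
  have e : a = ∏ i, ((Pi.mulSingle i (a i) : ι → (ZMod p)ˣ) * (Pi.mulSingle i₀ (a i))⁻¹) := by
    rw [Finset.prod_mul_distrib, Finset.prod_inv_distrib, Finset.univ_prod_mulSingle, h2, ha,
      Pi.mulSingle_one, inv_one, mul_one]
  show a ∈ (monoP p ι).comap (scal p)
  rw [e]
  exact Subgroup.prod_mem _ fun i _ => scal_pair_mem hp hm i i₀ (a i)

theorem sign_scal (a : ι → (ZMod p)ˣ) :
    Equiv.Perm.sign (scal p a) = ∏ i, Equiv.Perm.sign (Units.mulLeft (a i) : Perm (ZMod p)) := by
  exact sign_prodCongrRight (fun i => (Units.mulLeft (a i) : Perm (ZMod p)))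

/-- The mult-by-unit permutation as a homomorphism. -/
def mulHom : (ZMod p)ˣ →* Perm (ZMod p) where
  toFun u := u.mulLeft
  map_one' := by ext x; simp
  map_mul' u v := by ext x; simp [mul_assoc]

/-- An even monomial permutation with `∏ a = 1` lies in `monoP`. -/
theorem mem_monoP_of_form (hp : p ≠ 2) (hm : p ≤ Fintype.card ι) {g : Perm (ι × ZMod p)}
    {π : Perm ι} {a : ι → (ZMod p)ˣ} {b : ι → ZMod p} (h : HasForm p g π a b)
    (ha : ∏ i, a i = 1) (hg : Equiv.Perm.sign g = 1) : g ∈ monoP p ι := by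
  have e : g = base p (Multiplicative.ofAdd fun i => b (π.symm i)) * top p π * scal p a := by
    refine Equiv.ext fun ⟨i, z⟩ => ?_
    rw [h i z]
    simp [base_apply, top_apply, scal_apply]
  have hs : Equiv.Perm.sign (scal p a) = 1 := by
    have hh : ∏ i, Equiv.Perm.sign (Units.mulLeft (a i) : Perm (ZMod p)) = (Equiv.Perm.sign.comp (mulHom (p := p))) (∏ i, a i) := by
      rw [map_prod]; rfl
    rw [sign_scal, hh, ha, map_one]
  have hb : Equiv.Perm.sign (base p (Multiplicative.ofAdd fun i => b (π.symm i))) = 1 := by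
    rcases Int.units_eq_one_or (Equiv.Perm.sign (base p (Multiplicative.ofAdd fun i => b (π.symm i)))) with h1 | h1
    · exact h1
    exfalso
    have hpow : base p (Multiplicative.ofAdd fun i => b (π.symm i)) ^ p = 1 := by
      rw [← map_pow]
      have : (Multiplicative.ofAdd fun i => b (π.symm i)) ^ p = 1 := by
        apply Multiplicative.toAdd.injective
        ext i
        simp
      rw [this, map_one]
    have h2 := congrArg Equiv.Perm.sign hpow
    rw [map_pow, h1, map_one, ((Fact.out : p.Prime).odd_of_ne_two hp).neg_one_pow] at h2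
    exact absurd h2 (by decide)
  have ht : Equiv.Perm.sign (top p π) = Equiv.Perm.sign π := by
    show Equiv.Perm.sign (Equiv.prodCongrLeft fun _ => π) = _
    rw [sign_prodCongrLeft, Finset.prod_const, Finset.card_univ, ZMod.card]
    obtain ⟨k, hk⟩ := (Fact.out : p.Prime).odd_of_ne_two hp
    rw [hk, pow_succ, pow_mul, Int.units_sq, one_pow, one_mul]
  have hπ : π ∈ alternatingGroup ι := by
    rw [mem_alternatingGroup, ← ht]
    rw [e, map_mul, map_mul, hs, hb, one_mul, mul_one] at hg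
    exact hg
  rw [e]
  exact mul_mem (mul_mem (base_mem_monoP _) (top_mem_monoP hp hm hπ)) (scal_mem_monoP hp hm ha)

end Cfsg.Agent.Lib.FusionAlperin.AltMonomial
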