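import Mathlib
import Cfsg.Prelude.Def_FusionSystem
import Cfsg.Agent.Lib.FusionSystem.Group
import Cfsg.Agent.Lib.SymSylow.Generated

/-!
# Strongly closed subgroups of Sylow subgroups of alternating groups

For `p ^ 2 ≤ n` a Sylow `p`-subgroup of the alternating group of degree `n` has no strongly
closed subgroups other than the trivial one and itself.
-/

set_option autoImplicit false

namespace Cfsg.Agent.Lib.FusionAlperin.AltStronglyClosed

open Cfsg Cfsg.Agent.Lib.FS Equiv Equiv.Perm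

variable {n p : ℕ} [Fact p.Prime]

/-- Permutations of prime order with equal cycle type are conjugate in the alternating group. -/
theorem isConj_alt (hn : p + 2 ≤ n) {x y : alternatingGroup (Fin n)} (hx : x ^ p = 1)
    (h : IsConj (x : Perm (Fin n)) (y : Perm (Fin n))) : IsConj x y := by
  have hct : (x : Perm (Fin n)).cycleType = Multiset.replicate (x : Perm (Fin n)).cycleType.card p :=
    cycleType_of_pow_prime_eq_one (by rw [← SubmonoidClass.coe_pow, hx]; rfl)
  rcases Nat.lt_or_ge (x : Perm (Fin n)).cycleType.card 2 with h2 | h2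
  · refine alternatingGroup.isConj_of h ?_
    rw [← sum_cycleType, hct, Multiset.sum_replicate, smul_eq_mul, Fintype.card_fin]
    calc (x : Perm (Fin n)).cycleType.card * p + 2 ≤ 1 * p + 2 := by gcongr; omega
      _ ≤ n := by omega
  · obtain ⟨π, hπ⟩ := isConj_iff.1 h
    have hnle : ¬ Subgroup.centralizer {(x : Perm (Fin n))} ≤ alternatingGroup (Fin n) := fun hle => by
      have h1 := count_le_one_of_centralizer_le_alternating hle
      have : (x : Perm (Fin n)).cycleType.count p = (x : Perm (Fin n)).cycleType.card := by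
        conv_lhs => rw [hct]
        rw [Multiset.count_replicate_self]
      have := h1 p
      omega
    obtain ⟨c, hc, hcA⟩ := SetLike.not_le_iff_exists.1 hnle
    rw [Subgroup.mem_centralizer_singleton_iff] at hc
    rw [mem_alternatingGroup] at hcA
    have hc1 : sign c = -1 := (Int.units_eq_one_or _).resolve_left hcA
    rcases Int.units_eq_one_or (sign π) with hs | hs
    · exact isConj_iff.2 ⟨⟨π, mem_alternatingGroup.2 hs⟩, Subtype.ext hπ⟩
    · refine isConj_iff.2 ⟨⟨π * c, mem_alternatingGroup.2 (by rw [map_mul, hs, hc1]; rfl)⟩,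
        Subtype.ext ?_⟩
      show π * c * (x : Perm (Fin n)) * (π * c)⁻¹ = y
      rw [mul_assoc π c, show c * (x : Perm (Fin n)) = x * c from hc, ← hπ]
      group

/-- Every Sylow subgroup of an alternating group is generated by elements of exponent `p`. -/
theorem sylow_generated (n : ℕ) (P : Sylow p (alternatingGroup (Fin n))) :
    (P : Subgroup (alternatingGroup (Fin n))) ≤
      Subgroup.closure {x | x ∈ (P : Subgroup (alternatingGroup (Fin n))) ∧ x ^ p = 1} := by
  obtain ⟨W, h1, -, h3⟩ := SymSylow.Generated.exists_goodSub p n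
  let A := alternatingGroup (Fin n)
  have hWp : IsPGroup p W := IsPGroup.of_card h1
  obtain ⟨T, hT⟩ := (hWp.comap_of_injective A.subtype A.subtype_injective).exists_le_sylow
  let Q : Sylow p (Perm (Fin n)) :=
    Sylow.ofCard W (by rw [h1, Nat.card_perm, Nat.card_eq_fintype_card])
  have hTW : (T : Subgroup A) ≤ W.comap A.subtype := by
    obtain ⟨R, hR⟩ := (T.isPGroup'.map A.subtype).exists_le_sylow
    obtain ⟨g, hg⟩ := MulAction.exists_smul_eq (Perm (Fin n)) R Q
    have hcard : Nat.card (T : Subgroup A) ≤ Nat.card (W.comap A.subtype) := by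
      rw [← Subgroup.card_map_of_injective A.subtype_injective,
        ← Subgroup.card_map_of_injective A.subtype_injective]
      rw [Subgroup.map_comap_eq, A.range_subtype]
      refine Nat.card_le_card_of_injective (fun x : (T : Subgroup A).map A.subtype =>
        (⟨g * x * g⁻¹, ⟨?_, ?_⟩⟩ : ↥(A ⊓ W))) fun a b hab => ?_
      · obtain ⟨a, -, ha⟩ := x.2
        rw [← ha]
        exact (inferInstance : A.Normal).conj_mem _ a.2 g
      · show g * x * g⁻¹ ∈ W
        have : g * (x : Perm (Fin n)) * g⁻¹ ∈ ((g • R : Sylow p (Perm (Fin n))) : Subgroup (Perm (Fin n))) :=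
          ⟨x, hR x.2, rfl⟩
        rw [hg] at this
        exact this
      · exact Subtype.ext (by simpa using congrArg Subtype.val hab)
    exact (Subgroup.eq_of_le_of_card_ge hT hcard).ge
  have hgenT : (T : Subgroup A) ≤ Subgroup.closure {x | x ∈ (T : Subgroup A) ∧ x ^ p = 1} := by
    intro a ha
    have hsub : Subgroup.closure {y | y ∈ W ∧ y ∈ A ∧ y ^ p = 1} ≤
        (Subgroup.closure {y : A | y ∈ (T : Subgroup A) ∧ y ^ p = 1}).map A.subtype := by
      rw [MonoidHom.map_closure]
      refine Subgroup.closure_mono ?_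
      rintro y ⟨hyW, hyA, hyp⟩
      exact ⟨⟨y, hyA⟩, ⟨hT hyW, Subtype.ext hyp⟩, rfl⟩
    obtain ⟨b, hb, hba⟩ := hsub (h3 ⟨hTW ha, a.2⟩)
    exact (A.subtype_injective hba) ▸ hb
  obtain ⟨g, rfl⟩ := MulAction.exists_smul_eq A T P
  rintro _ ⟨a, ha, rfl⟩
  have h := Subgroup.mem_map_of_mem (MulAut.conj g).toMonoidHom (hgenT ha)
  rw [MonoidHom.map_closure] at h
  refine Subgroup.closure_mono ?_ h
  rintro _ ⟨b, ⟨hb, hbp⟩, rfl⟩
  exact ⟨⟨b, hb, rfl⟩, by rw [← map_pow, hbp, map_one]⟩

variable {S : Sylow p (alternatingGroup (Fin n))} {T : Subgroup (alternatingGroup (Fin n))}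

/-- All conjugates in `S` lie in `T`. -/
def Good (S : Sylow p (alternatingGroup (Fin n))) (T : Subgroup (alternatingGroup (Fin n)))
    (y : alternatingGroup (Fin n)) : Prop :=
  ∀ g, g * y * g⁻¹ ∈ (S : Subgroup (alternatingGroup (Fin n))) → g * y * g⁻¹ ∈ T

omit [Fact p.Prime] in
theorem good_conj {y y' : alternatingGroup (Fin n)} (h : Good S T y) (hc : IsConj y y') :
    Good S T y' := by
  obtain ⟨c, rfl⟩ := isConj_iff.1 hc
  intro g hg
  rw [show g * (c * y * c⁻¹) * g⁻¹ = (g * c) * y * (g * c)⁻¹ by group] at hg ⊢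
  exact h _ hg

variable (hTS : T ≤ (S : Subgroup (alternatingGroup (Fin n))))
  (hcl : ∀ g, ∀ x ∈ T, g * x * g⁻¹ ∈ (S : Subgroup (alternatingGroup (Fin n))) → g * x * g⁻¹ ∈ T)

include hcl

omit [Fact p.Prime] in
theorem good_of_mem {x : alternatingGroup (Fin n)} (hx : x ∈ T) : Good S T x :=
  fun g hg => hcl g x hx hg

theorem good_mul {u v : alternatingGroup (Fin n)} (hup : u ^ p = 1) (hvp : v ^ p = 1)
    (huv : Commute u v) (hu : Good S T u) (hv : Good S T v) : Good S T (u * v) := by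
  let U : Subgroup (alternatingGroup (Fin n)) := Subgroup.closure {u, v}
  have hU : IsPGroup p U := by
    have hcomm : ∀ a ∈ U, a ^ p = 1 ∧ Commute a u ∧ Commute a v := by
      intro a ha
      induction ha using Subgroup.closure_induction with
      | mem a ha =>
        rcases ha with rfl | rfl
        · exact ⟨hup, Commute.refl _, huv⟩
        · exact ⟨hvp, huv.symm, Commute.refl _⟩
      | one => exact ⟨one_pow p, Commute.one_left _, Commute.one_left _⟩
      | mul a b _ hb iha ihb =>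
        refine ⟨?_, iha.2.1.mul_left ihb.2.1, iha.2.2.mul_left ihb.2.2⟩
        have hab : Commute a b := by
          have : b ∈ Subgroup.centralizer {a} := by
            refine (Subgroup.closure_le _).2 ?_ hb
            rintro w (rfl | rfl) <;> rw [SetLike.mem_coe, Subgroup.mem_centralizer_singleton_iff]
            · exact iha.2.1.eq.symm
            · exact iha.2.2.eq.symm
          exact (Subgroup.mem_centralizer_singleton_iff.1 this).symm
        rw [hab.mul_pow, iha.1, ihb.1, one_mul]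
      | inv a _ iha =>
        exact ⟨by rw [inv_pow, iha.1, inv_one], iha.2.1.inv_left, iha.2.2.inv_left⟩
    exact fun a => ⟨1, Subtype.ext (by simpa using (hcomm a a.2).1)⟩
  obtain ⟨R, hR⟩ := hU.exists_le_sylow
  obtain ⟨g, hg⟩ := MulAction.exists_smul_eq (alternatingGroup (Fin n)) R S
  have hmem : ∀ a ∈ U, g * a * g⁻¹ ∈ (S : Subgroup (alternatingGroup (Fin n))) := by
    intro a ha
    rw [← hg]
    exact ⟨a, hR ha, rfl⟩
  have h1 := hu g (hmem u (Subgroup.subset_closure (Or.inl rfl)))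
  have h2 := hv g (hmem v (Subgroup.subset_closure (Or.inr rfl)))
  have h3 : g * (u * v) * g⁻¹ ∈ T := by
    rw [show g * (u * v) * g⁻¹ = g * u * g⁻¹ * (g * v * g⁻¹) by group]
    exact mul_mem h1 h2
  exact good_conj (good_of_mem hcl h3) (isConj_iff.2 ⟨g⁻¹, by group⟩)

theorem good_one : Good S T 1 := good_of_mem hcl (one_mem T)

theorem good_pow {u : alternatingGroup (Fin n)} (hup : u ^ p = 1) (hu : Good S T u) :
    ∀ j : ℕ, Good S T (u ^ j)
  | 0 => by rw [pow_zero]; exact good_one hcl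
  | j + 1 => by
    rw [pow_succ]
    exact good_mul hcl (by rw [← pow_mul, mul_comm, pow_mul, hup, one_pow]) hup
      (Commute.pow_self u j) (good_pow hup hu j) hu

omit hcl in
theorem mem_alt_of_pow (hp : p ≠ 2) {σ : Perm (Fin n)} (h : σ ^ p = 1) :
    σ ∈ alternatingGroup (Fin n) :=
  mem_alternatingGroup.2 (SymSylow.Generated.sign_eq_one_of_pow p hp h)

/-- Odd prime: every element of exponent `p` is good. -/
theorem good_all_odd (hn : p + 2 ≤ n) (hp : p ≠ 2) {x : alternatingGroup (Fin n)} (hxT : x ∈ T)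
    (hxp : x ^ p = 1) (hx1 : x ≠ 1) (y : alternatingGroup (Fin n)) (hy : y ^ p = 1) :
    Good S T y := by
  have hp' : p.Prime := Fact.out
  have hp3 : 3 ≤ p := by have := hp'.two_le; omega
  set σ : Perm (Fin n) := (x : Perm (Fin n)) with hσ
  have hσp : σ ^ p = 1 := by rw [hσ, ← SubmonoidClass.coe_pow, hxp]; rfl
  have hσ1 : σ ≠ 1 := fun h => hx1 (Subtype.ext h)
  obtain ⟨c, hc⟩ : σ.cycleFactorsFinset.Nonempty := by
    rw [Finset.nonempty_iff_ne_empty, Ne, cycleFactorsFinset_eq_empty_iff]; exact hσ1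
  obtain ⟨r, hr, hσe⟩ : ∃ r, Disjoint r c ∧ σ = r * c :=
    ⟨σ * c⁻¹, (disjoint_mul_inv_of_mem_cycleFactorsFinset hc), by group⟩
  have hcyc : c.IsCycle := (mem_cycleFactorsFinset_iff.1 hc).1
  have hcp : c ^ p = 1 := by
    have : r ^ p * c ^ p = 1 := by rw [← hr.commute.mul_pow, ← hσe, hσp]
    exact ((hr.zpow_disjoint_zpow (p : ℤ) (p : ℤ)).mul_eq_one_iff.1 (by simpa using this)).2
  have hrp : r ^ p = 1 := by
    have : r ^ p * c ^ p = 1 := by rw [← hr.commute.mul_pow, ← hσe, hσp]
    rwa [hcp, mul_one] at this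
  have hcord : orderOf c = p := orderOf_eq_prime hcp hcyc.ne_one
  have hc2 : (c ^ 2).IsCycle ∧ (c ^ 2).support = c.support := by
    have hcop : Nat.Coprime 2 (orderOf c) := by
      rw [hcord]; exact (Nat.coprime_primes Nat.prime_two hp').2 (Ne.symm hp)
    exact ⟨hcyc.pow_iff.2 hcop, support_pow_coprime hcop⟩
  have hconj : IsConj σ (r * c ^ 2) := by
    rw [isConj_iff_cycleType_eq, hσe, hr.cycleType_mul,
      (hr.mono (le_refl _) hc2.2.le).cycleType_mul, hcyc.cycleType, hc2.1.cycleType, hc2.2]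
  have hvp : (r * c ^ 2) ^ p = 1 := by
    rw [(hr.commute.pow_right 2).mul_pow, hrp, one_mul, ← pow_mul, mul_comm, pow_mul, hcp, one_pow]
  let v : alternatingGroup (Fin n) := ⟨r * c ^ 2, mem_alt_of_pow hp hvp⟩
  have hv : Good S T v := good_conj (good_of_mem hcl hxT) (isConj_alt hn hxp hconj)
  let c' : alternatingGroup (Fin n) := ⟨c, mem_alt_of_pow hp hcp⟩
  have hxc : Commute x c' := Subtype.ext (show σ * c = c * σ by
    rw [hσe, mul_assoc, ← mul_assoc c r, ← hr.commute.eq, mul_assoc])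
  have hvx : v = x * c' := Subtype.ext (show r * c ^ 2 = σ * c by rw [hσe, pow_two, mul_assoc])
  have hc' : Good S T c' := by
    have e : c' = x ^ (p - 1) * v := by
      rw [hvx, ← mul_assoc, ← pow_succ, Nat.sub_add_cancel (by omega), hxp, one_mul]
    rw [e]
    refine good_mul hcl (by rw [← pow_mul, mul_comm, pow_mul, hxp, one_pow]) (Subtype.ext hvp) ?_
      (good_pow hcl hxp (good_of_mem hcl hxT) _) hv
    rw [hvx]
    exact ((Commute.refl x).mul_right hxc).pow_left _
  suffices H : ∀ τ : Perm (Fin n), τ ^ p = 1 → ∀ hA : τ ∈ alternatingGroup (Fin n), Good S T ⟨τ, hA⟩ from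
    H y.1 (by rw [← SubmonoidClass.coe_pow, hy]; rfl) y.2
  intro τ
  induction τ using cycle_induction_on with
  | base_one => exact fun _ _ => good_one hcl
  | base_cycles τ hτ =>
    intro hτp hA
    refine good_conj hc' (isConj_alt hn (Subtype.ext hcp) ?_)
    rw [isConj_iff_cycleType_eq, hcyc.cycleType, hτ.cycleType, ← hcyc.orderOf, hcord,
      ← hτ.orderOf, orderOf_eq_prime hτp hτ.ne_one]
  | induction_disjoint a b hab hac iha ihb =>
    intro habp hA
    have h1 : a ^ p * b ^ p = 1 := by rw [← hab.commute.mul_pow, habp]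
    obtain ⟨hap, hbp⟩ := (hab.zpow_disjoint_zpow (p : ℤ) (p : ℤ)).mul_eq_one_iff.1 (by simpa using h1)
    rw [zpow_natCast] at hap hbp
    have e : (⟨a * b, hA⟩ : alternatingGroup (Fin n)) =
        ⟨a, mem_alt_of_pow hp hap⟩ * ⟨b, mem_alt_of_pow hp hbp⟩ := rfl
    rw [e]
    exact good_mul hcl (Subtype.ext hap) (Subtype.ext hbp) (Subtype.ext hab.commute.eq)
      (iha hap _) (ihb hbp _)

omit hcl in
theorem exists_moved {σ : Perm (Fin n)} (hA : σ ∈ alternatingGroup (Fin n)) (h2 : σ ^ 2 = 1)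
    {b : Fin n} (hb : σ b ≠ b) : ∃ c, σ c ≠ c ∧ c ≠ b ∧ c ≠ σ b := by
  by_contra hne
  push Not at hne
  have hbb : σ (σ b) = b := by rw [← mul_apply, ← pow_two, h2]; rfl
  have : σ = Equiv.swap b (σ b) := by
    refine Equiv.ext fun z => ?_
    rcases eq_or_ne z b with rfl | hzb
    · rw [swap_apply_left]
    rcases eq_or_ne z (σ b) with rfl | hzs
    · rw [swap_apply_right, hbb]
    rw [swap_apply_of_ne_of_ne hzb hzs]
    by_contra hz
    exact hzs (hne z hz hzb)
  rw [mem_alternatingGroup, this, sign_swap (Ne.symm hb)] at hA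
  exact absurd hA (by decide)

omit hcl in
theorem moved_pair {σ : Perm (Fin n)} (h2 : σ ^ 2 = 1) {b c : Fin n}
    (hc : σ c ≠ c) (hcb : c ≠ b) (hcs : c ≠ σ b) : σ c ≠ b ∧ σ c ≠ σ b := by
  have hinv : ∀ z, σ (σ z) = z := fun z => by rw [← mul_apply, ← pow_two, h2]; rfl
  exact ⟨fun h => hcs (by rw [← h, hinv]), fun h => hcb (σ.injective h)⟩

omit hcl in
theorem swaps_disjoint {a b c d : Fin n} (hac : a ≠ c) (had : a ≠ d) (hbc : b ≠ c) (hbd : b ≠ d) :
    Disjoint (Equiv.swap a b) (Equiv.swap c d) := by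
  intro z
  by_cases h1 : z = a
  · exact Or.inr (swap_apply_of_ne_of_ne (h1 ▸ hac) (h1 ▸ had))
  by_cases h2 : z = b
  · exact Or.inr (swap_apply_of_ne_of_ne (h2 ▸ hbc) (h2 ▸ hbd))
  exact Or.inl (swap_apply_of_ne_of_ne h1 h2)

/-- Prime two: every element of exponent two is good. -/
theorem good_all_two (hn : p + 2 ≤ n) (hp : p = 2) {x : alternatingGroup (Fin n)} (hxT : x ∈ T)
    (hxp : x ^ p = 1) (hx1 : x ≠ 1) (y : alternatingGroup (Fin n)) (hy : y ^ p = 1) :
    Good S T y := by
  subst hp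
  set σ : Perm (Fin n) := (x : Perm (Fin n)) with hσ
  have hσ2 : σ ^ 2 = 1 := by rw [hσ, ← SubmonoidClass.coe_pow, hxp]; rfl
  obtain ⟨b, hb⟩ : ∃ b, σ b ≠ b := by
    by_contra h
    push Not at h
    exact hx1 (Subtype.ext (Equiv.ext fun z => h z))
  obtain ⟨c, hc, hcb, hcs⟩ := exists_moved x.2 hσ2 hb
  obtain ⟨hcb', hcs'⟩ := moved_pair hσ2 hc hcb hcs
  -- the conjugate by a transposition
  set s := Equiv.swap b c with hs
  have hvA : s * σ * s⁻¹ ∈ alternatingGroup (Fin n) :=
    (inferInstance : (alternatingGroup (Fin n)).Normal).conj_mem _ x.2 _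
  have hv2 : (⟨_, hvA⟩ : alternatingGroup (Fin n)) ^ 2 = 1 := Subtype.ext (by
    show (s * σ * s⁻¹) ^ 2 = 1
    rw [conj_pow, hσ2]; group)
  have hv : Good S T ⟨_, hvA⟩ :=
    good_conj (good_of_mem hcl hxT) (isConj_alt hn hxp (isConj_iff.2 ⟨s, rfl⟩))
  have hkey : σ * (s * σ * s⁻¹) = Equiv.swap (σ b) (σ c) * Equiv.swap b c := by
    calc σ * (s * σ * s⁻¹) = σ * s * σ⁻¹ * (σ * σ) * s⁻¹ := by group
      _ = _ := by rw [← pow_two, hσ2, mul_one, hs, ← swap_apply_apply, swap_inv]
  have hdis : Disjoint (Equiv.swap (σ b) (σ c)) (Equiv.swap b c) :=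
    swaps_disjoint hb (Ne.symm hcs) hcb' hc
  have hcomm : Commute x ⟨_, hvA⟩ := by
    have h4 : (σ * (s * σ * s⁻¹)) ^ 2 = 1 := by
      rw [hkey, hdis.commute.mul_pow, pow_two, swap_mul_self, pow_two, swap_mul_self, one_mul]
    refine Subtype.ext (show σ * (s * σ * s⁻¹) = (s * σ * s⁻¹) * σ from ?_)
    have e1 : σ⁻¹ = σ := inv_eq_of_mul_eq_one_right (by rw [← pow_two, hσ2])
    have e2 : (s * σ * s⁻¹)⁻¹ = s * σ * s⁻¹ := by rw [mul_inv_rev, mul_inv_rev, inv_inv, e1, mul_assoc]
    rw [pow_two] at h4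
    have e3 := inv_eq_of_mul_eq_one_right h4
    rw [mul_inv_rev, e1, e2] at e3
    exact e3.symm
  have hu := good_mul hcl hxp hv2 hcomm (good_of_mem hcl hxT) hv
  -- all elements
  suffices H : ∀ k, ∀ τ : Perm (Fin n), τ.support.card ≤ k → τ ^ 2 = 1 →
      ∀ hA : τ ∈ alternatingGroup (Fin n), Good S T ⟨τ, hA⟩ from
    H _ y.1 le_rfl (by rw [← SubmonoidClass.coe_pow, hy]; rfl) y.2
  intro k
  induction k with
  | zero =>
    intro τ hτ _ hA
    have : τ = 1 := support_eq_empty_iff.1 (Finset.card_eq_zero.1 (by omega))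
    subst this
    exact good_one hcl
  | succ k ih =>
    intro τ hτ hτ2 hA
    by_cases h1 : τ = 1
    · subst h1; exact good_one hcl
    obtain ⟨a, ha⟩ : ∃ a, τ a ≠ a := by
      by_contra h
      push Not at h
      exact h1 (Equiv.ext fun z => h z)
    obtain ⟨d, hd, hda, hds⟩ := exists_moved hA hτ2 ha
    obtain ⟨hda', hds'⟩ := moved_pair hτ2 hd hda hds
    have hinv : ∀ z, τ (τ z) = z := fun z => by rw [← mul_apply, ← pow_two, hτ2]; rfl
    set w := Equiv.swap a (τ a) * Equiv.swap d (τ d) with hw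
    have hwdis : Disjoint (Equiv.swap a (τ a)) (Equiv.swap d (τ d)) :=
      swaps_disjoint (Ne.symm hda) (Ne.symm hda') (Ne.symm hds) (Ne.symm hds')
    have hwA : w ∈ alternatingGroup (Fin n) := mem_alternatingGroup.2 (by
      rw [hw, map_mul, sign_swap (Ne.symm ha), sign_swap (Ne.symm hd)]; rfl)
    have hw2 : w ^ 2 = 1 := by
      rw [hw, hwdis.commute.mul_pow, pow_two, swap_mul_self, pow_two, swap_mul_self, one_mul]
    have hwτ : Commute w τ := by
      have e : τ * w * τ⁻¹ = w := by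
        rw [hw, show τ * (Equiv.swap a (τ a) * Equiv.swap d (τ d)) * τ⁻¹ =
          τ * Equiv.swap a (τ a) * τ⁻¹ * (τ * Equiv.swap d (τ d) * τ⁻¹) by group,
          ← swap_apply_apply, ← swap_apply_apply, hinv, hinv, swap_comm (τ a), swap_comm (τ d)]
      exact (mul_inv_eq_iff_eq_mul.1 e).symm
    have hwgood : Good S T ⟨w, hwA⟩ := by
      refine good_conj hu (isConj_alt hn ?_ ?_)
      · rw [hcomm.mul_pow, hxp, hv2, one_mul]
      · show IsConj (σ * (s * σ * s⁻¹)) w
        rw [hkey, isConj_iff_cycleType_eq, hw, hdis.cycleType_mul, hwdis.cycleType_mul]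
        have e2 : ∀ i j : Fin n, i ≠ j → (Equiv.swap i j).cycleType = {2} := fun i j h => by
          rw [(isCycle_swap h).cycleType, card_support_swap h]
        rw [e2 (σ b) (σ c) (fun h => hcb (σ.injective h).symm), e2 b c (Ne.symm hcb),
          e2 a (τ a) (Ne.symm ha), e2 d (τ d) (Ne.symm hd)]
    have hτ' : (w * τ).support ⊆ τ.support.erase a := by
      intro z hz
      rw [mem_support, mul_apply] at hz
      rw [Finset.mem_erase, mem_support]
      refine ⟨?_, fun hτz => ?_⟩
      · rintro rfl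
        apply hz
        rw [hw, mul_apply, swap_apply_of_ne_of_ne (Ne.symm hds) (Ne.symm hds'), swap_apply_right]
      · apply hz
        have e1 : z ≠ a := fun h => ha (h ▸ hτz)
        have e2 : z ≠ τ a := fun h => ha (τ.injective (h ▸ hτz))
        have e3 : z ≠ d := fun h => hd (h ▸ hτz)
        have e4 : z ≠ τ d := fun h => hd (τ.injective (h ▸ hτz))
        rw [hτz, hw, mul_apply, swap_apply_of_ne_of_ne e3 e4, swap_apply_of_ne_of_ne e1 e2]
    have hlt : (w * τ).support.card ≤ k := by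
      have h3 := Finset.card_le_card hτ'
      rw [Finset.card_erase_of_mem (mem_support.2 ha)] at h3
      omega
    have hwτ2 : (w * τ) ^ 2 = 1 := by rw [hwτ.mul_pow, hw2, hτ2, one_mul]
    have e : (⟨τ, hA⟩ : alternatingGroup (Fin n)) = ⟨w, hwA⟩ * ⟨w * τ, mul_mem hwA hA⟩ := by
      refine Subtype.ext (show τ = w * (w * τ) from ?_)
      rw [← mul_assoc, ← pow_two, hw2, one_mul]
    rw [e]
    exact good_mul hcl (Subtype.ext hw2) (Subtype.ext hwτ2)
      (Subtype.ext ((Commute.refl w).mul_right hwτ).eq) hwgood (ih _ hlt hwτ2 _)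

omit hcl

/-- The only strongly closed subgroups are the trivial one and the whole Sylow subgroup. -/
theorem eq_bot_or_top (hn : p + 2 ≤ n) (S : Sylow p (alternatingGroup (Fin n)))
    (T : Subgroup (alternatingGroup (Fin n)))
    (hT : (groupFusionSystem (S : Subgroup (alternatingGroup (Fin n)))).StronglyClosed T) :
    T = ⊥ ∨ T = (S : Subgroup (alternatingGroup (Fin n))) := by
  obtain ⟨hTS, hcl0⟩ := hT
  by_cases hb : T = ⊥
  · exact Or.inl hb
  right
  have hcl : ∀ g, ∀ x ∈ T, g * x * g⁻¹ ∈ (S : Subgroup (alternatingGroup (Fin n))) →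
      g * x * g⁻¹ ∈ T := by
    intro g x hx hgx
    refine hcl0 (Subgroup.zpowers x) (Subgroup.zpowers_le.2 hx) (conjHom _ g)
      (conjHom_mem_group ((Subgroup.zpowers_le.2 hx).trans hTS) ?_) ⟨x, Subgroup.mem_zpowers x⟩
    intro y hy
    obtain ⟨k, rfl⟩ := Subgroup.mem_zpowers_iff.1 hy
    rw [← conj_zpow]
    exact Subgroup.zpow_mem _ hgx k
  have : Nontrivial T := (Subgroup.nontrivial_iff_ne_bot T).2 hb
  obtain ⟨k, hk, hcard⟩ := (S.isPGroup'.to_le hTS).nontrivial_iff_card.1 this
  obtain ⟨x, hx⟩ := exists_prime_orderOf_dvd_card' (G := T) p (hcard ▸ dvd_pow_self p (by omega))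
  have hxp : (x : alternatingGroup (Fin n)) ^ p = 1 := by
    rw [← SubmonoidClass.coe_pow, ← hx, pow_orderOf_eq_one]; rfl
  have hx1 : (x : alternatingGroup (Fin n)) ≠ 1 := by
    intro h
    rw [show x = 1 from Subtype.ext h, orderOf_one] at hx
    exact (Fact.out : p.Prime).one_lt.ne hx
  refine le_antisymm hTS ((sylow_generated n S).trans ((Subgroup.closure_le _).2 ?_))
  rintro y ⟨hy, hyp⟩
  have hgood : Good S T y := by
    rcases eq_or_ne p 2 with h | h
    · exact good_all_two hcl hn h x.2 hxp hx1 y hyp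
    · exact good_all_odd hcl hn h x.2 hxp hx1 y hyp
  simpa using hgood 1 (by simpa using hy)

end Cfsg.Agent.Lib.FusionAlperin.AltStronglyClosed
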