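import Cfsg.Agent.Lib.FusionAlperin.AltTorus
import Cfsg.Agent.Lib.FusionAlperin.AltStronglyClosed
import Cfsg.Agent.Lib.SymSylow.Alternating
import Cfsg.Agent.S5339

/-!
# Simplicity of the fusion systems of alternating groups
-/

set_option autoImplicit false

namespace Cfsg.Agent.Lib.FusionAlperin.AltSimple

open Equiv Equiv.Perm AltMonomial AltTorus

variable {n p : ℕ} [Fact p.Prime]

theorem units_pow_prime_pow (u : (ZMod p)ˣ) : ∀ m : ℕ, u ^ p ^ m = u
  | 0 => by simp
  | m + 1 => by
    rw [pow_succ, pow_mul, units_pow_prime_pow u m]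
    calc u ^ p = u ^ (p - 1 + 1) := by rw [Nat.sub_add_cancel (Fact.out : p.Prime).pos]
      _ = u := by rw [pow_succ, ZMod.units_pow_card_sub_one_eq_one, one_mul]

theorem factorial_factorization_add {n k : ℕ} (h1 : p ^ k ≤ n) (h2 : n < p ^ (k + 1)) :
    n.factorial.factorization p =
      (p ^ k).factorial.factorization p + (n - p ^ k).factorial.factorization p := by
  have hp : p.Prime := Fact.out
  have hlog : ∀ m ≤ n, Nat.log p m < n + 1 := fun m hm => by
    have := Nat.log_le_self p m; omega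
  rw [Nat.factorization_factorial hp (hlog n le_rfl),
    Nat.factorization_factorial hp (hlog _ h1), Nat.factorization_factorial hp (hlog _ (Nat.sub_le _ _)),
    ← Finset.sum_add_distrib]
  refine Finset.sum_congr rfl fun i _ => ?_
  rcases le_or_gt i k with hik | hik
  · have hd : p ^ i ∣ p ^ k := pow_dvd_pow p hik
    conv_lhs => rw [show n = p ^ k + (n - p ^ k) by omega]
    exact Nat.add_div_of_dvd_right hd
  · have hi : p ^ (k + 1) ≤ p ^ i := Nat.pow_le_pow_right hp.pos hik
    rw [Nat.div_eq_of_lt (by omega), Nat.div_eq_of_lt (by omega), Nat.div_eq_of_lt (by omega)]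

/-- Lifting an element of a subgroup of permutations generated by even elements. -/
theorem mem_closure_alt {s : Set (Perm (Fin n))} {t : Set (alternatingGroup (Fin n))}
    (h : ∀ x ∈ s, ∃ y ∈ t, (y : Perm (Fin n)) = x) {g : alternatingGroup (Fin n)}
    (hg : (g : Perm (Fin n)) ∈ Subgroup.closure s) : g ∈ Subgroup.closure t := by
  have h1 : Subgroup.closure s ≤ (Subgroup.closure t).map (alternatingGroup (Fin n)).subtype :=
    (Subgroup.closure_le _).2 fun x hx => by
      obtain ⟨y, hy, rfl⟩ := h x hx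
      exact ⟨y, Subgroup.subset_closure hy, rfl⟩
  obtain ⟨y, hy, hye⟩ := h1 hg
  rwa [← Subtype.ext hye]

variable (n p)

/-- The normaliser of some Sylow subgroup is generated by covered elements. -/
theorem exists_covered (hp : p ≠ 2) (hnp : p ^ 2 ≤ n) (hb : n % p ≤ 1) :
    ∃ S₀ : Sylow p (alternatingGroup (Fin n)),
      Subgroup.normalizer ((S₀ : Subgroup (alternatingGroup (Fin n))) : Set (alternatingGroup (Fin n))) ≤
        Subgroup.closure (Covered p (S₀ : Subgroup (alternatingGroup (Fin n)))) := by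
  classical
  have hp' : p.Prime := Fact.out
  have hn0 : n ≠ 0 := by
    have := pow_pos hp'.pos 2
    omega
  set k := Nat.log p n with hk
  have hk2 : 2 ≤ k := Nat.le_log_of_pow_le hp'.one_lt hnp
  have hkn : p ^ k ≤ n := Nat.pow_log_le_self p hn0
  have hkn' : n < p ^ (k + 1) := Nat.lt_pow_succ_log_self hp'.one_lt n
  set r := n - p ^ k with hr
  set q := r / p with hq
  set e := r % p with he
  have he1 : e ≤ 1 := by
    have h1 : n % p = r % p := by
      conv_lhs => rw [show n = r + p * p ^ (k - 1) by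
        rw [← pow_succ', Nat.sub_add_cancel (by omega)]; omega]
      exact Nat.add_mul_mod_self_left _ _ _
    omega
  obtain ⟨Y, _, _, hYcard, ⟨L⟩⟩ := AltWreath.exists_level p (k - 1) (by omega)
  have hBig : Nat.card (Y × ZMod p) = p ^ k := by
    rw [Nat.card_prod, hYcard, Nat.card_zmod, ← pow_succ, Nat.sub_add_cancel (by omega)]
  have hSmall : Nat.card ((Fin q × ZMod p) ⊕ Fin e) = r := by
    rw [Nat.card_sum, Nat.card_prod, Nat.card_fin, Nat.card_fin, Nat.card_zmod, mul_comm]
    exact Nat.div_add_mod r p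
  let F : (Y × ZMod p) ⊕ ((Fin q × ZMod p) ⊕ Fin e) ≃ Fin n := Fintype.equivFinOfCardEq (by
    rw [← Nat.card_eq_fintype_card, Nat.card_sum, hBig, hSmall]; omega)
  let bigE : Y × ZMod p ↪ Fin n := ⟨fun a => F (Sum.inl a), F.injective.comp Sum.inl_injective⟩
  let smallE : (Fin q × ZMod p) ⊕ Fin e ↪ Fin n :=
    ⟨fun a => F (Sum.inr a), F.injective.comp Sum.inr_injective⟩
  let j : (Y ⊕ Fin q) × ZMod p ↪ Fin n :=
    ⟨fun x => F (Sum.map id Sum.inl (Equiv.sumProdDistrib Y (Fin q) (ZMod p) x)),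
      F.injective.comp ((Sum.map_injective.2 ⟨Function.injective_id, Sum.inl_injective⟩).comp
        (Equiv.injective _))⟩
  have hjl : ∀ y z, j (Sum.inl y, z) = bigE (y, z) := fun _ _ => rfl
  have hjr : ∀ i z, j (Sum.inr i, z) = smallE (Sum.inl (i, z)) := fun _ _ => rfl
  have hcases : ∀ x : Fin n, (∃ a, bigE a = x) ∨ (∃ i z, j (Sum.inr i, z) = x) ∨
      (∃ o, smallE (Sum.inr o) = x) := by
    intro x
    obtain ⟨(a | ⟨i, z⟩ | o), rfl⟩ := F.surjective x
    · exact Or.inl ⟨a, rfl⟩
    · exact Or.inr (Or.inl ⟨i, z, rfl⟩)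
    · exact Or.inr (Or.inr ⟨o, rfl⟩)
  have hBS : ∀ a b, bigE a ≠ smallE b := fun a b h => Sum.inl_ne_inr (F.injective h)
  have hout : ∀ x y : Fin n, x ∉ Set.range j → y ∉ Set.range j → x = y := by
    intro x y hx hy
    rcases hcases x with ⟨⟨a, z⟩, rfl⟩ | ⟨i, z, rfl⟩ | ⟨o, rfl⟩
    · exact absurd ⟨_, hjl a z⟩ hx
    · exact absurd ⟨_, rfl⟩ hx
    rcases hcases y with ⟨⟨a, z⟩, rfl⟩ | ⟨i, z, rfl⟩ | ⟨o', rfl⟩
    · exact absurd ⟨_, hjl a z⟩ hy
    · exact absurd ⟨_, rfl⟩ hy
    rw [show o = o' from Fin.ext (by have := o.2; have := o'.2; omega)]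
  set vB : Perm (Y × ZMod p) →* Perm (Fin n) := Perm.viaEmbeddingHom bigE with hvB
  set vS : Perm ((Fin q × ZMod p) ⊕ Fin e) →* Perm (Fin n) := Perm.viaEmbeddingHom smallE with hvS
  have hvBb : ∀ g a, vB g (bigE a) = bigE (g a) := fun g a => via_apply bigE g a
  have hvBs : ∀ g b, vB g (smallE b) = smallE b := fun g b =>
    via_apply_notMem bigE g fun ⟨a, ha⟩ => hBS a b ha
  have hvSs : ∀ g b, vS g (smallE b) = smallE (g b) := fun g b => via_apply smallE g b
  have hvSb : ∀ g a, vS g (bigE a) = bigE a := fun g a =>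
    via_apply_notMem smallE g fun ⟨b, hb⟩ => hBS a b hb.symm
  have hext : ∀ g g' : Perm (Fin n), (∀ a, g (bigE a) = g' (bigE a)) →
      (∀ b, g (smallE b) = g' (smallE b)) → g = g' := fun g g' h1 h2 => Equiv.ext fun x => by
    rcases hcases x with ⟨a, rfl⟩ | ⟨i, z, rfl⟩ | ⟨o, rfl⟩
    exacts [h1 a, h2 _, h2 _]
  have hcomm : ∀ g g', Commute (vB g) (vS g') := fun g g' => hext _ _
    (fun a => by rw [Perm.mul_apply, Perm.mul_apply, hvSb, hvBb, hvSb])
    (fun b => by rw [Perm.mul_apply, Perm.mul_apply, hvBs, hvSs, hvBs])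
  -- the small Sylow subgroup
  let homE : Multiplicative (Fin q → ZMod p) →* Perm ((Fin q × ZMod p) ⊕ Fin e) :=
    (Perm.sumCongrHom _ _).comp ((base p).prod 1)
  have hhomEl : ∀ f i z, homE f (Sum.inl (i, z)) = Sum.inl (i, z + f.toAdd i) := fun _ _ _ => rfl
  have hhomEr : ∀ f o, homE f (Sum.inr o) = Sum.inr o := fun _ _ => rfl
  have hEp : IsPGroup p homE.range := by
    rintro ⟨_, f, rfl⟩
    refine ⟨1, Subtype.ext ?_⟩
    show homE f ^ p ^ 1 = 1
    rw [pow_one, ← map_pow]
    have : f ^ p = 1 := by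
      apply Multiplicative.toAdd.injective
      ext i
      simp
    rw [this, map_one]
  obtain ⟨Wr, hWr⟩ := hEp.exists_le_sylow
  let Φ : L.wr × (Wr : Subgroup (Perm ((Fin q × ZMod p) ⊕ Fin e))) →* Perm (Fin n) :=
    MonoidHom.noncommCoprod (vB.comp L.wr.subtype) (vS.comp (Wr : Subgroup (Perm ((Fin q × ZMod p) ⊕ Fin e))).subtype)
      fun a b => hcomm _ _
  have hΦ : ∀ (a : L.wr) (b : (Wr : Subgroup (Perm ((Fin q × ZMod p) ⊕ Fin e)))),
      Φ (a, b) = vB (a : Perm (Y × ZMod p)) * vS (b : Perm ((Fin q × ZMod p) ⊕ Fin e)) := fun _ _ => rfl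
  have hΦinj : Function.Injective Φ := by
    refine (injective_iff_map_eq_one Φ).2 fun ab h => ?_
    obtain ⟨a, b⟩ := ab
    rw [hΦ] at h
    refine Prod.ext (Subtype.ext (Equiv.ext fun x => ?_)) (Subtype.ext (Equiv.ext fun x => ?_))
    · have := Equiv.congr_fun h (bigE x)
      rw [Perm.mul_apply, hvSb, hvBb] at this
      exact bigE.injective this
    · have := Equiv.congr_fun h (smallE x)
      rw [Perm.mul_apply, hvSs, hvBs] at this
      exact smallE.injective this
  set S' := Φ.range with hS'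
  have hS'card : Nat.card S' = p ^ n.factorial.factorization p := by
    rw [hS', ← Nat.card_congr (MonoidHom.ofInjective hΦinj).toEquiv, Nat.card_prod, L.card_wr_eq,
      Sylow.card_eq_multiplicity, Nat.card_perm, hBig, hSmall, ← pow_add,
      ← factorial_factorization_add hkn hkn']
  have hS'p : IsPGroup p S' := IsPGroup.of_card hS'card
  have hS'A : S' ≤ alternatingGroup (Fin n) := fun x hx => by
    obtain ⟨m, hm⟩ := hS'p ⟨x, hx⟩
    exact even_of_pow hp (k := m) (congrArg Subtype.val hm)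
  let A := alternatingGroup (Fin n)
  have hcardA : Nat.card (S'.comap A.subtype) = p ^ (Nat.card A).factorization p := by
    rw [← Subgroup.card_map_of_injective A.subtype_injective, Subgroup.map_comap_eq, A.range_subtype,
      inf_eq_right.2 hS'A, hS'card]
    have : Nontrivial (Fin n) := Fin.nontrivial_iff_two_le.2 (by
      have := Nat.pow_le_pow_left hp'.two_le 2
      omega)
    have h2 : 2 * Nat.card A = n.factorial := by
      rw [two_mul_nat_card_alternatingGroup, Nat.card_perm, Nat.card_fin]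
    rw [← h2, Nat.factorization_mul (by norm_num) (Nat.card_pos (α := A)).ne', Finsupp.add_apply,
      Nat.factorization_eq_zero_of_not_dvd (fun h => hp ((Nat.prime_dvd_prime_iff_eq hp' Nat.prime_two).1 h)),
      zero_add]
  refine ⟨Sylow.ofCard (S'.comap A.subtype) hcardA, ?_⟩
  show Subgroup.normalizer ((S'.comap A.subtype : Subgroup A) : Set A) ≤
    Subgroup.closure (Covered p (S'.comap A.subtype))
  -- membership in `S'`
  have hBmem : ∀ w ∈ L.wr, vB w ∈ S' := fun w hw => ⟨(⟨w, hw⟩, 1), by rw [hΦ]; simp⟩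
  have hbase : ∀ f : Multiplicative ((Y ⊕ Fin q) → ZMod p), baseN j f =
      vB (base p (Multiplicative.ofAdd fun y => f.toAdd (Sum.inl y))) *
        vS (homE (Multiplicative.ofAdd fun i => f.toAdd (Sum.inr i))) := by
    intro f
    refine hext _ _ (fun ⟨y, z⟩ => ?_) (fun b => ?_)
    · rw [← hjl, baseN_apply, Perm.mul_apply, hjl, hjl, hvSb, hvBb]
      rfl
    · rw [Perm.mul_apply, hvSs, hvBs]
      rcases b with ⟨i, z⟩ | o
      · rw [hhomEl, ← hjr, baseN_apply, hjr]; rfl
      · rw [hhomEr]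
        refine baseN_apply_notMem j f ?_
        rintro ⟨⟨(y | i), z⟩, h⟩
        · exact hBS _ _ ((hjl y z).symm.trans h)
        · rw [hjr] at h
          exact Sum.inl_ne_inr (smallE.injective h)
  have hbaseS : ∀ f, baseN j f ∈ S' := fun f => by
    rw [hbase]
    exact ⟨(⟨_, L.base_mem_wr _⟩, ⟨_, hWr ⟨_, rfl⟩⟩), rfl⟩
  -- the translation subgroup
  let gR : Set (Perm (Fin n)) := {x | (∃ v, x = vB (Equiv.addLeft v)) ∨
    ∃ f : Multiplicative ((Y ⊕ Fin q) → ZMod p), (∀ y, f.toAdd (Sum.inl y) = 0) ∧ x = baseN j f}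
  let R' := Subgroup.closure gR
  have hR'S : R' ≤ S' := (Subgroup.closure_le _).2 (by
    rintro x (⟨v, rfl⟩ | ⟨f, -, rfl⟩)
    exacts [hBmem _ (L.add_mem_wr v), hbaseS f])
  have hRC : Subgroup.centralizer ((R'.comap A.subtype : Subgroup A) : Set A) ≤ R'.comap A.subtype := by
    intro g hg
    have hc : ∀ x ∈ R', Commute (g : Perm (Fin n)) x := fun x hx =>
      (congrArg Subtype.val (hg ⟨x, hS'A (hR'S hx)⟩ hx)).symm
    have hmv : ∀ v, Commute (g : Perm (Fin n)) (vB (Equiv.addLeft v)) := fun v =>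
      hc _ (Subgroup.subset_closure (Or.inl ⟨v, rfl⟩))
    obtain ⟨b, hb0⟩ : ∃ b, bigE b = (g : Perm (Fin n)) (bigE 0) := by
      have hne : ((0 : Y), (1 : ZMod p)) ≠ 0 := fun h => one_ne_zero (congrArg Prod.snd h)
      rcases hcases ((g : Perm (Fin n)) (bigE 0)) with h | ⟨i, z, h⟩ | ⟨o, h⟩
      · exact h
      · exfalso
        have h3 := Equiv.congr_fun (hmv ((0 : Y), (1 : ZMod p))).eq (bigE 0)
        rw [Perm.mul_apply, Perm.mul_apply, hvBb, ← h, hjr, hvBs, ← hjr, h] at h3
        exact hne (by simpa using bigE.injective ((g : Perm (Fin n)).injective h3))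
      · exfalso
        have h3 := Equiv.congr_fun (hmv ((0 : Y), (1 : ZMod p))).eq (bigE 0)
        rw [Perm.mul_apply, Perm.mul_apply, hvBb, ← h, hvBs, h] at h3
        exact hne (by simpa using bigE.injective ((g : Perm (Fin n)).injective h3))
    have hbig : ∀ v, (g : Perm (Fin n)) (bigE v) = bigE (v + b) := by
      intro v
      have h3 := Equiv.congr_fun (hmv v).eq (bigE 0)
      rw [Perm.mul_apply, Perm.mul_apply, hvBb, ← hb0, hvBb] at h3
      simpa using h3
    choose bq hbq using fun i : Fin q => commute_shift j (Sum.inr i) (hc _ (Subgroup.subset_closure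
      (Or.inr ⟨Multiplicative.ofAdd (Pi.single (Sum.inr i) (1 : ZMod p)),
        fun y => by simp, rfl⟩)))
    have hmap : ∀ x, (g : Perm (Fin n)) (j x) ∈ Set.range j := by
      rintro ⟨(y | i), z⟩
      · rw [hjl, hbig]; exact ⟨_, hjl _ _⟩
      · exact ⟨_, (hbq i z).symm⟩
    have hg' : (g : Perm (Fin n)) = vB (Equiv.addLeft b) *
        baseN j (Multiplicative.ofAdd (Sum.elim (fun _ => (0 : ZMod p)) bq)) := by
      refine hext _ _ (fun ⟨y, z⟩ => ?_) (fun s => ?_)
      · rw [Perm.mul_apply, hbig, ← hjl y z, baseN_apply, hjl, hvBb]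
        simp [add_comm]
      · rcases s with ⟨i, z⟩ | o
        · rw [Perm.mul_apply, ← hjr, hbq, baseN_apply, hjr, hjr, hvBs]
          rfl
        · have hno : smallE (Sum.inr o) ∉ Set.range j := by
            rintro ⟨⟨(y | i), z⟩, h⟩
            · exact hBS _ _ ((hjl y z).symm.trans h)
            · rw [hjr] at h; exact Sum.inl_ne_inr (smallE.injective h)
          rw [Perm.mul_apply, fix_outside j hout hmap hno, baseN_apply_notMem j _ hno, hvBs]
    show (g : Perm (Fin n)) ∈ R'
    rw [hg']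
    exact mul_mem (Subgroup.subset_closure (Or.inl ⟨b, rfl⟩))
      (Subgroup.subset_closure (Or.inr ⟨_, fun _ => rfl, rfl⟩))
  -- the fibrewise translation subgroup
  let E' := (baseN j).range
  have hE'S : E' ≤ S' := by rintro _ ⟨f, rfl⟩; exact hbaseS f
  have hEC : Subgroup.centralizer ((E'.comap A.subtype : Subgroup A) : Set A) ≤ E'.comap A.subtype := by
    intro g hg
    obtain ⟨f, hf⟩ := centralizer_baseN j hout (g := (g : Perm (Fin n))) fun f =>
      (congrArg Subtype.val (hg ⟨baseN j f, hS'A (hbaseS f)⟩ ⟨f, rfl⟩)).symm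
    exact ⟨f, hf.symm⟩
  -- the torus
  have htorus : ∀ u : (ZMod p)ˣ, ∃ T : A, T ∈ Covered p (S'.comap A.subtype) ∧
      T⁻¹ ∈ Covered p (S'.comap A.subtype) ∧ ∃ (t : Perm ((Y ⊕ Fin q) × ZMod p)) (π : Perm (Y ⊕ Fin q)),
        Perm.viaEmbeddingHom j t = T ∧
        HasForm p t π (Sum.elim (fun _ => u⁻¹) fun _ => 1) (fun _ => 0) := by
    intro u
    have hK : vB (L.torus u) ∈ Subgroup.closure
        {x | x ∈ Subgroup.normalizer (R' : Set (Perm (Fin n))) ∧ ∃ m : ℕ, x ^ p = 1 ∧ orderOf x = p ^ m} := by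
      have h1 := Subgroup.mem_map_of_mem vB (L.torus_mem_affP u)
      rw [AltWreath.Level.affP, MonoidHom.map_closure] at h1
      refine Subgroup.closure_mono ?_ h1
      rintro _ ⟨x, ⟨hxp, hx⟩, rfl⟩
      have hvp : vB x ^ p = 1 := by rw [← map_pow, hxp, map_one]
      obtain ⟨m, -, hm⟩ := (Nat.dvd_prime_pow hp').1 (show orderOf (vB x) ∣ p ^ 1 by
        rw [pow_one]; exact orderOf_dvd_of_pow_eq_one hvp)
      refine ⟨FS.mem_normalizer_of_conj_mem fun y hy => ?_, m, hvp, hm⟩
      induction hy using Subgroup.closure_induction with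
      | mem y hy =>
        rcases hy with ⟨v, rfl⟩ | ⟨f, hf, rfl⟩
        · obtain ⟨v', hv'⟩ := hx v
          rw [← map_inv, ← map_mul, ← map_mul, hv']
          exact Subgroup.subset_closure (Or.inl ⟨v', rfl⟩)
        · have : vB x * baseN j f * (vB x)⁻¹ = baseN j f := by
            rw [mul_inv_eq_iff_eq_mul, hbase]
            have h0 : base p (Multiplicative.ofAdd fun y => f.toAdd (Sum.inl y)) = 1 := by
              rw [show (fun y => f.toAdd (Sum.inl y)) = 0 from funext hf, ofAdd_zero, map_one]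
            rw [h0, map_one, one_mul]
            exact (hcomm _ _).eq
          rw [this]
          exact Subgroup.subset_closure (Or.inr ⟨f, hf, rfl⟩)
      | one => simp
      | mul a b _ _ iha ihb =>
        rw [show vB x * (a * b) * (vB x)⁻¹ = (vB x * a * (vB x)⁻¹) * (vB x * b * (vB x)⁻¹) by group]
        exact mul_mem iha ihb
      | inv a _ iha =>
        rw [show vB x * a⁻¹ * (vB x)⁻¹ = (vB x * a * (vB x)⁻¹)⁻¹ by group]
        exact inv_mem iha
    have hTA : vB (L.torus u) ∈ A := by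
      refine (Subgroup.closure_le A).2 ?_ hK
      rintro x ⟨-, m, hx, -⟩
      exact even_of_pow hp (k := 1) (by rwa [pow_one])
    have hTN : ∀ w ∈ S', vB (L.torus u) * w * (vB (L.torus u))⁻¹ ∈ S' := by
      rintro _ ⟨⟨a, b⟩, rfl⟩
      refine ⟨(⟨_, L.torus_normalises u a.2⟩, b), ?_⟩
      rw [hΦ, hΦ]
      simp only [map_mul, map_inv]
      rw [show vB (L.torus u) * (vB (a : Perm (Y × ZMod p)) * vS b) * (vB (L.torus u))⁻¹ =
        vB (L.torus u) * vB a * ((vS b) * (vB (L.torus u))⁻¹) by group,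
        ← ((hcomm (L.torus u) _).inv_left).eq]
      group
    let T : A := ⟨_, hTA⟩
    have hTn : T ∈ Subgroup.normalizer ((S'.comap A.subtype : Subgroup A) : Set A) :=
      FS.mem_normalizer_of_conj_mem fun y hy => hTN _ hy
    have hTK : T ∈ Subgroup.closure {x : A | x ∈ Subgroup.normalizer ((R'.comap A.subtype : Subgroup A) : Set A) ∧
        ∃ m : ℕ, orderOf x = p ^ m} := by
      refine mem_closure_alt ?_ hK
      rintro x ⟨hxN, m, hxp, hxm⟩
      refine ⟨⟨x, even_of_pow hp (k := 1) (by rwa [pow_one])⟩, ⟨FS.mem_normalizer_of_conj_mem fun y hy =>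
        (Subgroup.mem_normalizer_iff.1 hxN _).1 hy, m, ?_⟩, rfl⟩
      rw [← Subgroup.orderOf_coe]; exact hxm
    refine ⟨T, ⟨hTn, _, Subgroup.comap_mono hR'S, hRC, hTK⟩,
      ⟨inv_mem hTn, _, Subgroup.comap_mono hR'S, hRC, inv_mem hTK⟩,
      top p (Equiv.sumCongr (L.scale u) 1) * scal p (Sum.elim (fun _ => u⁻¹) fun _ => 1),
      Equiv.sumCongr (L.scale u) 1, ?_, ?_⟩
    · refine hext _ _ (fun ⟨y, z⟩ => ?_) (fun s => ?_)
      · rw [← hjl, via_apply, Perm.mul_apply, scal_apply, top_apply]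
        show j _ = vB (L.torus u) (j (Sum.inl y, z))
        rw [hjl, hvBb, L.torus_form u y z, add_zero]
        exact hjl _ _
      · show _ = vB (L.torus u) (smallE s)
        rw [hvBs]
        rcases s with ⟨i, z⟩ | o
        · rw [← hjr, via_apply, Perm.mul_apply, scal_apply, top_apply]
          simp
        · refine via_apply_notMem j _ ?_
          rintro ⟨⟨(y | i), z⟩, h⟩
          · exact hBS _ _ ((hjl y z).symm.trans h)
          · rw [hjr] at h; exact Sum.inl_ne_inr (smallE.injective h)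
    · intro i z
      rw [Perm.mul_apply, scal_apply, top_apply, add_zero]
  -- every element of the normaliser
  intro g hg
  obtain ⟨g', π, a, b, hg', hform⟩ := form_of_normalizes j hout hp hS'p hbaseS
    (g := (g : Perm (Fin n))) fun x hx =>
      (Subgroup.mem_normalizer_iff.1 hg ⟨x, hS'A hx⟩).1 hx
  obtain ⟨T, hT, hT', t, πt, htT, htform⟩ := htorus (∏ i, a i)
  have hprod : ∏ i, (a (πt i) * Sum.elim (fun _ : Y => (∏ i, a i)⁻¹) (fun _ : Fin q => 1) i) = 1 := by
    have h1 : ∏ i, Sum.elim (fun _ : Y => (∏ i, a i)⁻¹) (fun _ : Fin q => 1) i = (∏ i, a i)⁻¹ := by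
      rw [Fintype.prod_sum_type]
      simp only [Sum.elim_inl, Sum.elim_inr, Finset.prod_const_one, mul_one, Finset.prod_const,
        Finset.card_univ]
      rw [← Nat.card_eq_fintype_card, hYcard, units_pow_prime_pow]
    rw [Finset.prod_mul_distrib, Equiv.prod_comp πt a, h1, mul_inv_cancel]
  have hcard : p ≤ Fintype.card (Y ⊕ Fin q) := by
    rw [Fintype.card_sum, ← Nat.card_eq_fintype_card, hYcard]
    have : p ^ 1 ≤ p ^ (k - 1) := Nat.pow_le_pow_right hp'.pos (by omega)
    rw [pow_one] at this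
    omega
  have hgT : Perm.viaEmbeddingHom j (g' * t) = ((g * T : A) : Perm (Fin n)) := by
    rw [map_mul, hg', htT]; rfl
  have hsign : Equiv.Perm.sign (g' * t) = 1 := by
    rw [← sign_via j, hgT]
    exact mem_alternatingGroup.1 (g * T).2
  have hmono := mem_monoP_of_form hp hcard (hform.mul htform) hprod hsign
  have hK : g * T ∈ Subgroup.closure
      {x : A | x ∈ Subgroup.normalizer ((E'.comap A.subtype : Subgroup A) : Set A) ∧ ∃ m : ℕ, orderOf x = p ^ m} := by
    refine mem_closure_alt (s := Perm.viaEmbeddingHom j '' {x | x ∈ mono p (Y ⊕ Fin q) ∧ ∃ k, orderOf x = p ^ k}) ?_ ?_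
    · rintro _ ⟨x, ⟨⟨πx, ax, bx, hx⟩, m, hm⟩, rfl⟩
      have hpow : Perm.viaEmbeddingHom j x ^ p ^ m = 1 := by
        rw [← map_pow, ← hm, pow_orderOf_eq_one, map_one]
      refine ⟨⟨_, even_of_pow hp hpow⟩, ⟨FS.mem_normalizer_of_conj_mem ?_, m, ?_⟩, rfl⟩
      · rintro y ⟨f, hf⟩
        refine ⟨Multiplicative.ofAdd fun i => (ax (πx.symm i) : ZMod p) * f.toAdd (πx.symm i), ?_⟩
        show _ = Perm.viaEmbeddingHom j x * (y : Perm (Fin n)) * (Perm.viaEmbeddingHom j x)⁻¹
        rw [show (y : Perm (Fin n)) = baseN j f from hf.symm]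
        show Perm.viaEmbeddingHom j _ = Perm.viaEmbeddingHom j x * Perm.viaEmbeddingHom j _ *
          (Perm.viaEmbeddingHom j x)⁻¹
        rw [← map_inv, ← map_mul, ← map_mul]
        congr 1
        rw [eq_mul_inv_iff_mul_eq]
        refine Equiv.ext fun ⟨i, z⟩ => ?_
        rw [Perm.mul_apply, Perm.mul_apply, base_apply, base_apply, hx, hx]
        refine Prod.ext rfl ?_
        simp only [toAdd_ofAdd, Equiv.symm_apply_apply]
        ring
      · rw [← Subgroup.orderOf_coe]
        show orderOf (Perm.viaEmbeddingHom j x) = _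
        rw [orderOf_injective _ (Perm.viaEmbeddingHom_injective j), hm]
    · have := Subgroup.mem_map_of_mem (Perm.viaEmbeddingHom j) hmono
      rw [monoP, MonoidHom.map_closure, hgT] at this
      exact this
  have h1 : g * T ∈ Covered p (S'.comap A.subtype) :=
    ⟨mul_mem hg hT.1, _, Subgroup.comap_mono hE'S, hEC, hK⟩
  rw [show g = g * T * T⁻¹ by group]
  exact mul_mem (Subgroup.subset_closure h1) (Subgroup.subset_closure hT')

/-- The fusion system of an alternating group is simple. -/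
theorem isSimple (hn : 6 ≤ n) (hnp : p ^ 2 ≤ n) (hb : n % p ≤ 1)
    (S : Sylow p (alternatingGroup (Fin n))) :
    (groupFusionSystem (S : Subgroup (alternatingGroup (Fin n)))).IsSimple p := by
  have hp' : p.Prime := Fact.out
  have hn2 : p + 2 ≤ n := by
    rcases hp'.eq_two_or_odd with h | h
    · omega
    · have := hp'.two_le
      have : p * 3 ≤ p * p := Nat.mul_le_mul_left p (by omega)
      rw [← sq] at this
      omega
  have hne : ∀ S : Sylow p (alternatingGroup (Fin n)), (S : Subgroup (alternatingGroup (Fin n))) ≠ ⊥ := by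
    intro S
    refine S.ne_bot_of_dvd_card ?_
    have : Nontrivial (Fin n) := Fin.nontrivial_iff_two_le.2 (by omega)
    have h2 : 2 * Nat.card (alternatingGroup (Fin n)) = n.factorial := by
      rw [two_mul_nat_card_alternatingGroup, Nat.card_perm, Nat.card_fin]
    have h3 : p * p ∣ n.factorial := by
      have e1 : p ∣ p.factorial := Nat.dvd_factorial hp'.pos le_rfl
      refine dvd_trans ?_ (Nat.factorial_mul_factorial_dvd_factorial (show p ≤ n by omega))
      exact mul_dvd_mul e1 (Nat.dvd_factorial hp'.pos (by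
        have := hp'.two_le
        have : p * 2 ≤ p * p := Nat.mul_le_mul_left p this
        rw [← sq] at this
        omega))
    rw [← h2] at h3
    rcases eq_or_ne p 2 with rfl | h
    · exact Nat.dvd_of_mul_dvd_mul_left two_pos h3
    · exact ((Nat.coprime_primes hp' Nat.prime_two).2 h).dvd_of_dvd_mul_left
        (dvd_trans (dvd_mul_left p p) h3)
  rcases eq_or_ne p 2 with rfl | hp
  · refine Cfsg.Agent.S5339.result 2 S.isPGroup' _ (FS.isSaturated_group S) (hne S) ?_
      (AltStronglyClosed.eq_bot_or_top hn2 S)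
    rw [FS.group_autGroup le_rfl]
    refine le_antisymm ?_ (FS.inn_le_autInducedBy le_top)
    intro β hβ
    obtain ⟨g, -, hg⟩ := FS.mem_autInducedBy.1 hβ
    have hgN := FS.mem_normalizer_of_aut hg
    rw [SymSylow.Alternating.alternating_sylow_normalizer hn S] at hgN
    exact ⟨⟨g, hgN⟩, MulEquiv.ext fun x => Subtype.ext (hg x).symm⟩
  · obtain ⟨S₀, hS₀⟩ := exists_covered n p hp hnp hb
    exact isSimple_of_covered S₀ hne (fun S T => AltStronglyClosed.eq_bot_or_top hn2 S T) hS₀ S

end Cfsg.Agent.Lib.FusionAlperin.AltSimple
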