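import Cfsg.Agent.Lib.FusionAlperin.Simple

/-!
# The simplicity criterion without full normalisation

In the criterion of `Lib/FusionAlperin/Simple` the test subgroups need not be fully normalised:
the automisers of an invariant subsystem are carried into each other by the maps of the system.
-/

set_option autoImplicit false
set_option linter.style.haveILetI false

namespace Cfsg.Agent.Lib.FusionAlperin.Simple

open Cfsg Cfsg.FusionSystem Cfsg.Agent.Lib.FS

variable {Ω : Type*} [Group Ω] {S : Subgroup Ω} [Finite S] {p : ℕ} [Fact p.Prime] {F E : FusionSystem S}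

/-- The automisers of an invariant subsystem are carried into each other. -/
theorem congr_mem_invariant (hE : E.IsInvariantIn F) {R Q : Subgroup Ω} {φ : R →* Ω}
    (hφ : φ ∈ F.Hom R) (hQ : φ.range = Q) {e : MulAut R} (he : e ∈ E.autGroup R) :
    MulAut.congr (homEquiv hφ hQ) e ∈ E.autGroup Q := by
  subst hQ
  have hR : R ≤ S := src_le hφ
  obtain ⟨-, -, hinv, hfrat⟩ := hE
  haveI := finite_sub hR
  obtain ⟨α, hα, φ₀, hφ₀, hφe⟩ := hfrat R hR φ hφ
  have hR' : φ₀.range ≤ S := range_le_base hφ₀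
  haveI := finite_sub hR'
  set e' := MulAut.congr (homEquiv hφ₀ rfl) e
  have he' : e' ∈ E.autGroup φ₀.range := congr_mem_autGroup hφ₀ rfl he
  obtain ⟨χ, hχ, hχe⟩ := hinv φ₀.range hR' _ ((mem_autGroup hR').1 he') α hα
  have hval : ∀ y : φ₀.range, ((α ⟨y, hR' y.2⟩ : S) : Ω) ∈
      (φ₀.range.subgroupOf S).map (S.subtype.comp α.toMonoidHom) := fun y =>
    ⟨⟨y, hR' y.2⟩, Subgroup.mem_subgroupOf.2 y.2, rfl⟩
  have hφα : ∀ x : R, ((α ⟨φ₀ x, apply_mem hφ₀ x⟩ : S) : Ω) = φ x := fun x => (hφe x _).symm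
  have hle : φ.range ≤ (φ₀.range.subgroupOf S).map (S.subtype.comp α.toMonoidHom) := by
    rintro _ ⟨x, rfl⟩
    rw [← hφα x]
    exact hval ⟨φ₀ x, x, rfl⟩
  obtain ⟨χ', hχ', hχ'e⟩ := exists_restrict hχ hle
  refine mem_autGroup_of_hom hχ' fun y => ?_
  obtain ⟨x, rfl⟩ : ∃ x, homEquiv hφ rfl x = y := (homEquiv hφ rfl).surjective y
  rw [hχ'e]
  show ((homEquiv hφ rfl (e ((homEquiv hφ rfl).symm (homEquiv hφ rfl x))) : φ.range) : Ω) = _
  rw [MulEquiv.symm_apply_apply]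
  have h := hχe ⟨φ₀ x, x, rfl⟩ (hR' (e' _).2) (hval _)
  have e1 : (⟨((homEquiv hφ rfl x : φ.range) : Ω), hle (homEquiv hφ rfl x).2⟩ :
      ↥((φ₀.range.subgroupOf S).map (S.subtype.comp α.toMonoidHom))) =
      ⟨_, hval ⟨φ₀ x, x, rfl⟩⟩ := Subtype.ext (hφα x).symm
  rw [e1, h]
  refine ((hφα (e x)).symm).trans ?_
  congr 2
  apply Subtype.ext
  show φ₀ (e x) = φ₀ (e ((homEquiv hφ₀ rfl).symm (homEquiv hφ₀ rfl x)))
  rw [MulEquiv.symm_apply_apply]

/-- An invariant subsystem contains the `p`-elements of every automiser. -/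
theorem pElement_mem_autGroup' (hS : IsPGroup p S) (hF : F.IsSaturated p) (hE : E.IsInvariantIn F)
    {R : Subgroup Ω} (hR : R ≤ S) {α : MulAut R} (hα : α ∈ F.autGroup R)
    (hp : ∃ k, orderOf α = p ^ k) : α ∈ E.autGroup R := by
  obtain ⟨Q, hQ, hQn⟩ := exists_isFullyNormalized F hR
  obtain ⟨φ, hφ, hφQ⟩ := hQ
  have h1 := pElement_mem_autGroup hS hF hE hQn (congr_mem_autGroup hφ hφQ hα)
    (by rw [MulEquiv.orderOf_eq]; exact hp)
  obtain ⟨ψ, hψ, hψR, hψe⟩ := exists_inv hφ hφQ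
  have h2 := congr_mem_invariant hE hψ hψR h1
  convert h2 using 1
  refine MulEquiv.ext fun x => ?_
  obtain ⟨y, rfl⟩ := (homEquiv hψ hψR).surjective x
  obtain ⟨x, rfl⟩ := (homEquiv hφ hφQ).surjective y
  have h3 : ∀ z : R, homEquiv hψ hψR (homEquiv hφ hφQ z) = z := fun z => by
    apply Subtype.ext
    rw [homEquiv_coe]
    exact hψe.1 z _
  show α (homEquiv hψ hψR (homEquiv hφ hφQ x)) = homEquiv hψ hψR (homEquiv hφ hφQ (α
    ((homEquiv hφ hφQ).symm ((homEquiv hψ hψR).symm (homEquiv hψ hψR (homEquiv hφ hφQ x))))))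
  rw [MulEquiv.symm_apply_apply, MulEquiv.symm_apply_apply, h3, h3]

/-- A subgroup containing its centraliser is centric. -/
theorem isCentric_of_centralizer_le {G : Type*} [Group G] {S R : Subgroup G} (hR : R ≤ S)
    (hC : Subgroup.centralizer (R : Set G) ≤ R) : (groupFusionSystem S).IsCentric R := by
  refine ⟨hR, fun Q hQ => ?_⟩
  obtain ⟨-, -, g, rfl⟩ := group_isConj_iff.1 hQ
  rintro c ⟨-, hc⟩
  refine ⟨g⁻¹ * c * g, hC fun x hx => ?_, by show g * (g⁻¹ * c * g) * g⁻¹ = c; group⟩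
  have := hc (g * x * g⁻¹) ⟨x, hx, rfl⟩
  calc x * (g⁻¹ * c * g) = g⁻¹ * (g * x * g⁻¹ * c) * g := by group
    _ = g⁻¹ * (c * (g * x * g⁻¹)) * g := by rw [this]
    _ = _ := by group

/-- The criterion for groups with centric test subgroups. -/
theorem isSimple_group_centric {G : Type*} [Group G] [Finite G] (P : Sylow p G)
    (hS1 : (P : Subgroup G) ≠ ⊥)
    (hsc : ∀ T : Subgroup G, (groupFusionSystem (P : Subgroup G)).StronglyClosed T →
      T = ⊥ ∨ T = (P : Subgroup G))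
    (X : Set (Subgroup G))
    (hX : ∀ R ∈ X, R ≤ (P : Subgroup G) ∧ (groupFusionSystem (P : Subgroup G)).IsCentric R)
    (hgen : autInducedBy ⊤ (P : Subgroup G) ≤ ⨆ R ∈ X, autInducedBy
      (Subgroup.closure {g : G | g ∈ Subgroup.normalizer (R : Set G) ∧ ∃ k : ℕ, orderOf g = p ^ k})
      (P : Subgroup G)) :
    (groupFusionSystem (P : Subgroup G)).IsSimple p := by
  refine ⟨isSaturated_group P, hS1, fun T E hE => ?_⟩
  obtain ⟨⟨hEs, -, hinv⟩, -⟩ := hE
  rcases hsc T hinv.2.1 with h | h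
  · exact Or.inl h
  subst h
  refine Or.inr ⟨rfl, hom_eq_of_autGroup_le hinv ?_⟩
  rw [group_autGroup le_rfl]
  refine hgen.trans (iSup₂_le fun R hR => ?_)
  intro β hβ
  obtain ⟨g, hg, hgβ⟩ := mem_autInducedBy.1 hβ
  obtain ⟨hRS, hRc⟩ := hX R hR
  set F := groupFusionSystem (P : Subgroup G)
  have hK : Subgroup.closure {g : G | g ∈ Subgroup.normalizer (R : Set G) ∧ ∃ k : ℕ, orderOf g = p ^ k} ≤
      Subgroup.normalizer (R : Set G) := (Subgroup.closure_le _).2 fun x hx => hx.1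
  have hγ : R.normalizerMonoidHom ⟨g, hK hg⟩ ∈ E.autGroup R := by
    suffices H : Subgroup.closure {g : G | g ∈ Subgroup.normalizer (R : Set G) ∧ ∃ k : ℕ, orderOf g = p ^ k} ≤
        ((E.autGroup R).comap R.normalizerMonoidHom).map (Subgroup.normalizer (R : Set G)).subtype by
      obtain ⟨n, hn, hng⟩ := H hg
      rwa [show (⟨g, hK hg⟩ : Subgroup.normalizer (R : Set G)) = n from Subtype.ext hng.symm]
    refine (Subgroup.closure_le _).2 ?_
    rintro x ⟨hxN, k, hk⟩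
    refine ⟨⟨x, hxN⟩, pElement_mem_autGroup' P.isPGroup' (isSaturated_group P) hinv hRS ?_ ?_, rfl⟩
    · rw [group_autGroup hRS]
      exact mem_autInducedBy.2 ⟨x, Subgroup.mem_top x, fun _ => rfl⟩
    · have h1 : orderOf (R.normalizerMonoidHom ⟨x, hxN⟩) ∣ p ^ k := by
        rw [← hk, ← Subgroup.orderOf_mk x hxN]
        exact orderOf_map_dvd R.normalizerMonoidHom _
      obtain ⟨j, -, hj⟩ := (Nat.dvd_prime_pow Fact.out).1 h1
      exact ⟨j, hj⟩
  obtain ⟨φ, hφ, hφR, hφγ⟩ := exists_hom_of_aut hRS hγ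
  have hβF : β ∈ F.autGroup (P : Subgroup G) := by
    rw [group_autGroup le_rfl]
    exact mem_autInducedBy.2 ⟨g, Subgroup.mem_top g, hgβ⟩
  exact mem_autGroup_of_restrict P.isPGroup' (isSaturated_group P) hEs hinv.1 hβF _ R
    (Nat.lt_succ_self _) hRS hRc φ hφ hφR fun x hx => (hφγ x).trans (hgβ ⟨x, hx⟩).symm

end Cfsg.Agent.Lib.FusionAlperin.Simple
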