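import Cfsg.Agent.Lib.FusionAlperin.AltWreath
import Cfsg.Agent.Lib.FusionAlperin.SimpleCentric

/-!
# Automisers of Sylow subgroups of alternating groups of odd characteristic

For an odd prime `p` with `p ^ 2 ≤ n` and `n % p ≤ 1`, the normaliser of a Sylow `p`-subgroup `S` of
the alternating group is generated by elements lying in the subgroup generated by the `p`-elements
normalising some self-centralising subgroup of `S`.
-/

set_option autoImplicit false

namespace Cfsg.Agent.Lib.FusionAlperin.AltTorus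

open Equiv Equiv.Perm AltMonomial

variable {α β : Type*}

/-- A permutation fixing everything outside the range of an embedding comes from the source. -/
theorem mem_range_via [Finite β] (ι : α ↪ β) {g : Perm β} (h : ∀ x, x ∉ Set.range ι → g x = x) :
    ∃ g' : Perm α, Perm.viaEmbeddingHom ι g' = g := by
  have hmap : ∀ a, g (ι a) ∈ Set.range ι := by
    intro a
    by_contra hn
    have h' := g.injective (h _ hn)
    exact hn (by rw [h']; exact ⟨a, rfl⟩)
  choose f hf using hmap
  have hfinj : Function.Injective f := fun a b hab => ι.injective (g.injective (by rw [← hf, ← hf, hab]))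
  have : Finite α := Finite.of_injective ι ι.injective
  refine ⟨Equiv.ofBijective f (Finite.injective_iff_bijective.1 hfinj), Equiv.ext fun x => ?_⟩
  show Perm.viaEmbedding _ ι x = g x
  by_cases hx : x ∈ Set.range ι
  · obtain ⟨a, rfl⟩ := hx
    rw [viaEmbedding_apply]
    exact hf a
  · rw [viaEmbedding_apply_of_notMem _ _ _ hx, h x hx]

theorem via_apply (ι : α ↪ β) (g : Perm α) (a : α) : Perm.viaEmbeddingHom ι g (ι a) = ι (g a) :=
  Perm.viaEmbedding_apply g ι a

theorem via_apply_notMem (ι : α ↪ β) (g : Perm α) {x : β} (hx : x ∉ Set.range ι) :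
    Perm.viaEmbeddingHom ι g x = x :=
  Perm.viaEmbedding_apply_of_notMem g ι x hx

theorem sign_via [Fintype α] [DecidableEq α] [Fintype β] [DecidableEq β] (ι : α ↪ β) (g : Perm α) :
    Equiv.Perm.sign (Perm.viaEmbeddingHom ι g) = Equiv.Perm.sign g := by
  show Equiv.Perm.sign (Perm.viaEmbedding g ι) = _
  unfold Perm.viaEmbedding
  convert sign_extendDomain g _

variable {n p : ℕ} [Fact p.Prime]

theorem even_of_pow (hp : p ≠ 2) {x : Perm (Fin n)} {k : ℕ} (hx : x ^ p ^ k = 1) :
    x ∈ alternatingGroup (Fin n) := by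
  rw [mem_alternatingGroup]
  have h := congrArg Equiv.Perm.sign hx
  rw [map_pow, map_one] at h
  rcases Int.units_eq_one_or (Equiv.Perm.sign x) with h1 | h1
  · exact h1
  rw [h1, ((Fact.out : p.Prime).odd_of_ne_two hp).pow.neg_one_pow] at h
  exact absurd h (by decide)

/-- The elements used for generation. -/
def Covered {G : Type*} [Group G] (p : ℕ) (S : Subgroup G) : Set G :=
  {g | g ∈ Subgroup.normalizer (S : Set G) ∧ ∃ R ≤ S, Subgroup.centralizer (R : Set G) ≤ R ∧
    g ∈ Subgroup.closure {x : G | x ∈ Subgroup.normalizer (R : Set G) ∧ ∃ k : ℕ, orderOf x = p ^ k}}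

theorem normalizer_of_conj {G : Type*} [Group G] [Finite G] {R : Subgroup G} {x : G}
    (h : ∀ y ∈ R, x * y * x⁻¹ ∈ R) : x ∈ Subgroup.normalizer (R : Set G) :=
  Agent.Lib.FS.mem_normalizer_of_conj_mem h

/-- Simplicity from covering of the normaliser of one Sylow subgroup. -/
theorem isSimple_of_covered {G : Type*} [Group G] [Finite G] (S₀ : Sylow p G)
    (hne : ∀ S : Sylow p G, (S : Subgroup G) ≠ ⊥)
    (hsc : ∀ (S : Sylow p G) (T : Subgroup G), (groupFusionSystem (S : Subgroup G)).StronglyClosed T →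
      T = ⊥ ∨ T = (S : Subgroup G))
    (hcov : Subgroup.normalizer ((S₀ : Subgroup G) : Set G) ≤
      Subgroup.closure (Covered p (S₀ : Subgroup G))) (S : Sylow p G) :
    (groupFusionSystem (S : Subgroup G)).IsSimple p := by
  refine Simple.isSimple_group_centric S (hne S) (hsc S)
    {R | R ≤ (S : Subgroup G) ∧ Subgroup.centralizer (R : Set G) ≤ R}
    (fun R hR => ⟨hR.1, Simple.isCentric_of_centralizer_le hR.1 hR.2⟩) ?_
  obtain ⟨c, rfl⟩ := MulAction.exists_smul_eq G S₀ S
  set Sc : Subgroup G := ((c • S₀ : Sylow p G) : Subgroup G) with hSc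
  have hmem : ∀ x, x ∈ Sc ↔ c⁻¹ * x * c ∈ (S₀ : Subgroup G) := fun x => by
    rw [hSc, Sylow.coe_subgroup_smul, Subgroup.mem_pointwise_smul_iff_inv_smul_mem,
      MulAut.smul_def, MulAut.conj_inv_apply]
  intro β hβ
  obtain ⟨g, -, hg⟩ := FS.mem_autInducedBy.1 hβ
  have hgN : g ∈ Subgroup.normalizer (Sc : Set G) :=
    normalizer_of_conj fun y hy => by rw [← hg ⟨y, hy⟩]; exact (β _).2
  have hg' : c⁻¹ * g * c ∈ Subgroup.normalizer ((S₀ : Subgroup G) : Set G) := by
    refine normalizer_of_conj fun y hy => ?_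
    have h1 : c * y * c⁻¹ ∈ Sc := (hmem _).2 (by rwa [show c⁻¹ * (c * y * c⁻¹) * c = y by group])
    have h2 := (hmem _).1 ((Subgroup.mem_normalizer_iff.1 hgN _).1 h1)
    rwa [show c⁻¹ * (g * (c * y * c⁻¹) * g⁻¹) * c = (c⁻¹ * g * c) * y * (c⁻¹ * g * c)⁻¹ by group] at h2
  set Sup := ⨆ R ∈ {R : Subgroup G | R ≤ Sc ∧ Subgroup.centralizer (R : Set G) ≤ R},
    autInducedBy (Subgroup.closure {x : G | x ∈ Subgroup.normalizer (R : Set G) ∧ ∃ k : ℕ, orderOf x = p ^ k})
      Sc with hSup
  suffices H : ∀ h ∈ Subgroup.closure (Covered p (S₀ : Subgroup G)),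
      ∃ hh : c * h * c⁻¹ ∈ Subgroup.normalizer (Sc : Set G), Sc.normalizerMonoidHom ⟨_, hh⟩ ∈ Sup by
    obtain ⟨hh, h⟩ := H _ (hcov hg')
    convert h using 1
    refine MulEquiv.ext fun x => Subtype.ext ?_
    rw [hg, FS.normalizerMonoidHom_coe]
    group
  intro h hh
  induction hh using Subgroup.closure_induction with
  | mem h hh =>
    obtain ⟨hN, R, hRS, hC, hK⟩ := hh
    have hN' : c * h * c⁻¹ ∈ Subgroup.normalizer (Sc : Set G) := by
      refine normalizer_of_conj fun y hy => (hmem _).2 ?_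
      have := (Subgroup.mem_normalizer_iff.1 hN _).1 ((hmem y).1 hy)
      rwa [show c⁻¹ * (c * h * c⁻¹ * y * (c * h * c⁻¹)⁻¹) * c = h * (c⁻¹ * y * c) * h⁻¹ by group]
    refine ⟨hN', ?_⟩
    set R' := R.map (MulAut.conj c).toMonoidHom with hR'
    have hR'S : R' ≤ Sc := by
      rintro _ ⟨r, hr, rfl⟩
      exact (hmem _).2 (by
        show c⁻¹ * (c * r * c⁻¹) * c ∈ _
        rw [show c⁻¹ * (c * r * c⁻¹) * c = r by group]; exact hRS hr)
    have hC' : Subgroup.centralizer (R' : Set G) ≤ R' := by
      intro x hx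
      refine ⟨c⁻¹ * x * c, hC fun r hr => ?_, by show c * (c⁻¹ * x * c) * c⁻¹ = x; group⟩
      have := hx (c * r * c⁻¹) ⟨r, hr, rfl⟩
      calc r * (c⁻¹ * x * c) = c⁻¹ * (c * r * c⁻¹ * x) * c := by group
        _ = c⁻¹ * (x * (c * r * c⁻¹)) * c := by rw [this]
        _ = _ := by group
    refine le_iSup₂ (f := fun (R : Subgroup G) (_ : R ∈ {R : Subgroup G | R ≤ Sc ∧
        Subgroup.centralizer (R : Set G) ≤ R}) => autInducedBy (Subgroup.closure
        {x : G | x ∈ Subgroup.normalizer (R : Set G) ∧ ∃ k : ℕ, orderOf x = p ^ k}) Sc) R' ⟨hR'S, hC'⟩ ?_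
    refine FS.mem_autInducedBy.2 ⟨c * h * c⁻¹, ?_, fun _ => rfl⟩
    have h1 := Subgroup.mem_map_of_mem (MulAut.conj c).toMonoidHom hK
    rw [MonoidHom.map_closure] at h1
    refine Subgroup.closure_mono ?_ h1
    rintro _ ⟨x, ⟨hxN, k, hk⟩, rfl⟩
    refine ⟨normalizer_of_conj ?_, k, ?_⟩
    · rintro _ ⟨r, hr, rfl⟩
      refine ⟨x * r * x⁻¹, (Subgroup.mem_normalizer_iff.1 hxN r).1 hr, ?_⟩
      simp [mul_assoc]
    · rw [← hk]
      exact orderOf_injective (MulAut.conj c).toMonoidHom (MulAut.conj c).injective x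
  | one =>
    refine ⟨by simp, ?_⟩
    convert Sup.one_mem using 1
    exact MulEquiv.ext fun x => Subtype.ext (by rw [FS.normalizerMonoidHom_coe]; simp)
  | mul a b _ _ iha ihb =>
    obtain ⟨ha, ha'⟩ := iha
    obtain ⟨hb, hb'⟩ := ihb
    refine ⟨by rw [show c * (a * b) * c⁻¹ = c * a * c⁻¹ * (c * b * c⁻¹) by group]; exact mul_mem ha hb, ?_⟩
    convert Sup.mul_mem ha' hb' using 1
    rw [← map_mul]
    congr 1
    exact Subtype.ext (by show c * (a * b) * c⁻¹ = c * a * c⁻¹ * (c * b * c⁻¹); group)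
  | inv a _ iha =>
    obtain ⟨ha, ha'⟩ := iha
    refine ⟨by rw [show c * a⁻¹ * c⁻¹ = (c * a * c⁻¹)⁻¹ by group]; exact inv_mem ha, ?_⟩
    convert Sup.inv_mem ha' using 1
    rw [← map_inv]
    congr 1
    exact Subtype.ext (by show c * a⁻¹ * c⁻¹ = (c * a * c⁻¹)⁻¹; group)

/-! ### permutations moving one block -/

section Blocks

variable {ι : Type} (j : ι × ZMod p ↪ Fin n)

/-- The translations in the blocks. -/
noncomputable def baseN : Multiplicative (ι → ZMod p) →* Perm (Fin n) :=
  (Perm.viaEmbeddingHom j).comp (base p)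

theorem baseN_apply (f : Multiplicative (ι → ZMod p)) (i : ι) (z : ZMod p) :
    baseN j f (j (i, z)) = j (i, z + f.toAdd i) := by
  show Perm.viaEmbeddingHom j (base p f) (j (i, z)) = _
  rw [via_apply, base_apply]

theorem baseN_apply_notMem (f : Multiplicative (ι → ZMod p)) {x : Fin n} (hx : x ∉ Set.range j) :
    baseN j f x = x :=
  via_apply_notMem j _ hx

theorem baseN_pow (f : Multiplicative (ι → ZMod p)) : baseN j f ^ p = 1 := by
  rw [← map_pow]
  have : f ^ p = 1 := by
    apply Multiplicative.toAdd.injective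
    ext i
    simp
  rw [this, map_one]

variable [DecidableEq ι]

/-- The translation by `m` in block `i`. -/
noncomputable def blockShift (i : ι) (m : ZMod p) : Perm (Fin n) :=
  baseN j (Multiplicative.ofAdd (Pi.single i m))

theorem blockShift_apply (i i' : ι) (m z : ZMod p) :
    blockShift j i m (j (i', z)) = j (i', if i' = i then z + m else z) := by
  rw [blockShift, baseN_apply, toAdd_ofAdd]
  by_cases h : i' = i
  · subst h; simp
  · simp [Pi.single_eq_of_ne h, h]

theorem blockShift_moved {i : ι} {m : ZMod p} {x : Fin n} (h : blockShift j i m x ≠ x) :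
    ∃ z, j (i, z) = x := by
  by_cases hx : x ∈ Set.range j
  · obtain ⟨⟨i', z⟩, rfl⟩ := hx
    rw [blockShift_apply] at h
    by_cases hi : i' = i
    · subst hi; exact ⟨z, rfl⟩
    · rw [if_neg hi] at h; exact absurd rfl h
  · exact absurd (baseN_apply_notMem j _ hx) h

theorem card_support_blockShift (i : ι) {m : ZMod p} (hm : m ≠ 0) :
    (blockShift j i m).support.card = p := by
  have : (blockShift j i m).support = Finset.univ.image fun z : ZMod p => j (i, z) := by
    ext x
    simp only [Perm.mem_support, Finset.mem_image, Finset.mem_univ, true_and]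
    refine ⟨blockShift_moved j, ?_⟩
    rintro ⟨z, rfl⟩ h
    rw [blockShift_apply, if_pos rfl] at h
    exact hm (by simpa using congrArg Prod.snd (j.injective h))
  rw [this, Finset.card_image_of_injective _ fun a b h => by simpa using j.injective h,
    Finset.card_univ, ZMod.card]

/-- A permutation commuting with the shift of block `i` translates it. -/
theorem commute_shift {g : Perm (Fin n)} (i : ι) (hg : Commute g (blockShift j i 1)) :
    ∃ b, ∀ z, g (j (i, z)) = j (i, z + b) := by
  have hmv : ∀ z, ∃ w, j (i, w) = g (j (i, z)) := by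
    intro z
    refine blockShift_moved j (m := 1) fun h => ?_
    rw [← Perm.mul_apply, ← hg.eq, Perm.mul_apply, blockShift_apply, if_pos rfl] at h
    exact one_ne_zero (α := ZMod p) (by simpa using congrArg Prod.snd (j.injective (g.injective h)))
  choose f hf using hmv
  have hstep : ∀ z, f (z + 1) = f z + 1 := by
    intro z
    have h := Equiv.congr_fun hg.eq (j (i, z))
    rw [Perm.mul_apply, Perm.mul_apply, blockShift_apply, if_pos rfl, ← hf, ← hf, blockShift_apply,
      if_pos rfl] at h
    simpa using congrArg Prod.snd (j.injective h)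
  refine ⟨f 0, fun z => ?_⟩
  have hall : ∀ m : ℕ, f m = (m : ZMod p) + f 0 := by
    intro m
    induction m with
    | zero => simp
    | succ m ih => push_cast; rw [hstep, ih]; ring
  rw [← hf, ← ZMod.natCast_zmod_val z, hall]

variable [Finite ι] (hout : ∀ x y : Fin n, x ∉ Set.range j → y ∉ Set.range j → x = y)

include hout in
theorem fix_outside {g : Perm (Fin n)} (hg : ∀ a, g (j a) ∈ Set.range j) {x : Fin n}
    (hx : x ∉ Set.range j) : g x = x := by
  refine hout _ _ (fun ⟨a, ha⟩ => ?_) hx
  choose f hf using hg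
  have hfinj : Function.Injective f := fun a b h => j.injective (g.injective (by rw [← hf, ← hf, h]))
  obtain ⟨b, hb⟩ := (Finite.injective_iff_surjective.1 hfinj) a
  exact hx ⟨b, g.injective (by rw [← hf, hb, ha])⟩

include hout in
/-- An element of a `p`-group containing the block translations with exactly `p` moved points is a
block translation. -/
theorem eq_blockShift (hp : p ≠ 2) {S : Subgroup (Perm (Fin n))} (hS : IsPGroup p S)
    (hb : ∀ f, baseN j f ∈ S) {h : Perm (Fin n)} (hh : h ∈ S) (hcard : h.support.card = p) :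
    ∃ (i : ι) (m : ZMod p), h = blockShift j i m := by
  classical
  have hp' : p.Prime := Fact.out
  obtain ⟨x, hx, i, z₀, rfl⟩ : ∃ x ∈ h.support, ∃ i z, j (i, z) = x := by
    by_contra hne
    have hsub : h.support.card ≤ 1 := Finset.card_le_one.2 fun a ha b hb =>
      hout a b (fun ⟨⟨i, z⟩, e⟩ => hne ⟨a, ha, i, z, e⟩) (fun ⟨⟨i, z⟩, e⟩ => hne ⟨b, hb, i, z, e⟩)
    rw [hcard] at hsub
    exact absurd hsub (by have := hp'.two_le; omega)
  set B := blockShift j i 1 with hB
  let U : Subgroup (Perm (Fin n)) := Subgroup.closure {h, B}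
  have hUS : U ≤ S := (Subgroup.closure_le _).2 (by
    rintro w (rfl | rfl)
    · exact hh
    · exact hb _)
  set blk : Finset (Fin n) := Finset.univ.image fun z : ZMod p => j (i, z) with hblk
  set Ω : Finset (Fin n) := h.support ∪ blk with hΩ
  have hblkcard : blk.card = p := by
    rw [hblk, Finset.card_image_of_injective _ fun a b e => by simpa using j.injective e,
      Finset.card_univ, ZMod.card]
  have hΩcard : Ω.card < 2 * p := by
    have h1 := Finset.card_union_add_card_inter h.support blk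
    have h2 : 0 < (h.support ∩ blk).card := Finset.card_pos.2
      ⟨_, Finset.mem_inter.2 ⟨hx, Finset.mem_image.2 ⟨z₀, Finset.mem_univ _, rfl⟩⟩⟩
    rw [← hΩ, hblkcard, hcard] at h1
    omega
  have hUfix : ∀ u ∈ U, ∀ y, y ∉ Ω → u y = y := by
    intro u hu
    induction hu using Subgroup.closure_induction with
    | mem u hu =>
      intro y hy
      rw [hΩ, Finset.mem_union, not_or] at hy
      rcases hu with rfl | rfl
      · exact Perm.notMem_support.1 hy.1
      · by_contra hne
        obtain ⟨z, rfl⟩ := blockShift_moved j hne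
        exact hy.2 (Finset.mem_image.2 ⟨z, Finset.mem_univ _, rfl⟩)
    | one => intros; rfl
    | mul a b _ _ iha ihb => intro y hy; rw [Perm.mul_apply, ihb y hy, iha y hy]
    | inv a _ iha => intro y hy; rw [Perm.inv_eq_iff_eq, iha y hy]
  have hUp : IsPGroup p U := hS.to_le hUS
  obtain ⟨e, he⟩ := hUp.card_orbit (j (i, z₀))
  have horbΩ : MulAction.orbit U (j (i, z₀)) ⊆ (Ω : Set (Fin n)) := by
    rintro _ ⟨u, rfl⟩
    by_contra hn
    have e2 := hUfix _ (inv_mem u.2) _ (fun h' => hn h')
    have e3 : j (i, z₀) = (u : Perm (Fin n)) (j (i, z₀)) := by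
      conv_lhs => rw [← (u : Perm (Fin n)).symm_apply_apply (j (i, z₀))]
      exact e2
    apply hn
    show (u : Perm (Fin n)) (j (i, z₀)) ∈ (Ω : Set (Fin n))
    rw [← e3, hΩ]
    exact Finset.mem_union_left _ hx
  have hblkorb : (blk : Set (Fin n)) ⊆ MulAction.orbit U (j (i, z₀)) := by
    intro y hy
    obtain ⟨z, -, rfl⟩ := Finset.mem_image.1 hy
    have hBU : B ∈ U := Subgroup.subset_closure (Or.inr rfl)
    refine ⟨⟨B ^ (z - z₀).val, pow_mem hBU _⟩, ?_⟩
    have hpw : ∀ m : ℕ, (B ^ m) (j (i, z₀)) = j (i, z₀ + m) := by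
      intro m
      induction m with
      | zero => simp
      | succ m ih => rw [pow_succ', Perm.mul_apply, ih, hB, blockShift_apply, if_pos rfl]; push_cast; ring_nf
    show (B ^ (z - z₀).val) (j (i, z₀)) = _
    rw [hpw, ZMod.natCast_zmod_val, add_sub_cancel]
  have horb : MulAction.orbit U (j (i, z₀)) = (blk : Set (Fin n)) := by
    refine (Set.eq_of_subset_of_ncard_le hblkorb ?_ (Set.toFinite _)).symm
    rw [Set.ncard_coe_finset, hblkcard, ← Nat.card_coe_set_eq, he]
    have hlt : p ^ e < 2 * p := by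
      rw [← he, Nat.card_coe_set_eq]
      refine lt_of_le_of_lt ?_ hΩcard
      rw [← Set.ncard_coe_finset]
      exact Set.ncard_le_ncard horbΩ (Set.toFinite _)
    rcases Nat.lt_or_ge e 2 with h2 | h2
    · calc p ^ e ≤ p ^ 1 := Nat.pow_le_pow_right hp'.pos (by omega)
        _ = p := pow_one p
    · exfalso
      have : p ^ 2 ≤ p ^ e := Nat.pow_le_pow_right hp'.pos h2
      have := hp'.two_le
      nlinarith
  -- `h` is supported in the block
  have hpres : ∀ u ∈ U, ∀ y ∈ blk, u y ∈ blk := by
    intro u hu y hy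
    rw [← Finset.mem_coe, ← horb] at hy ⊢
    obtain ⟨v, rfl⟩ := hy
    exact ⟨⟨u, hu⟩ * v, by simp [mul_smul]⟩
  have hhU : h ∈ U := Subgroup.subset_closure (Or.inl rfl)
  have hblksupp : blk = h.support := by
    refine Finset.eq_of_subset_of_card_le ?_ (by rw [hcard, hblkcard])
    -- the orbit of the moved point under `h` fills the block
    let Z := Subgroup.zpowers h
    obtain ⟨e', he'⟩ := ((hS.to_le (Subgroup.zpowers_le.2 hh) : IsPGroup p Z)).card_orbit (j (i, z₀))
    have hsub : MulAction.orbit Z (j (i, z₀)) ⊆ (blk : Set (Fin n)) := by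
      rintro _ ⟨u, rfl⟩
      exact hpres _ ((Subgroup.zpowers_le.2 hhU) u.2) _ (Finset.mem_image.2 ⟨z₀, Finset.mem_univ _, rfl⟩)
    have he1 : e' ≠ 0 := by
      rintro rfl
      rw [pow_zero, Nat.card_coe_set_eq, Set.ncard_eq_one] at he'
      obtain ⟨a, ha⟩ := he'
      have h1 : j (i, z₀) ∈ MulAction.orbit Z (j (i, z₀)) := MulAction.mem_orbit_self _
      have h2 : h (j (i, z₀)) ∈ MulAction.orbit Z (j (i, z₀)) := ⟨⟨h, Subgroup.mem_zpowers h⟩, rfl⟩
      rw [ha, Set.mem_singleton_iff] at h1 h2
      exact Perm.mem_support.1 hx (h2.trans h1.symm)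
    have heq : MulAction.orbit Z (j (i, z₀)) = (blk : Set (Fin n)) := by
      refine Set.eq_of_subset_of_ncard_le hsub ?_ (Set.toFinite _)
      rw [Set.ncard_coe_finset, hblkcard, ← Nat.card_coe_set_eq, he']
      exact le_of_eq_of_le (pow_one p).symm (Nat.pow_le_pow_right hp'.pos (by omega))
    intro y hy
    rw [← Finset.mem_coe, ← heq] at hy
    obtain ⟨⟨u, hu⟩, rfl⟩ := hy
    obtain ⟨k, rfl⟩ := Subgroup.mem_zpowers_iff.1 hu
    exact Perm.zpow_apply_mem_support.2 hx
  let emb : ZMod p ↪ Fin n := ⟨fun z => j (i, z), fun a b e => by simpa using j.injective e⟩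
  have hU_via : U ≤ (Perm.viaEmbeddingHom emb).range := by
    intro u hu
    obtain ⟨u', hu'⟩ := mem_range_via emb (g := u) fun y hy => hUfix u hu y (by
      rw [hΩ, ← hblksupp, Finset.union_idempotent]
      intro hy'
      obtain ⟨z, -, rfl⟩ := Finset.mem_image.1 hy'
      exact hy ⟨z, rfl⟩)
    exact ⟨u', hu'⟩
  let V := U.comap (Perm.viaEmbeddingHom emb)
  have hV : IsPGroup p V := hUp.comap_of_injective _ (Perm.viaEmbeddingHom_injective emb)
  obtain ⟨d, hd⟩ := IsPGroup.iff_card.1 hV
  have hd1 : d ≤ 1 := by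
    have hdvd : p ^ d ∣ p.factorial := by
      rw [← hd]
      refine (Subgroup.card_subgroup_dvd_card V).trans ?_
      rw [Nat.card_perm, Nat.card_zmod]
    have h1 := (hp'.pow_dvd_iff_le_factorization (Nat.factorial_ne_zero p)).1 hdvd
    have h3 := Nat.factorization_factorial_mul (n := 1) (p := p) hp'
    rw [mul_one] at h3
    simp at h3
    omega
  let s : Perm (ZMod p) := Equiv.addRight (1 : ZMod p)
  have hsB : Perm.viaEmbeddingHom emb s = B := by
    refine Equiv.ext fun y => ?_
    by_cases hy : y ∈ Set.range emb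
    · obtain ⟨z, rfl⟩ := hy
      rw [via_apply]
      show j (i, z + 1) = B (j (i, z))
      rw [hB, blockShift_apply, if_pos rfl]
    · rw [via_apply_notMem _ _ hy]
      by_contra hne
      exact hy (blockShift_moved j (Ne.symm hne))
  obtain ⟨h', hh'⟩ := hU_via hhU
  have hsV : s ∈ V := by show _ ∈ U; rw [hsB]; exact Subgroup.subset_closure (Or.inr rfl)
  have hh'V : h' ∈ V := by show _ ∈ U; rw [hh']; exact hhU
  have hVs : V = Subgroup.zpowers s := by
    refine (Subgroup.eq_of_le_of_card_ge (Subgroup.zpowers_le.2 hsV) ?_).symm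
    rw [hd, Nat.card_zpowers]
    have hs1 : s ≠ 1 := fun e => one_ne_zero (α := ZMod p) (by simpa [s] using Equiv.congr_fun e 0)
    have hdvd : orderOf s ∣ p ^ d := by rw [← hd]; exact Subgroup.orderOf_dvd_natCard _ hsV
    rcases (show d = 0 ∨ d = 1 by omega) with rfl | rfl
    · rw [pow_zero, Nat.dvd_one, orderOf_eq_one_iff] at hdvd; exact absurd hdvd hs1
    · rw [pow_one] at hdvd ⊢
      rcases (Nat.dvd_prime hp').1 hdvd with h1 | h1
      · exact absurd (orderOf_eq_one_iff.1 h1) hs1
      · exact h1.ge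
  rw [hVs] at hh'V
  obtain ⟨k, rfl⟩ := Subgroup.mem_zpowers_iff.1 hh'V
  refine ⟨i, (k : ZMod p), ?_⟩
  rw [← hh', map_zpow, hsB, hB, blockShift, blockShift, ← map_zpow, ← ofAdd_zsmul, ← Pi.single_smul]
  simp

include hout in
/-- An element normalising a `p`-group with the block translations is monomial. -/
theorem form_of_normalizes (hp : p ≠ 2) {S : Subgroup (Perm (Fin n))} (hS : IsPGroup p S)
    (hb : ∀ f, baseN j f ∈ S) {g : Perm (Fin n)} (hg : ∀ x ∈ S, g * x * g⁻¹ ∈ S) :
    ∃ (g' : Perm (ι × ZMod p)) (π : Perm ι) (a : ι → (ZMod p)ˣ) (b : ι → ZMod p),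
      Perm.viaEmbeddingHom j g' = g ∧ HasForm p g' π a b := by
  classical
  have key : ∀ i, ∃ (i' : ι) (a : (ZMod p)ˣ) (b : ZMod p), ∀ z, g (j (i, z)) = j (i', (a : ZMod p) * z + b) := by
    intro i
    have hc : (g * blockShift j i 1 * g⁻¹).support.card = p := by
      rw [Perm.card_support_conj, card_support_blockShift j i one_ne_zero]
    obtain ⟨i', m, hm⟩ := eq_blockShift j hout hp hS hb (hg (blockShift j i 1) (hb _)) hc
    have hm0 : m ≠ 0 := by
      rintro rfl
      rw [hm] at hc
      simp [blockShift] at hc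
      exact (Fact.out : p.Prime).ne_zero hc.symm
    have hstep : ∀ z, g (j (i, z + 1)) = blockShift j i' m (g (j (i, z))) := by
      intro z
      rw [← hm, Perm.mul_apply, Perm.mul_apply, Perm.inv_def, Equiv.symm_apply_apply, blockShift_apply,
        if_pos rfl]
    obtain ⟨b, hbz⟩ : ∃ b, j (i', b) = g (j (i, 0)) := blockShift_moved j (m := m) fun e => by
      rw [← hstep] at e
      exact one_ne_zero (α := ZMod p) (by simpa using congrArg Prod.snd (j.injective (g.injective e)))
    refine ⟨i', Units.mk0 m hm0, b, fun z => ?_⟩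
    have hall : ∀ k : ℕ, g (j (i, k)) = j (i', m * k + b) := by
      intro k
      induction k with
      | zero => simp [hbz]
      | succ k ih => push_cast; rw [hstep, ih, blockShift_apply, if_pos rfl]; ring_nf
    rw [← ZMod.natCast_zmod_val z, hall]
    rfl
  choose π a b hform using key
  have hmap : ∀ x, g (j x) ∈ Set.range j := fun ⟨i, z⟩ => ⟨_, (hform i z).symm⟩
  obtain ⟨g', hg'⟩ := mem_range_via j (g := g) fun x hx => fix_outside j hout hmap hx
  have hπ : Function.Injective π := by
    intro i i' h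
    have e1 := hform i 0
    have e2 := hform i' ((↑(a i')⁻¹ : ZMod p) * (b i - b i'))
    rw [← mul_assoc, Units.mul_inv, one_mul, sub_add_cancel, ← h] at e2
    rw [mul_zero, zero_add] at e1
    exact congrArg Prod.fst (j.injective (g.injective (e1.trans e2.symm)))
  refine ⟨g', Equiv.ofBijective π (Finite.injective_iff_bijective.1 hπ), a, b, hg', fun i z => ?_⟩
  apply j.injective
  rw [← via_apply, hg', hform]
  rfl

include hout in
/-- The translations in the blocks are self-centralising. -/
theorem centralizer_baseN {g : Perm (Fin n)} (hg : ∀ f, Commute g (baseN j f)) :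
    ∃ f, g = baseN j f := by
  classical
  choose b hb using fun i => commute_shift j i (hg _)
  refine ⟨Multiplicative.ofAdd b, Equiv.ext fun x => ?_⟩
  by_cases hx : x ∈ Set.range j
  · obtain ⟨⟨i, z⟩, rfl⟩ := hx
    rw [hb, baseN_apply]
    rfl
  · rw [baseN_apply_notMem j _ hx]
    exact fix_outside j hout (fun ⟨i, z⟩ => ⟨_, (hb i z).symm⟩) hx

end Blocks

end Cfsg.Agent.Lib.FusionAlperin.AltTorus
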