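import Mathlib
import Cfsg.Agent.Lib.FusionAlperin.AltMonomial

/-!
# Sylow subgroups of symmetric groups of prime power degree normalised by a torus
-/

set_option autoImplicit false

namespace Cfsg.Agent.Lib.FusionAlperin.AltWreath

open Equiv Equiv.Perm AltMonomial

variable (p : ℕ) [Fact p.Prime]

/-- Data at one level: a Sylow subgroup of `Perm Y` containing the translations and normalised by
the scalings along `ℓ`. -/
structure Level (Y : Type) [AddCommGroup Y] where
  /-- The functional. -/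
  ℓ : Y →+ ZMod p
  /-- A section of it. -/
  c : ZMod p →+ Y
  /-- The subgroup. -/
  W : Subgroup (Perm Y)
  hℓc : ∀ z, ℓ (c z) = z
  card_W : Nat.card W = p ^ (Nat.factorial (Nat.card Y)).factorization p
  add_mem : ∀ v : Y, Equiv.addLeft v ∈ W
  scale_mem : ∀ (u : (ZMod p)ˣ) (s : Perm Y), (∀ y, s y = y + c (((u : ZMod p) - 1) * ℓ y)) →
    ∀ w ∈ W, s * w * s⁻¹ ∈ W

variable {p}

namespace Level

variable {Y : Type} [AddCommGroup Y] (L : Level p Y)

/-- The scaling by `u` along `ℓ`. -/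
def scale : (ZMod p)ˣ →* Perm Y where
  toFun u :=
    { toFun := fun y => y + L.c (((u : ZMod p) - 1) * L.ℓ y)
      invFun := fun y => y + L.c (((↑u⁻¹ : ZMod p) - 1) * L.ℓ y)
      left_inv := fun y => by
        dsimp only
        rw [map_add L.ℓ, L.hℓc, add_assoc, ← map_add L.c]
        have : ((u : ZMod p) - 1) * L.ℓ y + ((↑u⁻¹ : ZMod p) - 1) * (L.ℓ y + ((u : ZMod p) - 1) * L.ℓ y) = 0 := by
          have h := u.inv_mul
          linear_combination (L.ℓ y) * h
        rw [this, map_zero, add_zero]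
      right_inv := fun y => by
        dsimp only
        rw [map_add L.ℓ, L.hℓc, add_assoc, ← map_add L.c]
        have : ((↑u⁻¹ : ZMod p) - 1) * L.ℓ y + ((u : ZMod p) - 1) * (L.ℓ y + ((↑u⁻¹ : ZMod p) - 1) * L.ℓ y) = 0 := by
          have h := u.mul_inv
          linear_combination (L.ℓ y) * h
        rw [this, map_zero, add_zero] }
  map_one' := by ext y; simp
  map_mul' u v := by
    ext y
    show y + L.c ((((u * v : (ZMod p)ˣ) : ZMod p) - 1) * L.ℓ y) =
      y + L.c (((v : ZMod p) - 1) * L.ℓ y) + L.c (((u : ZMod p) - 1) * L.ℓ (y + L.c (((v : ZMod p) - 1) * L.ℓ y)))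
    rw [map_add L.ℓ, L.hℓc, add_assoc y, ← map_add L.c, Units.val_mul]
    congr 2
    ring

theorem scale_apply (u : (ZMod p)ˣ) (y : Y) :
    L.scale u y = y + L.c (((u : ZMod p) - 1) * L.ℓ y) := rfl

/-- The wreath product of `ZMod p` with `W`. -/
def wr : Subgroup (Perm (Y × ZMod p)) where
  carrier := {x | ∃ f, ∃ σ ∈ L.W, x = base p f * top p σ}
  one_mem' := ⟨1, 1, one_mem _, by simp⟩
  mul_mem' := by
    rintro _ _ ⟨f, σ, hσ, rfl⟩ ⟨g, τ, hτ, rfl⟩
    refine ⟨f * Multiplicative.ofAdd fun i => g.toAdd (σ.symm i), σ * τ, mul_mem hσ hτ, ?_⟩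
    refine Equiv.ext fun x => ?_
    simp [base_apply, top_apply, add_assoc, add_comm (g.toAdd (τ x.1)), add_left_comm (g.toAdd (τ x.1))]
  inv_mem' := by
    rintro _ ⟨f, σ, hσ, rfl⟩
    refine ⟨Multiplicative.ofAdd fun i => -f.toAdd (σ i), σ⁻¹, inv_mem hσ, ?_⟩
    rw [inv_eq_iff_mul_eq_one]
    refine Equiv.ext fun x => ?_
    simp only [Perm.mul_apply, base_apply, top_apply, Perm.one_apply, toAdd_ofAdd]
    simp

theorem card_wr [Fintype Y] : Nat.card L.wr = p ^ Nat.card Y * Nat.card L.W := by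
  have : Function.Bijective (fun fs : Multiplicative (Y → ZMod p) × L.W =>
      (⟨base p fs.1 * top p fs.2, fs.1, fs.2, fs.2.2, rfl⟩ : L.wr)) := by
    constructor
    · rintro ⟨f, σ⟩ ⟨g, τ⟩ h
      have h' : base p f * top p (σ : Perm Y) = base p g * top p (τ : Perm Y) := congrArg Subtype.val h
      have hst : (σ : Perm Y) = τ := by
        refine Equiv.ext fun i => ?_
        have := congrArg Prod.fst (Equiv.congr_fun h' (i, 0))
        simpa [base_apply, top_apply] using this
      rw [hst] at h'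
      have hfg : f = g := by
        apply Multiplicative.toAdd.injective
        ext i
        have := congrArg Prod.snd (Equiv.congr_fun (mul_right_cancel h') (i, 0))
        simpa [base_apply] using this
      exact Prod.ext hfg (Subtype.ext hst)
    · rintro ⟨_, f, σ, hσ, rfl⟩
      exact ⟨(f, ⟨σ, hσ⟩), rfl⟩
  rw [← Nat.card_congr (Equiv.ofBijective _ this), Nat.card_prod, Nat.card_congr Multiplicative.toAdd,
    Nat.card_fun, Nat.card_zmod]

theorem card_wr_eq [Fintype Y] :
    Nat.card L.wr = p ^ (Nat.factorial (Nat.card (Y × ZMod p))).factorization p := by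
  rw [L.card_wr, L.card_W, Nat.card_prod, Nat.card_zmod, mul_comm (Nat.card Y) p,
    Nat.factorization_factorial_mul Fact.out, pow_add, mul_comm]

theorem base_mem_wr (f : Multiplicative (Y → ZMod p)) : base p f ∈ L.wr :=
  ⟨f, 1, one_mem _, by simp⟩

theorem top_mem_wr {σ : Perm Y} (h : σ ∈ L.W) : top p σ ∈ L.wr := ⟨1, σ, h, by simp⟩

theorem add_mem_wr (v : Y × ZMod p) : Equiv.addLeft v ∈ L.wr := by
  refine ⟨Multiplicative.ofAdd fun _ => v.2, Equiv.addLeft v.1, L.add_mem _, Equiv.ext fun x => ?_⟩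
  simp [base_apply, top_apply, add_comm v.2, Prod.ext_iff]

/-- The next level. -/
def next [Fintype Y] : Level p (Y × ZMod p) where
  ℓ := L.ℓ.comp (AddMonoidHom.fst Y (ZMod p))
  c := L.c.prod 0
  W := L.wr
  hℓc := fun z => L.hℓc z
  card_W := L.card_wr_eq
  add_mem := L.add_mem_wr
  scale_mem := by
    intro u s hs w hw
    have hst : s = top p (L.scale u) := Equiv.ext fun y => by
      rw [hs, top_apply, L.scale_apply]
      exact Prod.ext rfl (by simp)
    subst hst
    obtain ⟨f, σ, hσ, rfl⟩ := hw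
    refine ⟨Multiplicative.ofAdd fun i => f.toAdd ((L.scale u).symm i), L.scale u * σ * (L.scale u)⁻¹,
      L.scale_mem u _ (L.scale_apply u) σ hσ, ?_⟩
    rw [mul_inv_eq_iff_eq_mul]
    refine Equiv.ext fun x => ?_
    simp only [Perm.mul_apply, base_apply, top_apply, toAdd_ofAdd, Perm.inv_def, symm_apply_apply]

/-- The torus element. -/
def torus (u : (ZMod p)ˣ) : Perm (Y × ZMod p) := top p (L.scale u) * scal p (fun _ => u⁻¹)

theorem torus_form (u : (ZMod p)ˣ) :
    HasForm p (L.torus u) (L.scale u) (fun _ => u⁻¹) (fun _ => 0) := by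
  intro i z
  simp only [torus, Perm.mul_apply, top_apply, scal_apply, add_zero]

theorem torus_normalises (u : (ZMod p)ˣ) {w : Perm (Y × ZMod p)} (hw : w ∈ L.wr) :
    L.torus u * w * (L.torus u)⁻¹ ∈ L.wr := by
  obtain ⟨f, σ, hσ, rfl⟩ := hw
  refine ⟨Multiplicative.ofAdd fun i => (↑u⁻¹ : ZMod p) * f.toAdd ((L.scale u).symm i),
    L.scale u * σ * (L.scale u)⁻¹, L.scale_mem u _ (L.scale_apply u) σ hσ, ?_⟩
  rw [mul_inv_eq_iff_eq_mul]
  refine Equiv.ext fun x => ?_
  simp only [torus, Perm.mul_apply, base_apply, top_apply, scal_apply, toAdd_ofAdd, Perm.inv_def,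
    symm_apply_apply, mul_add]

/-- The group generated by `p`-elements normalising the translations. -/
def affP : Subgroup (Perm (Y × ZMod p)) :=
  Subgroup.closure {x | x ^ p = 1 ∧ ∀ v, ∃ v', x * Equiv.addLeft v * x⁻¹ = Equiv.addLeft v'}

/-- The shear `(y, z) ↦ (y, z + β ℓ y)`. -/
def shearLow (β : ZMod p) : Perm (Y × ZMod p) where
  toFun x := (x.1, x.2 + β * L.ℓ x.1)
  invFun x := (x.1, x.2 - β * L.ℓ x.1)
  left_inv x := by simp
  right_inv x := by simp

/-- The shear `(y, z) ↦ (y + c (β z), z)`. -/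
def shearUp (β : ZMod p) : Perm (Y × ZMod p) where
  toFun x := (x.1 + L.c (β * x.2), x.2)
  invFun x := (x.1 - L.c (β * x.2), x.2)
  left_inv x := by simp
  right_inv x := by simp

theorem shearLow_pow (β : ZMod p) (m : ℕ) (x : Y × ZMod p) :
    (L.shearLow β ^ m) x = (x.1, x.2 + (m : ZMod p) * (β * L.ℓ x.1)) := by
  induction m with
  | zero => simp
  | succ m ih =>
    rw [pow_succ', Perm.mul_apply, ih]
    show (x.1, _ + β * L.ℓ x.1) = _
    refine Prod.ext rfl ?_
    push_cast
    ring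

theorem shearUp_pow (β : ZMod p) (m : ℕ) (x : Y × ZMod p) :
    (L.shearUp β ^ m) x = (x.1 + L.c ((m : ZMod p) * (β * x.2)), x.2) := by
  induction m with
  | zero => simp
  | succ m ih =>
    rw [pow_succ', Perm.mul_apply, ih]
    show (_ + L.c (β * x.2), x.2) = _
    refine Prod.ext ?_ rfl
    show x.1 + L.c _ + L.c _ = x.1 + L.c _
    rw [add_assoc, ← map_add L.c]
    congr 2
    push_cast
    ring

theorem shearLow_mem (β : ZMod p) : L.shearLow β ∈ affP (p := p) (Y := Y) := by
  refine Subgroup.subset_closure ⟨Equiv.ext fun x => ?_, fun v => ⟨L.shearLow β v, ?_⟩⟩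
  · rw [L.shearLow_pow]; simp
  · rw [mul_inv_eq_iff_eq_mul]
    refine Equiv.ext fun x => Prod.ext rfl ?_
    show (v + x).2 + β * L.ℓ (v + x).1 = v.2 + β * L.ℓ v.1 + (x.2 + β * L.ℓ x.1)
    rw [Prod.snd_add, Prod.fst_add, map_add]
    ring

theorem shearUp_mem (β : ZMod p) : L.shearUp β ∈ affP (p := p) (Y := Y) := by
  refine Subgroup.subset_closure ⟨Equiv.ext fun x => ?_, fun v => ⟨L.shearUp β v, ?_⟩⟩
  · rw [L.shearUp_pow]; simp
  · rw [mul_inv_eq_iff_eq_mul]
    refine Equiv.ext fun x => Prod.ext ?_ rfl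
    show (v + x).1 + L.c (β * (v + x).2) = v.1 + L.c (β * v.2) + (x.1 + L.c (β * x.2))
    rw [Prod.snd_add, Prod.fst_add, mul_add, map_add]
    abel

theorem torus_mem_affP (u : (ZMod p)ˣ) : L.torus u ∈ affP (p := p) (Y := Y) := by
  have e : L.torus u = L.shearUp u * L.shearLow (-(↑u⁻¹ : ZMod p)) * L.shearUp u *
      (L.shearUp (-1) * L.shearLow 1 * L.shearUp (-1)) := by
    refine Equiv.ext fun ⟨y, z⟩ => ?_
    rw [L.torus_form u y z, L.scale_apply]
    simp only [Perm.mul_apply, shearUp, shearLow, Equiv.coe_fn_mk]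
    have hu : (u : ZMod p) ≠ 0 := u.ne_zero
    refine Prod.ext ?_ ?_
    · simp only [map_add, L.hℓc]
      simp only [add_assoc]
      simp only [← map_add L.c]
      congr 2
      rw [Units.val_inv_eq_inv_val]
      field_simp
      ring
    · simp only [map_add, L.hℓc]
      rw [Units.val_inv_eq_inv_val]
      field_simp
      ring
  rw [e]
  exact mul_mem (mul_mem (mul_mem (L.shearUp_mem _) (L.shearLow_mem _)) (L.shearUp_mem _))
    (mul_mem (mul_mem (L.shearUp_mem _) (L.shearLow_mem _)) (L.shearUp_mem _))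

end Level

variable (p)

/-- The bottom level. -/
def bottom : Level p (ZMod p) where
  ℓ := AddMonoidHom.id _
  c := AddMonoidHom.id _
  W :=
    { carrier := {x | ∃ v, x = Equiv.addLeft v}
      one_mem' := ⟨0, by ext; simp⟩
      mul_mem' := by rintro _ _ ⟨v, rfl⟩ ⟨w, rfl⟩; exact ⟨v + w, by ext; simp [add_assoc]⟩
      inv_mem' := by rintro _ ⟨v, rfl⟩; exact ⟨-v, by ext; simp⟩ }
  hℓc := fun _ => rfl
  card_W := by
    rw [Nat.card_zmod, show (Nat.factorial p).factorization p = 1 by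
      have h := Nat.factorization_factorial_mul (n := 1) (p := p) Fact.out
      rw [mul_one] at h
      simpa using h, pow_one]
    refine (Nat.card_congr (Equiv.ofBijective (fun v : ZMod p => (⟨Equiv.addLeft v, v, rfl⟩ :
      {x : Perm (ZMod p) // ∃ v, x = Equiv.addLeft v})) ⟨fun a b h => ?_, ?_⟩)).symm.trans (Nat.card_zmod p)
    · simpa using Equiv.congr_fun (congrArg Subtype.val h) 0
    · rintro ⟨_, v, rfl⟩; exact ⟨v, rfl⟩
  add_mem := fun v => ⟨v, rfl⟩
  scale_mem := by
    rintro u s hs _ ⟨v, rfl⟩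
    refine ⟨(u : ZMod p) * v, ?_⟩
    rw [mul_inv_eq_iff_eq_mul]
    refine Equiv.ext fun x => ?_
    simp only [Perm.mul_apply, hs, Equiv.coe_addLeft, AddMonoidHom.id_apply]
    ring

/-- A level of every positive height. -/
theorem exists_level : ∀ j : ℕ, 1 ≤ j → ∃ (Y : Type) (_ : AddCommGroup Y) (_ : Fintype Y),
    Nat.card Y = p ^ j ∧ Nonempty (Level p Y)
  | 0, h => absurd h (by norm_num)
  | 1, _ => ⟨ZMod p, inferInstance, inferInstance, by rw [Nat.card_zmod, pow_one], ⟨bottom p⟩⟩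
  | j + 2, _ => by
    obtain ⟨Y, _, _, hc, ⟨L⟩⟩ := exists_level (j + 1) (by omega)
    exact ⟨Y × ZMod p, inferInstance, inferInstance,
      by rw [Nat.card_prod, hc, Nat.card_zmod, ← pow_succ], ⟨L.next⟩⟩

end Cfsg.Agent.Lib.FusionAlperin.AltWreath
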