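import Mathlib

/-!
A splitting lemma by averaging: if `π : M →* A` has abelian kernel on which the `n`-th power map is bijective,
`P ≤ A` has index `n`, and a partial section `s : P →* M` is stable, then `s` extends to a section of `π`.
-/

set_option autoImplicit false

namespace Cfsg.Agent.Lib.FusionAlperin.Complement

section

variable {M A : Type*} [Group M] [Group A] (π : M →* A) (P : Subgroup A) (s : P →* M)

/-- The stability condition on a partial section. -/
def IsStable : Prop :=
  ∀ a : A, ∃ m : M, π m = a ∧ ∀ (x : P) (hx : a * x * a⁻¹ ∈ P), m * s x * m⁻¹ = s ⟨a * x * a⁻¹, hx⟩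

variable {π P s}

theorem exists_biequivariant_section (hs : ∀ x : P, π (s x) = x) (hst : IsStable π P s) :
    ∃ σ : A → M, (∀ a, π (σ a) = a) ∧ (∀ x : P, σ x = s x) ∧
      (∀ (x : P) (a : A), σ (x * a) = s x * σ a) ∧ ∀ (a : A) (x : P), σ (a * x) = σ a * s x := by
  classical
  choose m0 hm0 hm0' using hst
  -- on P itself use s
  let m : A → M := fun a => if h : a ∈ P then s ⟨a, h⟩ else m0 a
  have hm : ∀ a, π (m a) = a := by
    intro a
    by_cases h : a ∈ P
    · simp only [m, dif_pos h]; exact hs ⟨a, h⟩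
    · simp only [m, dif_neg h]; exact hm0 a
  have hm' : ∀ (a : A) (x : P) (hx : a * x * a⁻¹ ∈ P), m a * s x = s ⟨a * x * a⁻¹, hx⟩ * m a := by
    intro a x hx
    by_cases h : a ∈ P
    · simp only [m, dif_pos h]
      rw [← map_mul, ← map_mul]
      congr 1
      ext
      simp
    · simp only [m, dif_neg h]
      have := hm0' a x hx
      rw [← this]; group
  have hwd : ∀ (a : A) (x y x' y' : P), (x : A) * a * y = x' * a * y' →
      s x * m a * s y = s x' * m a * s y' := by
    intro a x y x' y' h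
    have hz : a * ((y' * y⁻¹ : P) : A) * a⁻¹ = ((x'⁻¹ * x : P) : A) := by
      push_cast
      calc a * ((y' : A) * (y : A)⁻¹) * a⁻¹ = (x' : A)⁻¹ * ((x' : A) * a * y') * (y : A)⁻¹ * a⁻¹ := by group
        _ = (x' : A)⁻¹ * x := by rw [← h]; group
    have hmem : a * ((y' * y⁻¹ : P) : A) * a⁻¹ ∈ P := hz ▸ (x'⁻¹ * x).2
    have := hm' a (y' * y⁻¹) hmem
    rw [show (⟨_, hmem⟩ : P) = x'⁻¹ * x from Subtype.ext hz] at this
    simp only [map_mul, map_inv] at this
    calc s x * m a * s y = s x' * ((s x')⁻¹ * s x * m a) * s y := by group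
      _ = s x' * (m a * (s y' * (s y)⁻¹)) * s y := by rw [this]
      _ = s x' * m a * s y' := by group
  -- representatives of double cosets
  let r : A → A := fun a => (Quotient.out (DoubleCoset.mk (P : Subgroup A) (P : Subgroup A) a))
  have hr : ∀ a, ∃ x y : P, a = x * r a * y := by
    intro a
    have : DoubleCoset.mk P P (r a) = DoubleCoset.mk P P a := Quotient.out_eq' _
    obtain ⟨x, hx, y, hy, hxy⟩ := (DoubleCoset.eq P P (r a) a).mp this
    exact ⟨⟨x, hx⟩, ⟨y, hy⟩, hxy⟩
  choose X Y hXY using hr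
  let σ : A → M := fun a => s (X a) * m (r a) * s (Y a)
  have hval : ∀ (a : A) (x y : P), a = x * r a * y → σ a = s x * m (r a) * s y := fun a x y h =>
    hwd (r a) _ _ x y ((hXY a).symm.trans h)
  have hrinv : ∀ (x y : P) (a : A), r (x * a * y) = r a := by
    intro x y a
    have h : DoubleCoset.mk P P ((x : A) * a * y) = DoubleCoset.mk P P a :=
      (DoubleCoset.eq P P _ _).mpr ⟨(x : A)⁻¹, P.inv_mem x.2, (y : A)⁻¹, P.inv_mem y.2, by group⟩
    simp only [r, h]
  have hσ : ∀ (x y : P) (a : A), σ (x * a * y) = s x * σ a * s y := by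
    intro x y a
    rw [hval (x * a * y) (x * X a) (Y a * y), hrinv]
    · simp only [σ, map_mul, mul_assoc]
    · rw [hrinv]
      conv_lhs => rw [hXY a]
      push_cast
      group
  refine ⟨σ, ?_, ?_, fun x a => ?_, fun a x => ?_⟩
  · intro a
    simp only [σ, map_mul, hs, hm]
    exact (hXY a).symm
  · intro x
    have hP : r (x : A) ∈ P := by
      have h := hXY (x : A)
      have : r (x : A) = (X (x : A) : A)⁻¹ * x * (Y (x : A) : A)⁻¹ := by
        calc r (x : A) = (X (x : A) : A)⁻¹ * (X (x : A) * r (x : A) * Y (x : A)) * (Y (x : A) : A)⁻¹ := by group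
          _ = _ := by rw [← h]
      rw [this]
      exact P.mul_mem (P.mul_mem (P.inv_mem (X _).2) x.2) (P.inv_mem (Y _).2)
    simp only [σ, m, dif_pos hP]
    rw [← map_mul, ← map_mul]
    congr 1
    exact Subtype.ext (hXY (x : A)).symm
  · simpa using hσ x 1 a
  · simpa using hσ 1 x a

/-- A stable partial section on a subgroup of index `n` extends to a section, when the kernel is abelian and
`n`-th powers are bijective on it. -/
theorem exists_section_extending [Finite A]
    (hπV : ∀ u v : M, π u = 1 → π v = 1 → u * v = v * u)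
    (hroot : ∀ u : M, π u = 1 → ∃ v : M, π v = 1 ∧ v ^ P.index = u)
    (hinj : ∀ u v : M, π u = 1 → π v = 1 → u ^ P.index = v ^ P.index → u = v)
    (hs : ∀ x : P, π (s x) = x) (hst : IsStable π P s) :
    ∃ σ : A →* M, (∀ a, π (σ a) = a) ∧ ∀ x : P, σ x = s x := by
  classical
  obtain ⟨σ, hσπ, hσs, hσl, hσr⟩ := exists_biequivariant_section hs hst
  have hσ1 : σ 1 = 1 := by simpa using hσs 1
  let V : Subgroup M := π.ker
  let _ : CommGroup V :=
    { (inferInstance : Group V) with mul_comm := fun u v => Subtype.ext (hπV u v u.2 v.2) }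
  let c : A → A → V := fun a b => ⟨σ a * σ b * (σ (a * b))⁻¹, by
    simp only [V, MonoidHom.mem_ker, map_mul, map_inv, hσπ]; group⟩
  have hcr : ∀ (a b : A) (x : P), c a (b * x) = c a b := by
    intro a b x
    apply Subtype.ext
    show σ a * σ (b * x) * (σ (a * (b * x)))⁻¹ = σ a * σ b * (σ (a * b))⁻¹
    rw [← mul_assoc a, hσr, hσr]
    group
  have hcl : ∀ (x : P) (b : A), c x b = 1 := by
    intro x b
    apply Subtype.ext
    show σ x * σ b * (σ (x * b))⁻¹ = 1
    rw [hσl, hσs]
    group
  -- conjugation action of lifts on V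
  let act : A → V →* V := fun a =>
    { toFun := fun v => ⟨σ a * v * (σ a)⁻¹, by
        have : π (v : M) = 1 := v.2
        simp only [V, MonoidHom.mem_ker, map_mul, map_inv, this]; group⟩
      map_one' := Subtype.ext (by simp)
      map_mul' := fun u v => Subtype.ext (by simp only [Subgroup.coe_mul]; group) }
  have hcoc : ∀ a b x : A, act a (c b x) * c a (b * x) = c a b * c (a * b) x := by
    intro a b x
    apply Subtype.ext
    show σ a * (σ b * σ x * (σ (b * x))⁻¹) * (σ a)⁻¹ * (σ a * σ (b * x) * (σ (a * (b * x)))⁻¹) =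
      σ a * σ b * (σ (a * b))⁻¹ * (σ (a * b) * σ x * (σ (a * b * x))⁻¹)
    rw [← mul_assoc a b x]
    group
  -- the product over cosets
  let cq : A → A ⧸ P → V := fun a q => Quotient.liftOn' q (c a) (by
    intro x y hxy
    rw [QuotientGroup.leftRel_apply] at hxy
    conv_rhs => rw [show y = x * ((⟨x⁻¹ * y, hxy⟩ : P) : A) by simp]
    rw [hcr])
  have : Fintype (A ⧸ P) := Fintype.ofFinite _
  let h : A → V := fun a => ∏ q : A ⧸ P, cq a q
  have hn : Fintype.card (A ⧸ P) = P.index := by
    rw [Subgroup.index, Nat.card_eq_fintype_card]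
  have hh : ∀ a b, act a (h b) * h a = c a b ^ P.index * h (a * b) := by
    intro a b
    have e : h a = ∏ q : A ⧸ P, cq a (b • q) :=
      (Fintype.prod_equiv (MulAction.toPerm b) (fun q => cq a (b • q)) (cq a) (fun _ => rfl)).symm
    rw [e, map_prod, ← Finset.prod_mul_distrib, ← hn]
    have e2 : c a b ^ Fintype.card (A ⧸ P) = ∏ _q : A ⧸ P, c a b := by simp
    rw [e2]
    show _ = (∏ _q : A ⧸ P, c a b) * ∏ q : A ⧸ P, cq (a * b) q
    rw [← Finset.prod_mul_distrib]
    refine Finset.prod_congr rfl fun q _ => ?_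
    induction q using QuotientGroup.induction_on with
    | H x => exact hcoc a b x
  have hroot' : ∀ u : V, ∃ v : V, v ^ P.index = u := fun u => by
    obtain ⟨v, hv, hvu⟩ := hroot u u.2
    exact ⟨⟨v, hv⟩, Subtype.ext hvu⟩
  choose root hrootspec using hroot'
  have hpow : ∀ u v : V, u ^ P.index = v ^ P.index → u = v := fun u v e =>
    Subtype.ext (hinj u v u.2 v.2 (congrArg Subtype.val e))
  let w : A → V := fun a => root (h a)
  have hw : ∀ a b, act a (w b) * w a = c a b * w (a * b) := by
    intro a b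
    apply hpow
    rw [mul_pow, mul_pow, ← map_pow]
    simp only [w, hrootspec]
    exact hh a b
  refine ⟨MonoidHom.mk' (fun a => ((w a : V) : M)⁻¹ * σ a) fun a b => ?_, fun a => ?_, fun x => ?_⟩
  · have e := congrArg (Subtype.val) (hw a b)
    have e' : σ a * (w b : M) * (σ a)⁻¹ * (w a : M) = σ a * σ b * (σ (a * b))⁻¹ * (w (a * b) : M) := e
    have comm : σ a * (w b : M) * (σ a)⁻¹ * (w a : M) = (w a : M) * (σ a * (w b : M) * (σ a)⁻¹) :=
      congrArg Subtype.val (mul_comm (act a (w b)) (w a))
    have comm2 : σ a * σ b * (σ (a * b))⁻¹ * (w (a * b) : M) =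
        (w (a * b) : M) * (σ a * σ b * (σ (a * b))⁻¹) :=
      congrArg Subtype.val (mul_comm (c a b) (w (a * b)))
    rw [comm, comm2] at e'
    -- e' : w a * (σ a * w b * σ a⁻¹) = w (a*b) * (σ a σ b σ(ab)⁻¹)
    calc ((w (a * b) : V) : M)⁻¹ * σ (a * b)
        = ((w (a * b) : V) : M)⁻¹ * ((w (a * b) : M) * (σ a * σ b * (σ (a * b))⁻¹))⁻¹ *
            (w (a * b) : M) * σ a * σ b := by group
      _ = ((w a : V) : M)⁻¹ * σ a * (((w b : V) : M)⁻¹ * σ b) := by
          rw [← e']
          have hc : ((w a : V) : M) * (w (a * b) : M) = (w (a * b) : M) * (w a : M) :=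
            congrArg Subtype.val (mul_comm (w a) (w (a * b)))
          have hc2 : ((w (a*b) : V) : M) * (σ a * (w b : M) * (σ a)⁻¹) = (σ a * (w b : M) * (σ a)⁻¹) * (w (a*b) : M) :=
            congrArg Subtype.val (mul_comm (w (a*b)) (act a (w b)))
          calc _ = ((w (a * b) : V) : M)⁻¹ * (σ a * (w b : M) * (σ a)⁻¹)⁻¹ * ((w a : M)⁻¹ * (w (a * b) : M)) * σ a * σ b := by group
            _ = ((w (a * b) : V) : M)⁻¹ * (σ a * (w b : M) * (σ a)⁻¹)⁻¹ * ((w (a * b) : M) * (w a : M)⁻¹) * σ a * σ b := by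
                congr 3
                calc (w a : M)⁻¹ * (w (a * b) : M) = (w a : M)⁻¹ * ((w (a * b) : M) * (w a : M)) * (w a : M)⁻¹ := by group
                  _ = _ := by rw [← hc]; group
            _ = ((σ a * (w b : M) * (σ a)⁻¹))⁻¹ * (w a : M)⁻¹ * σ a * σ b := by
                congr 2
                calc _ = ((σ a * (w b : M) * (σ a)⁻¹) * (w (a * b) : M))⁻¹ * (w (a * b) : M) * (w a : M)⁻¹ := by group
                  _ = _ := by rw [← hc2]; group
            _ = (w a : M)⁻¹ * (σ a * (w b : M) * (σ a)⁻¹)⁻¹ * σ a * σ b := by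
                congr 2
                have := congrArg Subtype.val (mul_comm (act a (w b))⁻¹ (w a)⁻¹)
                exact this
            _ = _ := by group
  · simp only [MonoidHom.mk'_apply, map_mul, map_inv, hσπ]
    rw [show π ((w a : V) : M) = 1 from (w a).2]
    simp
  · have h1 : h (x : A) = 1 := by
      refine Finset.prod_eq_one fun q _ => ?_
      induction q using QuotientGroup.induction_on with
      | H y => exact hcl x y
    have hw1 : w (x : A) = 1 := hpow _ _ (by simp only [w, hrootspec, h1, one_pow])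
    simp [MonoidHom.mk'_apply, hw1, hσs]

end

end Cfsg.Agent.Lib.FusionAlperin.Complement
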