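import Cfsg.Agent.Lib.FusionAlperin.MathieuCert

/-!
# Certificate data for the two-fusion of M11
-/

set_option autoImplicit false
set_option maxRecDepth 8000

namespace Cfsg.Agent.Lib.FusionAlperin.M11Data

open Cfsg.Agent.Lib.FusionAlperin.MathieuCert

/-- Listed elements, part 0. -/
def els0 : List (ℕ × List ℕ) := [
  (305280307445989500324658060036524160, [1, 0, 0, 1]),
  (320191253129214474717290014856819200, [1]),
  (429891312267296919914755612024611872, [1, 0, 0]),
  (434417970004651745542883441886998720, [0, 0, 0, 0]),
  (483510739798708771034965915960709408, [0, 1]),
  (487496118157406016403383019903223360, [0, 1, 0, 0, 1]),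
  (591247103488929489139223233242960256, [0, 0, 0, 0, 0]),
  (612106925465093401103012650925791296, [0, 1, 0, 0]),
  (798952406378249821523461076437549632, [0, 0, 1, 0]),
  (802917510992923698289320968149113120, [0, 0, 0]),
  (849822317934813648356251079506233472, [0, 1, 0]),
  (855646965706863007070864993539958272, [0, 0]),
  (927529348243754188445127664117843328, [1, 0]),
  (940438687246546240404899127997087808, [0]),
  (980258604361933000183917870384793792, [0, 0, 1]),
  (984818244535754528103549039458486304, [])]

/-- The elements of the Sylow subgroup with words. -/
def els : List (ℕ × List ℕ) :=
  els0

/-- Its generators. -/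
def gens : List ℕ :=
  [940438687246546240404899127997087808, 320191253129214474717290014856819200]

/-- Its central involution. -/
def central : ℕ := 434417970004651745542883441886998720

/-- Fusion steps. -/
def steps : List Step := [
  .conj 438328795670806309975661088572819488 434417970004651745542883441886998720 849822317934813648356251079506233472,
  .mul 434417970004651745542883441886998720 849822317934813648356251079506233472,
  .conj 610935551390335688241790398360652160 434417970004651745542883441886998720 429891312267296919914755612024611872,
  .mul 849822317934813648356251079506233472 429891312267296919914755612024611872,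
  .conj 441968536453973804098646327448309952 305280307445989500324658060036524160 483510739798708771034965915960709408,
  .mul 429891312267296919914755612024611872 483510739798708771034965915960709408]

/-- Classes of points. -/
def cls : List ℕ :=
  [8, 1, 8448, 2261024, 14175360, 332374]

/-- Tests for the automorphisms. -/
def tests : List (List (List (List ℕ))) := [
  [[[0]]],
  [[[1]]]]

end Cfsg.Agent.Lib.FusionAlperin.M11Data
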