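import Cfsg.Agent.Lib.FusionAlperin.MathieuGroup
import Cfsg.Agent.Lib.Golay.Stabilizers

/-!
# Kernel-checkable certificates for two-fusion on coded subgroups

A subgroup of permutations of the 24 points is given by the list of its codes; the checks give
its order, centre, fusion closure, and a bound on the automorphisms induced by a larger group.
-/

set_option autoImplicit false

namespace Cfsg.Agent.Lib.FusionAlperin.MathieuCert

open Cfsg Cfsg.Agent.Lib.FS Cfsg.Agent.Lib.Computation Cfsg.Agent.Lib.Golay

/-- A search tree. -/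
inductive STree
  | tip
  | bin (l : STree) (a : ℕ) (r : STree)

/-- Membership in a search tree. -/
def STree.has : STree → ℕ → Bool
  | .tip, _ => false
  | .bin l a r, x => bif Nat.blt x a then l.has x else bif Nat.blt a x then r.has x else true

/-- A search tree on a sorted list. -/
def buildTree : ℕ → List ℕ → STree
  | 0, _ => .tip
  | k + 1, l =>
    match l.drop (l.length / 2) with
    | [] => .tip
    | a :: r => .bin (buildTree k (l.take (l.length / 2))) a (buildTree k r)

theorem mem_of_has : ∀ {k : ℕ} {l : List ℕ} {x : ℕ}, (buildTree k l).has x = true → x ∈ l := by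
  intro k
  induction k with
  | zero => intro l x h; simp [buildTree, STree.has] at h
  | succ k ih =>
    intro l x h
    rw [buildTree] at h
    split at h
    · simp [STree.has] at h
    next a r hd =>
      rw [← List.take_append_drop (l.length / 2) l, hd]
      rw [STree.has] at h
      cases h1 : Nat.blt x a with
      | true => rw [h1, cond_true] at h; exact List.mem_append_left _ (ih h)
      | false =>
        rw [h1, cond_false] at h
        cases h2 : Nat.blt a x with
        | true => rw [h2, cond_true] at h; exact List.mem_append_right _ (List.mem_cons_of_mem _ (ih h))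
        | false =>
          rw [← Bool.not_eq_true, Nat.blt_eq] at h1 h2
          exact List.mem_append_right _ (List.mem_cons.2 (Or.inl (by omega)))

/-- Canonical form of a code. -/
def canon (c : ℕ) : ℕ := packW 5 (fun x => getW 5 c x) 24

theorem getW_eq_of_gperm {a b : ℕ} (ha : okCode a = true) (hb : okCode b = true)
    (h : gperm a = gperm b) {i : ℕ} (hi : i < 24) : getW 5 a i = getW 5 b i := by
  have := congrArg (fun σ : Equiv.Perm GolayPt => idx (σ (pt i))) h
  simpa [idx_gperm ha, idx_gperm hb, idx_pt hi] using this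

theorem packW_congr {f g : ℕ → ℕ} : ∀ {k : ℕ}, (∀ i < k, f i = g i) → packW 5 f k = packW 5 g k
  | 0, _ => rfl
  | k + 1, h => by
    rw [packW_succ, packW_succ, packW_congr fun i hi => h i (by omega), h k (by omega)]

theorem eq_of_gperm {a b : ℕ} (ha : okCode a = true) (hb : okCode b = true) (ha' : canon a = a)
    (hb' : canon b = b) (h : gperm a = gperm b) : a = b := by
  rw [← ha', ← hb']
  exact packW_congr fun i hi => getW_eq_of_gperm ha hb h hi

/-- Evaluation of a word in listed codes. -/
def evalW (gens : List ℕ) (w : List ℕ) : ℕ :=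
  w.foldl (fun r i => mulP 24 5 r (gens.getD i oneCode)) oneCode

theorem evalW_nil (gens : List ℕ) : evalW gens [] = oneCode := by
  unfold evalW
  rw [List.foldl_nil]

theorem evalW_snoc (gens w : List ℕ) (i : ℕ) :
    evalW gens (w ++ [i]) = mulP 24 5 (evalW gens w) (gens.getD i oneCode) := by
  unfold evalW
  rw [List.foldl_append, List.foldl_cons, List.foldl_nil]

theorem gperm_canon {a : ℕ} (ha : okCode a = true) (h : okCode (canon a) = true) :
    gperm (canon a) = gperm a := by
  refine Equiv.ext fun p => idx_injective ?_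
  rw [idx_gperm h, idx_gperm ha, canon, getW_packW (fun x hx => ?_) (idx_lt p)]
  exact lt_of_lt_of_le (getW_lt ha hx) (by norm_num)

theorem canon_congr {a b : ℕ} (h : ∀ i < 24, getW 5 a i = getW 5 b i) : canon a = canon b :=
  packW_congr h

attribute [local irreducible] mulP canon oneCode okCode getW packW pc24

/-! ### the group -/

/-- `els` lists the codes, with words, of the group generated by `gens`. -/
def groupOk (inH : ℕ → Bool) (gens : List ℕ) (els : List (ℕ × List ℕ)) : Bool :=
  let L := els.map Prod.fst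
  let t := buildTree 12 L
  (els.all fun e => okCode e.1 && Nat.beq (canon e.1) e.1 && Nat.beq (evalW gens e.2) e.1 &&
    gens.all fun g => t.has (mulP 24 5 e.1 g)) &&
  t.has oneCode &&
  (gens.all fun g => t.has g && inH g) &&
  (List.zip L L.tail).all fun q => Nat.blt q.1 q.2

/-- The subgroup generated by coded permutations. -/
noncomputable def genBy (gens : List ℕ) : Subgroup (Equiv.Perm GolayPt) :=
  Subgroup.closure {σ | ∃ g ∈ gens, gperm g = σ}

theorem sortedLT_of_zip : ∀ {L : List ℕ}, (List.zip L L.tail).all (fun q => Nat.blt q.1 q.2) = true →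
    L.Pairwise (· < ·)
  | [], _ => List.Pairwise.nil
  | [a], _ => List.pairwise_singleton _ a
  | a :: b :: l, h => by
    simp only [List.tail_cons, List.zip_cons_cons, List.all_cons, Bool.and_eq_true, Nat.blt_eq] at h
    have ih := sortedLT_of_zip (L := b :: l) (by simpa using h.2)
    refine List.pairwise_cons.2 ⟨fun x hx => ?_, ih⟩
    rcases List.mem_cons.1 hx with rfl | hx
    · exact h.1
    · exact h.1.trans ((List.pairwise_cons.1 ih).1 x hx)

/-- What the check of the group gives. -/
structure GroupData (H : Subgroup (Equiv.Perm GolayPt)) (gens : List ℕ) (L : List ℕ) : Prop where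
  ok : ∀ c ∈ L, okCode c = true ∧ canon c = c
  nodup : L.Nodup
  genMem : ∀ g ∈ gens, g ∈ L
  oneMem : oneCode ∈ L
  closed : ∀ c ∈ L, ∀ g ∈ gens, mulP 24 5 c g ∈ L
  words : ∀ c ∈ L, ∃ w, evalW gens w = c
  genH : ∀ g ∈ gens, gperm g ∈ H

variable {H : Subgroup (Equiv.Perm GolayPt)} {gens L : List ℕ}

theorem groupData_of_ok {inH : ℕ → Bool} (hH : ∀ c, inH c = true → gperm c ∈ H)
    {els : List (ℕ × List ℕ)} (h : groupOk inH gens els = true) :
    GroupData H gens (els.map Prod.fst) := by
  simp only [groupOk, Bool.and_eq_true, List.all_eq_true, Nat.beq_eq] at h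
  obtain ⟨⟨⟨hels, hone⟩, hg⟩, hsort⟩ := h
  refine ⟨?_, ?_, fun g hgm => mem_of_has (hg g hgm).1, mem_of_has hone, ?_, ?_,
    fun g hgm => hH g (hg g hgm).2⟩
  · intro c hc
    obtain ⟨e, he, rfl⟩ := List.mem_map.1 hc
    exact ⟨(hels e he).1.1.1, (hels e he).1.1.2⟩
  · exact (sortedLT_of_zip (List.all_eq_true.2 hsort)).imp fun h => h.ne
  · intro c hc g hgm
    obtain ⟨e, he, rfl⟩ := List.mem_map.1 hc
    exact mem_of_has ((hels e he).2 g hgm)
  · intro c hc
    obtain ⟨e, he, rfl⟩ := List.mem_map.1 hc
    exact ⟨e.2, (hels e he).1.2⟩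

namespace GroupData

variable (D : GroupData H gens L)
include D

theorem gen_ok {g : ℕ} (hg : g ∈ gens) : okCode g = true := (D.ok g (D.genMem g hg)).1

theorem getD_ok (i : ℕ) : okCode (gens.getD i oneCode) = true := by
  rcases lt_or_ge i gens.length with h | h
  · rw [List.getD_eq_getElem _ _ h]; exact D.gen_ok (List.getElem_mem h)
  · rw [List.getD_eq_default _ _ h]; exact okCode_oneCode

theorem getD_mem (i : ℕ) : gperm (gens.getD i oneCode) ∈ genBy gens := by
  rcases lt_or_ge i gens.length with h | h
  · rw [List.getD_eq_getElem _ _ h]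
    exact Subgroup.subset_closure ⟨_, List.getElem_mem h, rfl⟩
  · rw [List.getD_eq_default _ _ h, gperm_oneCode]; exact one_mem _

theorem eval_spec (w : List ℕ) : okCode (evalW gens w) = true ∧ gperm (evalW gens w) ∈ genBy gens := by
  induction w using List.reverseRecOn with
  | nil => rw [evalW_nil, gperm_oneCode]; exact ⟨okCode_oneCode, one_mem _⟩
  | append_singleton w i ih =>
    rw [evalW_snoc]
    refine ⟨okCode_mulP ih.1 (D.getD_ok i), ?_⟩
    rw [gperm_mul ih.1 (D.getD_ok i)]
    exact mul_mem ih.2 (D.getD_mem i)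

theorem gperm_mem {c : ℕ} (hc : c ∈ L) : gperm c ∈ genBy gens := by
  obtain ⟨w, rfl⟩ := D.words c hc
  exact (D.eval_spec w).2

theorem exists_code {σ : Equiv.Perm GolayPt} (hσ : σ ∈ genBy gens) : ∃ c ∈ L, gperm c = σ := by
  rw [genBy, ← Subgroup.mem_toSubmonoid, Subgroup.closure_toSubmonoid_of_finite] at hσ
  induction hσ using Submonoid.closure_induction_right with
  | one => exact ⟨oneCode, D.oneMem, gperm_oneCode⟩
  | mul_right x _ y hy ih =>
    obtain ⟨c, hc, rfl⟩ := ih
    obtain ⟨g, hg, rfl⟩ := hy
    exact ⟨_, D.closed c hc g hg, gperm_mul (D.ok c hc).1 (D.gen_ok hg)⟩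

theorem le : genBy gens ≤ H :=
  (Subgroup.closure_le _).2 fun _ ⟨g, hg, e⟩ => e ▸ D.genH g hg

theorem injOn {a b : ℕ} (ha : a ∈ L) (hb : b ∈ L) (h : gperm a = gperm b) : a = b :=
  eq_of_gperm (D.ok a ha).1 (D.ok b hb).1 (D.ok a ha).2 (D.ok b hb).2 h

theorem card_eq : Nat.card (genBy gens) = L.length := by
  have e : {c // c ∈ L} ≃ genBy gens := Equiv.ofBijective
    (fun c => ⟨gperm c.1, D.gperm_mem c.2⟩)
    ⟨fun a b h => Subtype.ext (D.injOn a.2 b.2 (congrArg Subtype.val h)), fun σ => by
      obtain ⟨c, hc, e⟩ := D.exists_code σ.2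
      exact ⟨⟨c, hc⟩, Subtype.ext e⟩⟩
  rw [← Nat.card_congr e, Nat.card_eq_fintype_card, Fintype.card_of_subtype L.toFinset
    (fun x => List.mem_toFinset), List.toFinset_card_of_nodup D.nodup]

theorem eq_of_mem_mul {a b c : ℕ} (ha : a ∈ L) (hb : b ∈ L) (hc : c ∈ L)
    (h : gperm a * gperm b = gperm c) : canon (mulP 24 5 a b) = c := by
  rw [← (D.ok c hc).2]
  refine canon_congr fun i hi => getW_eq_of_gperm (okCode_mulP (D.ok a ha).1 (D.ok b hb).1)
    (D.ok c hc).1 ?_ hi
  rw [gperm_mul (D.ok a ha).1 (D.ok b hb).1, h]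

end GroupData

/-! ### the centre -/

/-- The code `z` is central and every other non-trivial code fails to commute with a generator. -/
def centreOk (gens L : List ℕ) (z : ℕ) : Bool :=
  (L.any fun c => Nat.beq c z) && !Nat.beq z oneCode &&
  (gens.all fun g => Nat.beq (mulP 24 5 z g) (mulP 24 5 g z)) &&
  L.all fun c => Nat.beq c oneCode || Nat.beq c z ||
    gens.any fun g => !Nat.beq (canon (mulP 24 5 c g)) (canon (mulP 24 5 g c))

theorem centre_spec (D : GroupData H gens L) {z : ℕ} (h : centreOk gens L z = true) :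
    gperm z ≠ 1 ∧ gperm z ∈ genBy gens ∧
    (∀ y ∈ genBy gens, gperm z * y = y * gperm z) ∧
    ∀ x ∈ genBy gens, (∀ y ∈ genBy gens, x * y = y * x) → x = 1 ∨ x = gperm z := by
  simp only [centreOk, Bool.and_eq_true, List.any_eq_true, List.all_eq_true, Nat.beq_eq,
    Bool.not_eq_true', Bool.or_eq_true] at h
  obtain ⟨⟨⟨⟨z', hz, rfl⟩, hz1⟩, hzg⟩, hothers⟩ := h
  refine ⟨?_, D.gperm_mem hz, ?_, ?_⟩
  · intro e
    have := D.injOn hz D.oneMem (e.trans gperm_oneCode.symm)
    simp [this] at hz1
  · intro y hy
    induction hy using Subgroup.closure_induction with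
    | mem y hy =>
      obtain ⟨g, hg, rfl⟩ := hy
      rw [← gperm_mul (D.ok _ hz).1 (D.gen_ok hg), ← gperm_mul (D.gen_ok hg) (D.ok _ hz).1, hzg g hg]
    | one => simp
    | mul a b _ _ iha ihb => exact Commute.mul_right iha ihb
    | inv a _ iha => exact Commute.inv_right iha
  · intro x hx hc
    obtain ⟨c, hcL, rfl⟩ := D.exists_code hx
    rcases hothers c hcL with (rfl | rfl) | ⟨g, hg, hne⟩
    · exact Or.inl gperm_oneCode
    · exact Or.inr rfl
    · exfalso
      have e : canon (mulP 24 5 c g) = canon (mulP 24 5 g c) := canon_congr fun i hi =>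
        getW_eq_of_gperm (okCode_mulP (D.ok c hcL).1 (D.gen_ok hg))
          (okCode_mulP (D.gen_ok hg) (D.ok c hcL).1) (by
            rw [gperm_mul (D.ok c hcL).1 (D.gen_ok hg), gperm_mul (D.gen_ok hg) (D.ok c hcL).1]
            exact hc _ (D.gperm_mem (D.genMem g hg))) hi
      simp [e] at hne

/-! ### fusion -/

/-- A step enlarging a set of known elements. -/
inductive Step
  | mul (a b : ℕ)
  | conj (c w v : ℕ)

/-- The steps derive all generators from `known`. -/
def fuseOk (inH : ℕ → Bool) (t : STree) (gens : List ℕ) : List ℕ → List Step → Bool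
  | known, [] => gens.all fun g => known.any fun k => Nat.beq k g
  | known, .mul a b :: r =>
    t.has a && t.has b && (known.any fun k => Nat.beq k a) && (known.any fun k => Nat.beq k b) &&
      fuseOk inH t gens (canon (mulP 24 5 a b) :: known) r
  | known, .conj c w v :: r =>
    t.has w && t.has v && inH c && okCode c && (known.any fun k => Nat.beq k w) &&
      Nat.beq (mulP 24 5 c w) (mulP 24 5 v c) && fuseOk inH t gens (v :: known) r

theorem fuse_spec (D : GroupData H gens L) {inH : ℕ → Bool} (hH : ∀ c, inH c = true → gperm c ∈ H)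
    (T : Subgroup (Equiv.Perm GolayPt))
    (hT : ∀ g ∈ H, ∀ x ∈ T, x ∈ genBy gens → g * x * g⁻¹ ∈ genBy gens → g * x * g⁻¹ ∈ T) :
    ∀ (steps : List Step) (known : List ℕ), fuseOk inH (buildTree 12 L) gens known steps = true →
      (∀ k ∈ known, gperm k ∈ T) → genBy gens ≤ T := by
  intro steps
  induction steps with
  | nil =>
    intro known h hk
    simp only [fuseOk, List.all_eq_true, List.any_eq_true, Nat.beq_eq] at h
    refine (Subgroup.closure_le _).2 ?_
    rintro _ ⟨g, hg, rfl⟩
    obtain ⟨k, hkm, rfl⟩ := h g hg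
    exact hk k hkm
  | cons s r ih =>
    intro known h hk
    cases s with
    | mul a b =>
      simp only [fuseOk, Bool.and_eq_true, List.any_eq_true, Nat.beq_eq] at h
      obtain ⟨⟨⟨⟨ha, hb⟩, k₁, hk₁, rfl⟩, k₂, hk₂, rfl⟩, hr⟩ := h
      refine ih _ hr fun k hkm => ?_
      rcases List.mem_cons.1 hkm with rfl | hkm
      · obtain ⟨c, hc, e⟩ := D.exists_code
          (mul_mem (D.gperm_mem (mem_of_has ha)) (D.gperm_mem (mem_of_has hb)))
        rw [D.eq_of_mem_mul (mem_of_has ha) (mem_of_has hb) hc e.symm, e]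
        exact mul_mem (hk _ hk₁) (hk _ hk₂)
      · exact hk k hkm
    | conj c w v =>
      simp only [fuseOk, Bool.and_eq_true, List.any_eq_true, Nat.beq_eq] at h
      obtain ⟨⟨⟨⟨⟨⟨hw, hv⟩, hc⟩, hco⟩, k₁, hk₁, rfl⟩, heq⟩, hr⟩ := h
      refine ih _ hr fun k hkm => ?_
      rcases List.mem_cons.1 hkm with rfl | hkm
      · have hwL := mem_of_has hw
        have hvL := mem_of_has hv
        have e : gperm c * gperm k₁ * (gperm c)⁻¹ = gperm k := by
          rw [mul_inv_eq_iff_eq_mul, ← gperm_mul hco (D.ok _ hwL).1, heq,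
            gperm_mul (D.ok _ hvL).1 hco]
        rw [← e]
        exact hT _ (hH c hc) _ (hk _ hk₁) (D.gperm_mem hwL) (e ▸ D.gperm_mem hvL)
      · exact hk k hkm

/-! ### classes of points -/

/-- The mask of the indices below `k` satisfying `f`. -/
def maskWhere (f : ℕ → Bool) (k : ℕ) : ℕ :=
  Nat.rec 0 (fun i acc => bif f i then acc ||| 2 ^ i else acc) k

theorem testBit_maskWhere {f : ℕ → Bool} {j : ℕ} : ∀ {k : ℕ},
    (maskWhere f k).testBit j = true ↔ j < k ∧ f j = true
  | 0 => by simp [maskWhere]
  | k + 1 => by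
    have ih := testBit_maskWhere (f := f) (j := j) (k := k)
    simp only [maskWhere] at ih ⊢
    cases h : f k <;> simp only [cond_true, cond_false, Nat.testBit_or, Bool.or_eq_true, ih,
      Nat.testBit_two_pow, decide_eq_true_eq]
    · constructor
      · exact fun ⟨h1, h2⟩ => ⟨by omega, h2⟩
      · rintro ⟨h1, h2⟩
        rcases Nat.lt_succ_iff_lt_or_eq.1 h1 with h1 | rfl
        · exact ⟨h1, h2⟩
        · simp [h] at h2
    · constructor
      · rintro (⟨h1, h2⟩ | rfl)
        · exact ⟨by omega, h2⟩
        · exact ⟨by omega, h⟩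
      · rintro ⟨h1, h2⟩
        rcases Nat.lt_succ_iff_lt_or_eq.1 h1 with h1 | rfl
        · exact Or.inl ⟨h1, h2⟩
        · exact Or.inr rfl

/-- The mask of the images of the index `i` under the listed codes. -/
def orbMask (L : List ℕ) (i : ℕ) : ℕ := L.foldl (fun acc c => acc ||| 2 ^ getW 5 c i) 0

theorem testBit_orbMask {L : List ℕ} {i j : ℕ} :
    (orbMask L i).testBit j = true ↔ ∃ c ∈ L, getW 5 c i = j := by
  induction L using List.reverseRecOn with
  | nil => simp [orbMask]
  | append_singleton L c ih =>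
    simp only [orbMask, List.foldl_append, List.foldl_cons, List.foldl_nil, Nat.testBit_or,
      Bool.or_eq_true, Nat.testBit_two_pow, decide_eq_true_eq] at ih ⊢
    rw [ih]
    simp [or_and_right, exists_or]

/-- Each class is a union of levels of the label (orbit size, `extra`). -/
def classesOk (L : List ℕ) (extra : ℕ → ℕ) (cls : List ℕ) : Bool :=
  let lab := (List.range 24).map fun i => pc24 (orbMask L i) * 4096 + extra i
  cls.all fun m => (List.range 24).all fun i => (List.range 24).all fun j =>
    !Nat.beq (lab.getD i 0) (lab.getD j 0) || (m.testBit i == m.testBit j)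

/-- The elements of `H` normalising the listed group. -/
def Normalises (H : Subgroup (Equiv.Perm GolayPt)) (gens : List ℕ) (g : Equiv.Perm GolayPt) : Prop :=
  g ∈ H ∧ ∀ x, x ∈ genBy gens ↔ g * x * g⁻¹ ∈ genBy gens

theorem setOfMask_orbMask (D : GroupData H gens L) (p : GolayPt) (q : GolayPt) :
    q ∈ setOfMask (orbMask L (idx p)) ↔ ∃ σ ∈ genBy gens, σ p = q := by
  rw [mem_setOfMask, testBit_orbMask]
  constructor
  · rintro ⟨c, hc, e⟩
    exact ⟨gperm c, D.gperm_mem hc, idx_injective (by rw [idx_gperm (D.ok c hc).1, e])⟩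
  · rintro ⟨σ, hσ, rfl⟩
    obtain ⟨c, hc, rfl⟩ := D.exists_code hσ
    exact ⟨c, hc, (idx_gperm (D.ok c hc).1 p).symm⟩

theorem classes_invariant (D : GroupData H gens L) {extra : ℕ → ℕ}
    (hextra : ∀ g ∈ H, ∀ p, extra (idx (g p)) = extra (idx p)) {cls : List ℕ}
    (h : classesOk L extra cls = true) {g : Equiv.Perm GolayPt} (hg : Normalises H gens g)
    {m : ℕ} (hm : m ∈ cls) (p : GolayPt) : g p ∈ setOfMask m ↔ p ∈ setOfMask m := by
  simp only [classesOk, List.all_eq_true, List.mem_range, Bool.or_eq_true, Bool.not_eq_true',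
    beq_iff_eq] at h
  rw [mem_setOfMask, mem_setOfMask]
  rcases h m hm _ (idx_lt (g p)) _ (idx_lt p) with h' | h'
  · exfalso
    rw [List.getD_eq_getElem _ _ (by simp [idx_lt]), List.getD_eq_getElem _ _ (by simp [idx_lt])] at h'
    simp only [List.getElem_map, List.getElem_range] at h'
    have hcard : pc24 (orbMask L (idx (g p))) = pc24 (orbMask L (idx p)) := by
      rw [← card_setOfMask, ← card_setOfMask]
      symm
      refine Finset.card_bij (fun q _ => g q) ?_ (fun a _ b _ e => g.injective e) ?_
      · intro q hq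
        obtain ⟨σ, hσ, rfl⟩ := (setOfMask_orbMask D p q).1 hq
        exact (setOfMask_orbMask D (g p) _).2 ⟨g * σ * g⁻¹, (hg.2 σ).1 hσ, by simp⟩
      · intro q hq
        obtain ⟨σ, hσ, rfl⟩ := (setOfMask_orbMask D (g p) q).1 hq
        refine ⟨(g⁻¹ * σ * g) p, (setOfMask_orbMask D p _).2 ⟨_, (hg.2 _).2 ?_, rfl⟩, by simp⟩
        rwa [show g * (g⁻¹ * σ * g) * g⁻¹ = σ by group]
    rw [hcard, hextra g hg.1 p] at h'
    simp at h'
  · rw [h']

/-! ### tests on tuples -/

/-- The fixed mask of a code. -/
def fixMask (c : ℕ) : ℕ := maskWhere (fun i => Nat.beq (getW 5 c i) i) 24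

theorem mem_fixMask {c : ℕ} (hc : okCode c = true) (p : GolayPt) :
    (fixMask c).testBit (idx p) = true ↔ gperm c p = p := by
  rw [fixMask, testBit_maskWhere, Nat.beq_eq, ← idx_gperm hc]
  exact ⟨fun h => idx_injective h.2, fun h => ⟨idx_lt p, by rw [h]⟩⟩

/-- Sizes of common fixed sets of the words in the classes. -/
def testVal (cls : List ℕ) (gs : List ℕ) (ws : List (List ℕ)) : List ℕ :=
  let f := ws.map fun w => fixMask (evalW gs w)
  cls.map fun m => pc24 (f.foldl (fun a b => a &&& b) m)

theorem testBit_foldl_and {l : List ℕ} {m j : ℕ} :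
    (l.foldl (fun a b => a &&& b) m).testBit j = true ↔
      m.testBit j = true ∧ ∀ f ∈ l, f.testBit j = true := by
  induction l generalizing m with
  | nil => simp
  | cons a l ih => simp [ih, Nat.testBit_and, and_assoc]

theorem eval_congr {gs gs' : List ℕ} {g : Equiv.Perm GolayPt}
    (hok : ∀ i, okCode (gs.getD i oneCode) = true) (hok' : ∀ i, okCode (gs'.getD i oneCode) = true)
    (h : ∀ i, gperm (gs'.getD i oneCode) = g * gperm (gs.getD i oneCode) * g⁻¹) (w : List ℕ) :
    okCode (evalW gs w) = true ∧ okCode (evalW gs' w) = true ∧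
      gperm (evalW gs' w) = g * gperm (evalW gs w) * g⁻¹ := by
  induction w using List.reverseRecOn with
  | nil =>
    rw [evalW_nil, evalW_nil, gperm_oneCode, mul_one, mul_inv_cancel]
    exact ⟨okCode_oneCode, okCode_oneCode, rfl⟩
  | append_singleton w i ih =>
    rw [evalW_snoc, evalW_snoc]
    refine ⟨okCode_mulP ih.1 (hok i), okCode_mulP ih.2.1 (hok' i), ?_⟩
    rw [gperm_mul ih.1 (hok i), gperm_mul ih.2.1 (hok' i), ih.2.2, h i]
    group

theorem testVal_congr {cls : List ℕ} {gs gs' : List ℕ} {g : Equiv.Perm GolayPt}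
    (hcls : ∀ m ∈ cls, ∀ p, g p ∈ setOfMask m ↔ p ∈ setOfMask m)
    (hok : ∀ i, okCode (gs.getD i oneCode) = true) (hok' : ∀ i, okCode (gs'.getD i oneCode) = true)
    (h : ∀ i, gperm (gs'.getD i oneCode) = g * gperm (gs.getD i oneCode) * g⁻¹) (ws : List (List ℕ)) :
    testVal cls gs' ws = testVal cls gs ws := by
  refine List.map_congr_left fun m hm => ?_
  rw [← card_setOfMask, ← card_setOfMask]
  symm
  have key : ∀ w p, gperm (evalW gs' w) (g p) = g p ↔ gperm (evalW gs w) p = p := fun w p => by
    rw [(eval_congr hok hok' h w).2.2]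
    simp
  refine Finset.card_bij (fun q _ => g q) ?_ (fun a _ b _ e => g.injective e) ?_
  · intro q hq
    simp only [mem_setOfMask, testBit_foldl_and, List.forall_mem_map] at hq ⊢
    refine ⟨by simpa [mem_setOfMask] using (hcls m hm q).2 (mem_setOfMask.2 hq.1), fun w hw => ?_⟩
    rw [mem_fixMask (eval_congr hok hok' h w).2.1, key, ← mem_fixMask (eval_congr hok hok' h w).1]
    exact hq.2 w hw
  · intro q hq
    refine ⟨g⁻¹ q, ?_, by simp⟩
    simp only [mem_setOfMask, testBit_foldl_and, List.forall_mem_map] at hq ⊢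
    refine ⟨?_, fun w hw => ?_⟩
    · have := (hcls m hm (g⁻¹ q)).1 (mem_setOfMask.2 (by simpa using hq.1))
      exact mem_setOfMask.1 this
    · rw [mem_fixMask (eval_congr hok hok' h w).1, ← key]
      rw [show g (g⁻¹ q) = q from g.apply_symm_apply q]
      rw [← mem_fixMask (eval_congr hok hok' h w).2.1]
      exact hq.2 w hw

/-- Product of the numbers of candidates along the generators. -/
def bound (L cls : List ℕ) : List ℕ → List ℕ → List (List (List (List ℕ))) → ℕ
  | _, [], _ => 1
  | pre, g :: rest, tests =>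
    let goals := (tests.headD []).map fun t => testVal cls (pre ++ [g]) t
    (L.filter fun x => (tests.headD []).map (fun t => testVal cls (pre ++ [x]) t) == goals).length *
      bound L cls (pre ++ [g]) rest tests.tail

theorem card_le_bound (D : GroupData H gens L) {cls : List ℕ}
    (hcls : ∀ g, Normalises H gens g → ∀ m ∈ cls, ∀ p, g p ∈ setOfMask m ↔ p ∈ setOfMask m) :
    ∀ (rest pre : List ℕ) (tests : List (List (List (List ℕ)))), pre ++ rest = gens →
      ∀ B : Subgroup (MulAut ↥(genBy gens)), B ≤ autInducedBy H (genBy gens) →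
        (∀ b ∈ B, ∀ s : ↥(genBy gens), (∃ c ∈ pre, gperm c = (s : Equiv.Perm GolayPt)) → b s = s) →
        Nat.card B ≤ bound L cls pre rest tests := by
  intro rest
  induction rest with
  | nil =>
    intro pre tests hpre B hB hfix
    rw [List.append_nil] at hpre
    subst hpre
    have : B = ⊥ := by
      refine (Subgroup.eq_bot_iff_forall _).2 fun b hb => MulEquiv.ext fun s => ?_
      obtain ⟨σ, hσ⟩ := s
      suffices ∀ σ (hσ : σ ∈ genBy pre), ((b ⟨σ, hσ⟩ : genBy pre) : Equiv.Perm GolayPt) = σ from
        Subtype.ext (this σ hσ)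
      intro σ hσ
      induction hσ using Subgroup.closure_induction with
      | mem y hy => rw [hfix b hb ⟨y, Subgroup.subset_closure hy⟩ hy]
      | one => exact congrArg Subtype.val (map_one b)
      | mul x y hx hy ihx ihy =>
        calc ((b ⟨x * y, _⟩ : genBy pre) : Equiv.Perm GolayPt)
            = ((b ⟨x, hx⟩ * b ⟨y, hy⟩ : genBy pre) : Equiv.Perm GolayPt) :=
              congrArg Subtype.val (map_mul b (⟨x, hx⟩ : genBy pre) ⟨y, hy⟩)
          _ = x * y := by rw [Subgroup.coe_mul, ihx, ihy]
      | inv x hx ihx =>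
        calc ((b ⟨x⁻¹, _⟩ : genBy pre) : Equiv.Perm GolayPt)
            = (((b ⟨x, hx⟩)⁻¹ : genBy pre) : Equiv.Perm GolayPt) :=
              congrArg Subtype.val (map_inv b (⟨x, hx⟩ : genBy pre))
          _ = x⁻¹ := by rw [Subgroup.coe_inv, ihx]
    simp [this, bound]
  | cons g rest ih =>
    intro pre tests hpre B hB hfix
    have hgm : g ∈ gens := hpre ▸ List.mem_append_right _ List.mem_cons_self
    set s₀ : genBy gens := ⟨gperm g, D.gperm_mem (D.genMem g hgm)⟩ with hs₀
    have horb := ncard_orbit_mul_card_inf B s₀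
    rw [← horb, bound]
    refine Nat.mul_le_mul ?_ (ih (pre ++ [g]) tests.tail (by simpa using hpre) _
      (inf_le_left.trans hB) ?_)
    · -- the orbit of `g` consists of candidates
      set F := L.filter fun x => (tests.headD []).map (fun t => testVal cls (pre ++ [x]) t) ==
        (tests.headD []).map fun t => testVal cls (pre ++ [g]) t
      have hsub : MulAction.orbit B s₀ ⊆
          ((fun x : {c // c ∈ L} => (⟨gperm x.1, D.gperm_mem x.2⟩ : genBy gens)) ''
            {x | x.1 ∈ F}) := by
        rintro _ ⟨⟨b, hb⟩, rfl⟩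
        obtain ⟨n, hn, hnb⟩ := mem_autInducedBy.1 (hB hb)
        have hnorm : Normalises H gens n := by
          refine ⟨hn, fun x => ⟨fun hx => ?_, fun hx => ?_⟩⟩
          · rw [← hnb ⟨x, hx⟩]; exact (b ⟨x, hx⟩).2
          · have h1 := hnb (b.symm ⟨_, hx⟩)
            rw [MulEquiv.apply_symm_apply] at h1
            have h2 : x = (b.symm ⟨_, hx⟩ : genBy gens) := by simpa using h1
            rw [h2]; exact (b.symm ⟨_, hx⟩).2
        obtain ⟨c, hc, hce⟩ := D.exists_code (b s₀).2
        refine ⟨⟨c, hc⟩, ?_, Subtype.ext hce⟩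
        refine List.mem_filter.2 ⟨hc, ?_⟩
        rw [beq_iff_eq]
        refine List.map_congr_left fun t _ => ?_
        have hpm : ∀ a ∈ pre, a ∈ gens := fun a ha => hpre ▸ List.mem_append_left _ ha
        refine testVal_congr (g := n) (hcls n hnorm) (fun i => ?_) (fun i => ?_) (fun i => ?_) t
        · rcases lt_trichotomy i pre.length with h | rfl | h
          · rw [List.getD_append _ _ _ _ h, List.getD_eq_getElem _ _ h]
            exact D.gen_ok (hpm _ (List.getElem_mem h))
          · simpa using D.gen_ok hgm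
          · rw [List.getD_eq_default _ _ (by simp; omega)]; exact okCode_oneCode
        · rcases lt_trichotomy i pre.length with h | rfl | h
          · rw [List.getD_append _ _ _ _ h, List.getD_eq_getElem _ _ h]
            exact D.gen_ok (hpm _ (List.getElem_mem h))
          · simpa using (D.ok c hc).1
          · rw [List.getD_eq_default _ _ (by simp; omega)]; exact okCode_oneCode
        · rcases lt_trichotomy i pre.length with h | rfl | h
          · rw [List.getD_append _ _ _ _ h, List.getD_append _ _ _ _ h]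
            have ha : pre.getD i oneCode ∈ pre := by
              rw [List.getD_eq_getElem _ _ h]; exact List.getElem_mem h
            have := hnb ⟨gperm (pre.getD i oneCode), D.gperm_mem (D.genMem _ (hpm _ ha))⟩
            rw [hfix b hb _ ⟨_, ha, rfl⟩] at this
            exact this
          · have := hnb s₀
            rw [← hce] at this
            simpa [hs₀] using this
          · rw [List.getD_eq_default _ _ (by simp; omega), List.getD_eq_default _ _ (by simp; omega),
              gperm_oneCode]
            simp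
      refine (Set.ncard_le_ncard hsub (Set.toFinite _)).trans ((Set.ncard_image_le (Set.toFinite _)).trans ?_)
      rw [← Set.ncard_image_of_injective _ Subtype.val_injective]
      refine (Set.ncard_le_ncard (t := (F.toFinset : Set ℕ)) ?_ (Finset.finite_toSet _)).trans ?_
      · rintro _ ⟨x, hx, rfl⟩; exact List.mem_toFinset.2 hx
      · rw [Set.ncard_coe_finset]; exact List.toFinset_card_le _
    · rintro b ⟨hb, hbs⟩ s ⟨c, hc, hcs⟩
      rcases List.mem_append.1 hc with hc | hc
      · exact hfix b hb s ⟨c, hc, hcs⟩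
      · rw [List.mem_singleton.1 hc] at hcs
        rw [show s = s₀ from Subtype.ext hcs.symm]
        exact hbs

/-- All checks together give simplicity of the fusion system. -/
theorem isSimple_of_cert {inH : ℕ → Bool} (hH : ∀ c, inH c = true → gperm c ∈ H)
    {els : List (ℕ × List ℕ)} (hgroup : groupOk inH gens els = true) {n o : ℕ}
    (hlen : els.length = 2 ^ n) (ho : Nat.card H = o) (hmax : ¬ 2 * 2 ^ n ∣ o) {z : ℕ}
    (hcentre : centreOk gens (els.map Prod.fst) z = true) {steps : List Step}
    (hfuse : fuseOk inH (buildTree 12 (els.map Prod.fst)) gens [z] steps = true) {extra : ℕ → ℕ}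
    (hextra : ∀ g ∈ H, ∀ p, extra (idx (g p)) = extra (idx p)) {cls : List ℕ}
    (hcls : classesOk (els.map Prod.fst) extra cls = true) {tests : List (List (List (List ℕ)))}
    (hbound : 2 * bound (els.map Prod.fst) cls [] gens tests < 3 * 2 ^ n) (S : Sylow 2 H) :
    (groupFusionSystem (S : Subgroup H)).IsSimple 2 := by
  have D := groupData_of_ok hH hgroup
  obtain ⟨hz1, hzS, hzc, hcent⟩ := centre_spec D hcentre
  have hcard : Nat.card (genBy gens) = 2 ^ n := by rw [D.card_eq, List.length_map, hlen]
  refine MathieuGroup.isSimple_of_data D.le (IsPGroup.of_card hcard)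
    (by rw [hcard, ho]; exact hmax) hz1 hzS hzc hcent ?_ ?_ S
  · intro T hzT hT
    exact fuse_spec D hH T hT steps [z] hfuse (by simpa using hzT)
  · rw [hcard]
    refine lt_of_le_of_lt (Nat.mul_le_mul_left 2 ?_) hbound
    exact card_le_bound D (fun g hg m hm p => classes_invariant D hextra hcls hg hm p)
      gens [] tests rfl _ le_rfl (fun b _ s hs => by simp at hs)

end Cfsg.Agent.Lib.FusionAlperin.MathieuCert
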