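import Cfsg.Agent.S5339
import Cfsg.Agent.Lib.FusionSystem.Group
import Cfsg.Agent.Lib.PGroups.Omega

/-!
# Simplicity of a two-fusion system from data on one Sylow subgroup

If a Sylow two-subgroup `S₀` of `H` has centre of order two, every subgroup of `S₀` closed under
fusion and containing the central involution is `S₀`, and fewer than three times as many
automorphisms as inner ones are induced on it, the fusion system is simple.
-/

set_option autoImplicit false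

namespace Cfsg.Agent.Lib.FusionAlperin.MathieuGroup

open Cfsg Cfsg.FusionSystem Cfsg.Agent.Lib.FS
open scoped Pointwise

variable {Ω : Type*} [Group Ω] [Finite Ω] {H S₀ : Subgroup Ω}

theorem card_centralizerIn_self {z : Ω} (hz1 : z ≠ 1) (hzS : z ∈ S₀)
    (hzc : ∀ y ∈ S₀, z * y = y * z)
    (hcent : ∀ x ∈ S₀, (∀ y ∈ S₀, x * y = y * x) → x = 1 ∨ x = z) :
    Nat.card (centralizerIn S₀ S₀) = 2 := by
  have h : ((centralizerIn S₀ S₀ : Subgroup Ω) : Set Ω) = {1, z} := by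
    ext x
    simp only [SetLike.mem_coe, centralizerIn, Subgroup.mem_inf, Subgroup.mem_centralizer_iff,
      Set.mem_insert_iff, Set.mem_singleton_iff]
    constructor
    · rintro ⟨hx, hc⟩
      exact hcent x hx fun y hy => (hc y hy).symm
    · rintro (rfl | rfl)
      · exact ⟨one_mem _, fun y _ => by simp⟩
      · exact ⟨hzS, fun y hy => (hzc y hy).symm⟩
  rw [← SetLike.coe_sort_coe, h, Nat.card_coe_set_eq, Set.ncard_pair hz1.symm]

/-- The automisers in `S₀` and in `H` agree. -/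
theorem autInducedBy_le_of_card {z : Ω} (hS₀ : S₀ ≤ H) (hmax : ¬ 2 * Nat.card S₀ ∣ Nat.card H)
    (hc : Nat.card (centralizerIn S₀ S₀) = 2) (hz1 : z ≠ 1)
    (hzS : z ∈ S₀) (hzc : ∀ y ∈ S₀, z * y = y * z)
    (haut : 2 * Nat.card (autInducedBy H S₀) < 3 * Nat.card S₀) :
    autInducedBy H S₀ ≤ autInducedBy S₀ S₀ := by
  have hle : autInducedBy S₀ S₀ ≤ autInducedBy H S₀ := by
    intro α hα
    obtain ⟨g, hg, h⟩ := mem_autInducedBy.1 hα
    exact mem_autInducedBy.2 ⟨g, hS₀ hg, h⟩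
  have h1 := card_normalizerIn S₀ S₀
  rw [le_antisymm (normalizerIn_le S₀) (le_normalizerIn le_rfl), hc] at h1
  have h2 := card_normalizerIn H S₀
  have hzH : Subgroup.zpowers z ≤ centralizerIn H S₀ :=
    Subgroup.zpowers_le.2 ⟨hS₀ hzS, fun y hy => (hzc y hy).symm⟩
  have hord : orderOf z ∣ 2 := by
    rw [← hc]
    exact Subgroup.orderOf_dvd_natCard _ ⟨hzS, fun y hy => (hzc y hy).symm⟩
  have hord2 : orderOf z = 2 :=
    ((Nat.dvd_prime Nat.prime_two).1 hord).resolve_left (by simpa using hz1)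
  have h3 : 2 ∣ Nat.card (centralizerIn H S₀) := by
    rw [← hord2, ← Nat.card_zpowers]
    exact Subgroup.card_dvd_of_le hzH
  have h4 : Nat.card (normalizerIn H S₀) ∣ Nat.card H :=
    Subgroup.card_dvd_of_le (normalizerIn_le S₀)
  obtain ⟨k, hk⟩ := Subgroup.card_dvd_of_le hle
  have hpos : 0 < Nat.card (autInducedBy H S₀) := Nat.card_pos
  have hk3 : k < 3 := by
    rw [h1, hk] at haut
    nlinarith
  have hk1 : k = 1 := by
    rcases (show k = 0 ∨ k = 1 ∨ k = 2 by omega) with rfl | rfl | rfl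
    · simp [hk] at hpos
    · rfl
    · obtain ⟨c, hc'⟩ := h3
      exact absurd (Dvd.dvd.trans ⟨c, by rw [h2, hk, h1, hc']; ring⟩ h4) hmax
  rw [hk1, mul_one] at hk
  exact (Subgroup.eq_of_le_of_card_ge hle hk.le).ge


theorem isSimple_of_data {z : Ω} (hS₀ : S₀ ≤ H) (hp : IsPGroup 2 S₀)
    (hmax : ¬ 2 * Nat.card S₀ ∣ Nat.card H) (hz1 : z ≠ 1) (hzS : z ∈ S₀)
    (hzc : ∀ y ∈ S₀, z * y = y * z)
    (hcent : ∀ x ∈ S₀, (∀ y ∈ S₀, x * y = y * x) → x = 1 ∨ x = z)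
    (hfus : ∀ T : Subgroup Ω, z ∈ T →
      (∀ g ∈ H, ∀ x ∈ T, x ∈ S₀ → g * x * g⁻¹ ∈ S₀ → g * x * g⁻¹ ∈ T) → S₀ ≤ T)
    (haut : 2 * Nat.card (autInducedBy H S₀) < 3 * Nat.card S₀) (S : Sylow 2 H) :
    (groupFusionSystem (S : Subgroup H)).IsSimple 2 := by
  have : Fact (Nat.Prime 2) := ⟨Nat.prime_two⟩
  have hc := card_centralizerIn_self hz1 hzS hzc hcent
  have hA := autInducedBy_le_of_card hS₀ hmax hc hz1 hzS hzc haut
  -- `S₀` is a Sylow subgroup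
  obtain ⟨Q, hQ⟩ := (hp.of_equiv (Subgroup.subgroupOfEquivOfLe hS₀).symm).exists_le_sylow
  have hQeq : (Q : Subgroup H) = S₀.subgroupOf H := by
    refine (Subgroup.eq_of_le_of_card_ge hQ ?_).symm
    by_contra hlt
    rw [not_le, Nat.card_congr (Subgroup.subgroupOfEquivOfLe hS₀).toEquiv] at hlt
    obtain ⟨m, hm⟩ := IsPGroup.iff_card.1 Q.isPGroup'
    obtain ⟨n, hn⟩ := IsPGroup.iff_card.1 hp
    rw [hm, hn] at hlt
    apply hmax
    rw [hn, ← pow_succ']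
    refine (pow_dvd_pow 2 (n := m) ((Nat.pow_lt_pow_iff_right (by norm_num)).1 hlt)).trans ?_
    rw [← hm]
    exact Subgroup.card_subgroup_dvd_card _
  obtain ⟨h, hh⟩ := MulAction.exists_smul_eq H S Q
  -- membership in `S` through `S₀`
  have hmem : ∀ x : H, x ∈ (S : Subgroup H) ↔ ((h * x * h⁻¹ : H) : Ω) ∈ S₀ := by
    intro x
    rw [show ((h * x * h⁻¹ : H) : Ω) ∈ S₀ ↔ h * x * h⁻¹ ∈ S₀.subgroupOf H from Iff.rfl, ← hQeq,
      ← hh]
    show _ ↔ _ ∈ MulAut.conj h • (S : Subgroup H)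
    rw [Subgroup.mem_pointwise_smul_iff_inv_smul_mem, MulAut.smul_def, MulAut.conj_inv_apply,
      show h⁻¹ * (h * x * h⁻¹) * h = x by group]
  have hne : (S : Subgroup H) ≠ ⊥ := by
    intro hb
    have : (h⁻¹ * ⟨z, hS₀ hzS⟩ * h : H) ∈ (S : Subgroup H) := (hmem _).2 (by
      rw [show h * (h⁻¹ * ⟨z, hS₀ hzS⟩ * h) * h⁻¹ = (⟨z, hS₀ hzS⟩ : H) by group]; exact hzS)
    rw [hb, Subgroup.mem_bot] at this
    apply hz1
    have h' : (⟨z, hS₀ hzS⟩ : H) = 1 := by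
      calc (⟨z, hS₀ hzS⟩ : H) = h * (h⁻¹ * ⟨z, hS₀ hzS⟩ * h) * h⁻¹ := by group
        _ = 1 := by rw [this]; group
    exact congrArg Subtype.val h'
  refine Cfsg.Agent.S5339.result 2 S.isPGroup' _ (isSaturated_group S) hne ?_ ?_
  · rw [group_autGroup le_rfl]
    refine le_antisymm ?_ (inn_le_autInducedBy le_top)
    intro β hβ
    obtain ⟨g, -, hg⟩ := mem_autInducedBy.1 hβ
    set n : H := h * g * h⁻¹ with hn
    have key : ∀ x ∈ S₀, (n : Ω) * x * (n : Ω)⁻¹ ∈ S₀ := by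
      intro x hx
      have h1 : (h⁻¹ * ⟨x, hS₀ hx⟩ * h : H) ∈ (S : Subgroup H) := (hmem _).2 (by
        rw [show h * (h⁻¹ * ⟨x, hS₀ hx⟩ * h) * h⁻¹ = (⟨x, hS₀ hx⟩ : H) by group]; exact hx)
      have h2 := (hmem _).1 (β ⟨_, h1⟩).2
      rw [hg] at h2
      have h3 : h * (g * (h⁻¹ * ⟨x, hS₀ hx⟩ * h) * g⁻¹) * h⁻¹ = n * ⟨x, hS₀ hx⟩ * n⁻¹ := by
        rw [hn]; group
      rw [h3] at h2
      simpa using h2
    have hN : (n : Ω) ∈ Subgroup.normalizer (S₀ : Set Ω) := by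
      refine Subgroup.mem_normalizer_iff.2 fun x => ⟨key x, fun hx => ?_⟩
      have hinj : Function.Bijective fun y : S₀ => (⟨_, key y y.2⟩ : S₀) := by
        rw [← Finite.injective_iff_bijective]
        intro a b hab
        exact Subtype.ext (by simpa using congrArg Subtype.val hab)
      obtain ⟨y, hy⟩ := hinj.2 ⟨_, hx⟩
      have : (y : Ω) = x := by simpa using congrArg Subtype.val hy
      exact this ▸ y.2
    have hα : S₀.normalizerMonoidHom ⟨n, hN⟩ ∈ autInducedBy H S₀ :=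
      mem_autInducedBy.2 ⟨n, n.2, fun _ => rfl⟩
    obtain ⟨s, hs, hsx⟩ := mem_autInducedBy.1 (hA hα)
    have hs' : (h⁻¹ * ⟨s, hS₀ hs⟩ * h : H) ∈ (S : Subgroup H) := (hmem _).2 (by
      rw [show h * (h⁻¹ * ⟨s, hS₀ hs⟩ * h) * h⁻¹ = (⟨s, hS₀ hs⟩ : H) by group]; exact hs)
    refine ⟨⟨_, hs'⟩, MulEquiv.ext fun x => Subtype.ext ?_⟩
    rw [hg]
    show h⁻¹ * ⟨s, hS₀ hs⟩ * h * (x : H) * (h⁻¹ * ⟨s, hS₀ hs⟩ * h)⁻¹ = g * (x : H) * g⁻¹
    have hx0 : ((h * (x : H) * h⁻¹ : H) : Ω) ∈ S₀ := (hmem _).1 x.2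
    have h5 : (n : Ω) * ((h * (x : H) * h⁻¹ : H) : Ω) * (n : Ω)⁻¹ =
        s * ((h * (x : H) * h⁻¹ : H) : Ω) * s⁻¹ := hsx ⟨_, hx0⟩
    have h6 : n * (h * (x : H) * h⁻¹) * n⁻¹ =
        ⟨s, hS₀ hs⟩ * (h * (x : H) * h⁻¹) * ⟨s, hS₀ hs⟩⁻¹ :=
      Subtype.ext (by simpa using h5)
    calc h⁻¹ * ⟨s, hS₀ hs⟩ * h * (x : H) * (h⁻¹ * ⟨s, hS₀ hs⟩ * h)⁻¹
        = h⁻¹ * (⟨s, hS₀ hs⟩ * (h * (x : H) * h⁻¹) * ⟨s, hS₀ hs⟩⁻¹) * h := by group
      _ = h⁻¹ * (n * (h * (x : H) * h⁻¹) * n⁻¹) * h := by rw [h6]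
      _ = _ := by rw [hn]; group
  · intro T hT
    obtain ⟨hTS, hcl⟩ := hT
    by_cases hb : T = ⊥
    · exact Or.inl hb
    right
    have hcl' : ∀ (g x : H), x ∈ T → g * x * g⁻¹ ∈ (S : Subgroup H) → g * x * g⁻¹ ∈ T := by
      intro g x hx hgx
      refine hcl (Subgroup.zpowers x) (Subgroup.zpowers_le.2 hx) (conjHom _ g)
        (conjHom_mem_group ((Subgroup.zpowers_le.2 hx).trans hTS) ?_) ⟨x, Subgroup.mem_zpowers x⟩
      intro y hy
      obtain ⟨k, rfl⟩ := Subgroup.mem_zpowers_iff.1 hy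
      rw [← conj_zpow]
      exact Subgroup.zpow_mem _ hgx k
    -- the image of `T` in `S₀`
    let T₀ : Subgroup Ω := (T.map (MulAut.conj h).toMonoidHom).map H.subtype
    have hT₀ : ∀ y : H, h⁻¹ * y * h ∈ T → (y : Ω) ∈ T₀ := fun y hy =>
      ⟨y, ⟨_, hy, by show h * (h⁻¹ * y * h) * h⁻¹ = y; group⟩, rfl⟩
    have hT₀' : ∀ x ∈ T₀, ∃ y : H, (y : Ω) = x ∧ h⁻¹ * y * h ∈ T := by
      rintro _ ⟨_, ⟨t, ht, rfl⟩, rfl⟩
      refine ⟨h * t * h⁻¹, rfl, ?_⟩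
      rw [show h⁻¹ * (h * t * h⁻¹) * h = t by group]; exact ht
    have hT₀S : T₀ ≤ S₀ := by
      intro x hx
      obtain ⟨y, rfl, hy⟩ := hT₀' x hx
      have := (hmem _).1 (hTS hy)
      rwa [show h * (h⁻¹ * y * h) * h⁻¹ = y by group] at this
    have hfusT : ∀ g ∈ H, ∀ x ∈ T₀, x ∈ S₀ → g * x * g⁻¹ ∈ S₀ → g * x * g⁻¹ ∈ T₀ := by
      intro g hg x hx _ hgx
      obtain ⟨y, rfl, hy⟩ := hT₀' x hx
      have hin : h⁻¹ * (⟨g, hg⟩ * y * ⟨g, hg⟩⁻¹) * h ∈ (S : Subgroup H) := (hmem _).2 (by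
        rw [show h * (h⁻¹ * (⟨g, hg⟩ * y * ⟨g, hg⟩⁻¹) * h) * h⁻¹ = ⟨g, hg⟩ * y * ⟨g, hg⟩⁻¹ by group]
        exact hgx)
      refine hT₀ (⟨g, hg⟩ * y * ⟨g, hg⟩⁻¹) ?_
      have := hcl' (h⁻¹ * ⟨g, hg⟩ * h) (h⁻¹ * y * h) hy (by convert hin using 1; group)
      convert this using 1; group
    have hnorm : (T₀.subgroupOf S₀).Normal := ⟨fun n hn g => by
      show (g : Ω) * (n : Ω) * (g : Ω)⁻¹ ∈ T₀
      exact hfusT g (hS₀ g.2) n hn n.2 (g * n * g⁻¹).2⟩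
    have hne₀ : T₀.subgroupOf S₀ ≠ ⊥ := by
      obtain ⟨t, ht, ht1⟩ := (Subgroup.ne_bot_iff_exists_ne_one).1 hb |> fun ⟨t, ht⟩ =>
        (⟨(t : H), t.2, fun h' => ht (Subtype.ext h')⟩ : ∃ t, t ∈ T ∧ t ≠ 1)
      have hmem₀ : ((h * t * h⁻¹ : H) : Ω) ∈ T₀ := hT₀ _ (by
        rwa [show h⁻¹ * (h * t * h⁻¹) * h = t by group])
      intro hb'
      have : (⟨_, hT₀S hmem₀⟩ : S₀) ∈ T₀.subgroupOf S₀ := hmem₀
      rw [hb', Subgroup.mem_bot] at this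
      have h1 : h * t * h⁻¹ = 1 := by
        have e := congrArg (fun w : S₀ => (w : Ω)) this
        exact Subtype.ext e
      exact ht1 (by simpa [mul_inv_eq_one] using h1)
    obtain ⟨u, hu, hu1⟩ := (Subgroup.ne_bot_iff_exists_ne_one).1
      (PGroups.normal_inf_center_ne_bot hp (T₀.subgroupOf S₀) hne₀) |> fun ⟨u, hu⟩ =>
        (⟨(u : S₀), u.2, fun h' => hu (Subtype.ext h')⟩ :
          ∃ u, u ∈ T₀.subgroupOf S₀ ⊓ Subgroup.center S₀ ∧ u ≠ 1)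
    have huz : (u : Ω) = z := (hcent u u.2 fun y hy =>
      (congrArg Subtype.val (Subgroup.mem_center_iff.1 hu.2 ⟨y, hy⟩)).symm).resolve_left
        fun h' => hu1 (Subtype.ext h')
    have hall := hfus T₀ (huz ▸ hu.1) hfusT
    refine le_antisymm hTS fun x hx => ?_
    obtain ⟨y, hy, hyT⟩ := hT₀' _ (hall ((hmem x).1 hx))
    rw [show y = h * x * h⁻¹ from Subtype.ext hy] at hyT
    rwa [show h⁻¹ * (h * x * h⁻¹) * h = x by group] at hyT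

end Cfsg.Agent.Lib.FusionAlperin.MathieuGroup
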