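import Mathlib

/-!
The monomial group attached to a homomorphism `ρ : S →* A` and a transversal `t` of its image: the elements
`(f, a)` with `f : A ⧸ ρ.range → S` lifting the cocycle `x ↦ (t x)⁻¹ a t(a⁻¹ x)`. It is an extension of `A` by
the product of copies of `ρ.ker`. Two tools: lifting `ρ` (induction of local homomorphisms) and conjugating
one lift into another (comparison on stabilisers).
-/

set_option autoImplicit false

namespace Cfsg.Agent.Lib.FusionAlperin.Monomial

variable {S A : Type*} [Group S] [Group A]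

/-- Permutation of coordinates. -/
def permHom (ρ : S →* A) : A →* MulAut (A ⧸ ρ.range → S) where
  toFun a :=
    { toFun := fun f x => f (a⁻¹ • x)
      invFun := fun f x => f (a • x)
      left_inv := fun f => funext fun x => by simp
      right_inv := fun f => funext fun x => by simp
      map_mul' := fun f g => rfl }
  map_one' := by ext f x; simp
  map_mul' a b := by ext f x; simp [mul_smul]

@[simp] theorem permHom_apply (ρ : S →* A) (a : A) (f : A ⧸ ρ.range → S) (x : A ⧸ ρ.range) :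
    permHom ρ a f x = f (a⁻¹ • x) := rfl

/-- The monomial group. -/
def monGroup (ρ : S →* A) (t : A ⧸ ρ.range → A) :
    Subgroup ((A ⧸ ρ.range → S) ⋊[permHom ρ] A) where
  carrier := {w | ∀ x, ρ (w.left x) = (t x)⁻¹ * w.right * t (w.right⁻¹ • x)}
  one_mem' := by intro x; simp
  mul_mem' := by
    intro v w hv hw x
    simp only [SemidirectProduct.mul_left, SemidirectProduct.mul_right, Pi.mul_apply, permHom_apply, map_mul,
      hv x, hw (v.right⁻¹ • x), mul_inv_rev, mul_smul]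
    group
  inv_mem' := by
    intro v hv x
    simp only [SemidirectProduct.inv_left, SemidirectProduct.inv_right, permHom_apply, Pi.inv_apply, inv_inv]
    rw [map_inv, hv (v.right • x), inv_smul_smul]
    group

variable {ρ : S →* A} {t : A ⧸ ρ.range → A}

/-- The projection to `A`. -/
def proj (ρ : S →* A) (t : A ⧸ ρ.range → A) : monGroup ρ t →* A :=
  SemidirectProduct.rightHom.comp (monGroup ρ t).subtype

/-- The coordinate at `x`. -/
def coord (w : monGroup ρ t) (x : A ⧸ ρ.range) : S := (w : (A ⧸ ρ.range → S) ⋊[permHom ρ] A).left x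

/-- An element with given coordinates. -/
def mk (f : A ⧸ ρ.range → S) (a : A) (h : ∀ x, ρ (f x) = (t x)⁻¹ * a * t (a⁻¹ • x)) : monGroup ρ t :=
  ⟨⟨f, a⟩, h⟩

@[simp] theorem proj_mk (f : A ⧸ ρ.range → S) (a : A) (h : ∀ x, ρ (f x) = (t x)⁻¹ * a * t (a⁻¹ • x)) :
    proj ρ t (mk f a h) = a := rfl

@[simp] theorem coord_mk (f : A ⧸ ρ.range → S) (a : A) (h : ∀ x, ρ (f x) = (t x)⁻¹ * a * t (a⁻¹ • x))
    (x : A ⧸ ρ.range) : coord (mk f a h) x = f x := rfl

theorem rho_coord (w : monGroup ρ t) (x : A ⧸ ρ.range) :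
    ρ (coord w x) = (t x)⁻¹ * proj ρ t w * t ((proj ρ t w)⁻¹ • x) := w.2 x

@[simp] theorem coord_one (x : A ⧸ ρ.range) : coord (1 : monGroup ρ t) x = 1 := rfl

theorem coord_mul (v w : monGroup ρ t) (x : A ⧸ ρ.range) :
    coord (v * w) x = coord v x * coord w ((proj ρ t v)⁻¹ • x) := rfl

theorem coord_inv (v : monGroup ρ t) (x : A ⧸ ρ.range) :
    coord v⁻¹ x = (coord v (proj ρ t v • x))⁻¹ := by
  show permHom ρ (proj ρ t v)⁻¹ _ x = _
  rw [permHom_apply, inv_inv]
  rfl

theorem monExt {v w : monGroup ρ t} (h1 : proj ρ t v = proj ρ t w) (h2 : ∀ x, coord v x = coord w x) : v = w :=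
  Subtype.ext (SemidirectProduct.ext (funext h2) h1)

instance monGroup_finite [Finite S] [Finite A] (ρ : S →* A) (t : A ⧸ ρ.range → A) : Finite (monGroup ρ t) :=
  Finite.of_injective (fun w : monGroup ρ t => ((coord w : A ⧸ ρ.range → S), proj ρ t w)) fun _ _ h =>
    monExt (congrArg Prod.snd h) (congrFun (congrArg Prod.fst h))

theorem exists_rho_eq (ht : ∀ x, (t x : A ⧸ ρ.range) = x) (a : A) (x y : A ⧸ ρ.range) (h : a • y = x) :
    ∃ g : S, ρ g = (t x)⁻¹ * a * t y := by
  have : ((t x : A) : A ⧸ ρ.range) = ((a * t y : A) : A ⧸ ρ.range) := by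
    rw [ht, ← h]
    conv_lhs => rw [← ht y]
    rfl
  rw [QuotientGroup.eq, ← mul_assoc] at this
  exact this

theorem proj_surjective (ht : ∀ x, (t x : A ⧸ ρ.range) = x) : Function.Surjective (proj ρ t) := by
  intro a
  choose f hf using fun x => exists_rho_eq ht a x (a⁻¹ • x) (by simp)
  exact ⟨mk f a hf, rfl⟩

/-- Orbit representatives for a group acting through `θ`. -/
theorem exists_orbit_reps {R : Type*} [Group R] (θ : R →* A) (x0 : A ⧸ ρ.range) :
    ∃ o : A ⧸ ρ.range → A ⧸ ρ.range,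
      (∀ x, ∃ r, θ r • o x = x) ∧ (∀ x r, o (θ r • x) = o x) ∧ o x0 = x0 := by
  classical
  let st : Setoid (A ⧸ ρ.range) :=
    { r := fun x y => ∃ r : R, θ r • x = y
      iseqv :=
        ⟨fun x => ⟨1, by simp⟩, fun {x y} ⟨r, h⟩ => ⟨r⁻¹, by simp [← h]⟩,
          fun {x y z} ⟨r, h⟩ ⟨r', h'⟩ => ⟨r' * r, by simp [mul_smul, h, h']⟩⟩ }
  let o := fun x => if Quotient.mk st x = Quotient.mk st x0 then x0 else (Quotient.mk st x).out
  refine ⟨o, fun x => ?_, fun x r => ?_, by simp [o]⟩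
  · by_cases h : Quotient.mk st x = Quotient.mk st x0
    · simp only [o, if_pos h]; exact Quotient.exact h.symm
    · simp only [o, if_neg h]; exact Quotient.exact (Quotient.out_eq (Quotient.mk st x))
  · have h : Quotient.mk st (θ r • x) = Quotient.mk st x := Quotient.sound ⟨r⁻¹, by simp⟩
    simp only [o, h]

/-- Induction: local lifts on stabilisers give a lift of `ρ`. -/
theorem exists_lift (ht : ∀ x, (t x : A ⧸ ρ.range) = x) (φ : A ⧸ ρ.range → S → S)
    (hφmul : ∀ x r r', ρ r • x = x → ρ r' • x = x → φ x (r * r') = φ x r * φ x r')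
    (hφρ : ∀ x r, ρ r • x = x → ρ (φ x r) = (t x)⁻¹ * ρ r * t x)
    (x0 : A ⧸ ρ.range) (hφ0 : ∀ r, φ x0 r = r) :
    ∃ j : S →* monGroup ρ t, (∀ s, proj ρ t (j s) = ρ s) ∧
      (∀ s, ρ s • x0 = x0 → coord (j s) x0 = s) ∧
      ∀ x, ∃ (o : A ⧸ ρ.range) (u k : S), ρ u • o = x ∧ ρ k = (t o)⁻¹ * (ρ u)⁻¹ * t x ∧
        ∀ s, ρ s • x = x → coord (j s) x = k⁻¹ * φ o (u⁻¹ * s * u) * k := by
  classical
  obtain ⟨o, ho, hoinv, ho0⟩ := exists_orbit_reps (ρ := ρ) ρ x0
  choose u0 hu0 using ho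
  let u : A ⧸ ρ.range → S := fun x => if x = x0 then 1 else u0 x
  have hu : ∀ x, ρ (u x) • o x = x := by
    intro x
    by_cases h : x = x0
    · subst h; simp [u, ho0]
    · simp [u, h, hu0]
  have hk0 : ∀ x, ∃ k : S, ρ k = (t (o x))⁻¹ * (ρ (u x))⁻¹ * t x := fun x =>
    exists_rho_eq ht _ _ _ (by rw [inv_smul_eq_iff, hu])
  choose k0 hk0' using hk0
  let k : A ⧸ ρ.range → S := fun x => if x = x0 then 1 else k0 x
  have hk : ∀ x, ρ (k x) = (t (o x))⁻¹ * (ρ (u x))⁻¹ * t x := by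
    intro x
    by_cases h : x = x0
    · subst h; simp [u, k, ho0]
    · simp [k, h, hk0']
  -- the coordinate function
  let y : S → A ⧸ ρ.range → A ⧸ ρ.range := fun s x => (ρ s)⁻¹ • x
  have hy : ∀ s x, o (y s x) = o x := fun s x => by
    have := hoinv x s⁻¹
    simpa [y] using this
  have hstab : ∀ s x, ρ ((u x)⁻¹ * s * u (y s x)) • o x = o x := by
    intro s x
    have h2 := hu (y s x)
    rw [hy] at h2
    rw [map_mul, map_mul, map_inv, mul_smul, mul_smul, h2]
    simp only [y, smul_inv_smul]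
    conv_lhs => arg 2; rw [← hu x]
    simp
  let F : S → A ⧸ ρ.range → S := fun s x => (k x)⁻¹ * φ (o x) ((u x)⁻¹ * s * u (y s x)) * k (y s x)
  have hF : ∀ s x, ρ (F s x) = (t x)⁻¹ * ρ s * t ((ρ s)⁻¹ • x) := by
    intro s x
    simp only [F, map_mul, map_inv, hk, hy, hφρ _ _ (hstab s x), y]
    group
  refine ⟨MonoidHom.mk' (fun s => mk (F s) (ρ s) (hF s)) ?_, fun s => rfl, ?_, fun x => ?_⟩
  · intro s s'
    refine monExt (by simp) fun x => ?_
    rw [coord_mul]
    simp only [coord_mk, proj_mk]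
    show F (s * s') x = F s x * F s' (y s x)
    have e : y (s * s') x = y s' (y s x) := by simp [y, mul_smul]
    simp only [F, e, hy s x]
    have hst' := hstab s' (y s x)
    rw [hy s x] at hst'
    have := hφmul (o x) _ _ (hstab s x) hst'
    rw [show (u x)⁻¹ * (s * s') * u (y s' (y s x)) =
      ((u x)⁻¹ * s * u (y s x)) * ((u (y s x))⁻¹ * s' * u (y s' (y s x))) by group, this]
    group
  · intro s hs
    have e : y s x0 = x0 := by
      show (ρ s)⁻¹ • x0 = x0
      conv_lhs => rw [← hs]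
      simp
    show F s x0 = s
    simp only [F, e]
    simp [u, k, ho0, hφ0]
  · refine ⟨o x, u x, k x, hu x, hk x, fun s hs => ?_⟩
    have e : y s x = x := by
      show (ρ s)⁻¹ • x = x
      conv_lhs => rw [← hs]
      simp
    show F s x = _
    simp only [F, e]

/-- Comparison: two homomorphisms into the monomial group that are conjugate on every stabiliser are
conjugate. -/
theorem exists_conj {R : Type*} [Group R] (j₁ j₂ : R →* monGroup ρ t) (a : A)
    (hproj : ∀ r, a * proj ρ t (j₁ r) * a⁻¹ = proj ρ t (j₂ r))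
    (hloc : ∀ x, ∃ g : S, ρ g = (t x)⁻¹ * a * t (a⁻¹ • x) ∧
      ∀ r, proj ρ t (j₂ r) • x = x → g * coord (j₁ r) (a⁻¹ • x) = coord (j₂ r) x * g) :
    ∃ m : monGroup ρ t, proj ρ t m = a ∧ ∀ r, m * j₁ r = j₂ r * m := by
  classical
  obtain ⟨o, ho, hoinv, -⟩ :=
    exists_orbit_reps (ρ := ρ) ((proj ρ t).comp j₂) ((1 : A) : A ⧸ ρ.range)
  choose rr hrr using ho
  choose g hg hg' using hloc
  have hp1 : ∀ (r : R) (x : A ⧸ ρ.range),
      (proj ρ t (j₁ r))⁻¹ • a⁻¹ • x = a⁻¹ • (proj ρ t (j₂ r))⁻¹ • x := by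
    intro r x
    rw [← hproj r]
    simp [mul_smul, mul_inv_rev]
  have hp2 : ∀ x, (proj ρ t (j₂ (rr x)))⁻¹ • x = o x := by
    intro x
    conv_lhs => arg 2; rw [← hrr x]
    simp
  let f : A ⧸ ρ.range → S := fun x =>
    coord (j₂ (rr x)) x * g (o x) * (coord (j₁ (rr x)) (a⁻¹ • x))⁻¹
  have hf : ∀ x, ρ (f x) = (t x)⁻¹ * a * t (a⁻¹ • x) := by
    intro x
    simp only [f, map_mul, map_inv, rho_coord, hg, hp1, hp2]
    rw [← hproj (rr x)]
    group
  refine ⟨mk f a hf, rfl, fun r => monExt (by simp [← hproj r]) fun x => ?_⟩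
  rw [coord_mul, coord_mul]
  simp only [coord_mk, proj_mk]
  let x' := (proj ρ t (j₂ r))⁻¹ • x
  have hox' : o x' = o x := by
    have := hoinv x r⁻¹
    simpa [x'] using this
  let s0 := (rr x)⁻¹ * r * rr x'
  have hs0 : proj ρ t (j₂ s0) • o x = o x := by
    have h2 : proj ρ t (j₂ (rr x')) • o x' = x' := hrr x'
    rw [hox'] at h2
    simp only [s0, map_mul, map_inv, mul_smul, h2]
    simp only [x', smul_inv_smul]
    rw [hp2]
  have key1 : coord (j₁ r) (a⁻¹ • x) * coord (j₁ (rr x')) (a⁻¹ • x') =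
      coord (j₁ (rr x)) (a⁻¹ • x) * coord (j₁ s0) (a⁻¹ • o x) := by
    have e : r * rr x' = rr x * s0 := by simp only [s0]; group
    have := congrArg (fun z => coord (j₁ z) (a⁻¹ • x)) e
    simp only [map_mul, coord_mul, hp1, hp2] at this
    exact this
  have key2 : coord (j₂ r) x * coord (j₂ (rr x')) x' = coord (j₂ (rr x)) x * coord (j₂ s0) (o x) := by
    have e : r * rr x' = rr x * s0 := by simp only [s0]; group
    have := congrArg (fun z => coord (j₂ z) x) e
    simp only [map_mul, coord_mul, hp2] at this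
    exact this
  have hgs := hg' (o x) s0 hs0
  show f x * coord (j₁ r) (a⁻¹ • x) = coord (j₂ r) x * f x'
  simp only [f, hox']
  calc coord (j₂ (rr x)) x * g (o x) * (coord (j₁ (rr x)) (a⁻¹ • x))⁻¹ * coord (j₁ r) (a⁻¹ • x)
      = coord (j₂ (rr x)) x * g (o x) * ((coord (j₁ (rr x)) (a⁻¹ • x))⁻¹ *
          (coord (j₁ r) (a⁻¹ • x) * coord (j₁ (rr x')) (a⁻¹ • x'))) *
          (coord (j₁ (rr x')) (a⁻¹ • x'))⁻¹ := by group
    _ = coord (j₂ (rr x)) x * (g (o x) * coord (j₁ s0) (a⁻¹ • o x)) *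
          (coord (j₁ (rr x')) (a⁻¹ • x'))⁻¹ := by rw [key1]; group
    _ = coord (j₂ (rr x)) x * coord (j₂ s0) (o x) * g (o x) *
          (coord (j₁ (rr x')) (a⁻¹ • x'))⁻¹ := by rw [hgs]; group
    _ = _ := by rw [← key2]; group

end Cfsg.Agent.Lib.FusionAlperin.Monomial
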