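import Mathlib
import Cfsg.Agent.Lib.FusionSystem.Saturation
import Cfsg.Agent.Lib.FusionAlperin.Agree
import Cfsg.Agent.Lib.FusionAlperin.Complement
import Cfsg.Agent.Lib.FusionAlperin.Monomial

/-!
The model theorem: a constrained saturated fusion system over a finite `p`-group has a model.

For `Q` normal and centric, `A = Aut_F(Q)` and `ρ : S → A`, the monomial group of `ρ` is an extension of `A` by
copies of `Z(Q)`; saturation gives a lift `j` of `ρ` by maps of the system, stable modulo the diagonal `Z(Q)`,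
and averaging extends it to a section over `A`. Its preimage is the model.
-/

set_option autoImplicit false
set_option linter.style.haveILetI false

namespace Cfsg.Agent.Lib.FusionAlperin.Model

open Cfsg Cfsg.FusionSystem Cfsg.Agent.Lib.FS Cfsg.Agent.Lib.FusionAlperin

universe u

variable {Ω : Type u} [Group Ω] {S : Subgroup Ω} {F : FusionSystem S} {Q : Subgroup Ω}

/-- A subgroup normal in the system is carried onto itself by every map defined on it. -/
theorem nle (hQn : F.IsNormal Q) : Q ≤ S := hQn.1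

/-- A subgroup normal in the system is carried onto itself by every map defined on it. -/
theorem apply_mem_of_normal (hQn : F.IsNormal Q) {P : Subgroup Ω} {φ : P →* Ω} (hφ : φ ∈ F.Hom P) (x : P)
    (hx : (x : Ω) ∈ Q) : φ x ∈ Q := by
  obtain ⟨ψ, -, hP, hQ⟩ := hQn.2 P φ hφ
  rw [← hP x]
  exact hQ.le ⟨_, hx, rfl⟩

theorem base_le_normalizer [Finite S] (hQn : F.IsNormal Q) : S ≤ Subgroup.normalizer (Q : Set Ω) := by
  intro s hs
  haveI := finite_sub (nle hQn)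
  exact mem_normalizer_of_conj_mem fun x hx =>
    apply_mem_of_normal hQn (F.conj_mem (nle hQn) hs) ⟨x, hx⟩ hx

theorem fullyNormalized_of_normal [Finite S] (hQn : F.IsNormal Q) : F.IsFullyNormalized Q := by
  refine ⟨(nle hQn), fun R _ => ?_⟩
  rw [show normalizerIn S Q = S from inf_eq_left.2 (base_le_normalizer hQn)]
  exact Subgroup.card_le_of_le inf_le_left

/-- The action of `S` on `Q`, as automorphisms of the system. -/
noncomputable def rho [Finite S] (hQn : F.IsNormal Q) : S →* F.autGroup Q :=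
  (Q.normalizerMonoidHom.comp (Subgroup.inclusion (base_le_normalizer hQn))).codRestrict _ fun s =>
    mem_autGroup_of_hom (F.conj_mem (nle hQn) s.2) fun _ => rfl

theorem rho_apply [Finite S] (hQn : F.IsNormal Q) (s : S) (q : Q) :
    (((rho hQn s : MulAut Q) q : Q) : Ω) = s * q * (s : Ω)⁻¹ := rfl

theorem ker_le [Finite S] (hQn : F.IsNormal Q) (hQc : F.IsCentric Q) {s : S} (hs : rho hQn s = 1) :
    (s : Ω) ∈ Q ∧ ∀ q ∈ Q, (s : Ω) * q = q * s := by
  have h : ∀ q ∈ Q, (s : Ω) * q * (s : Ω)⁻¹ = q := fun q hq => by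
    have := rho_apply hQn s ⟨q, hq⟩
    rw [hs] at this
    exact this.symm
  refine ⟨hQc.2 Q (isConj_refl F (nle hQn)) (mem_centralizerIn'.2 ⟨s.2, h⟩), fun q hq => ?_⟩
  exact mul_inv_eq_iff_eq_mul.1 (h q hq)

theorem aut_conj_rho [Finite S] (hQn : F.IsNormal Q) (a : F.autGroup Q) (q : Q) :
    a * rho hQn ⟨q, (nle hQn) q.2⟩ * a⁻¹ =
      rho hQn ⟨((a : MulAut Q) q : Q), (nle hQn) ((a : MulAut Q) q).2⟩ := by
  refine Subtype.ext (MulEquiv.ext fun w => Subtype.ext ?_)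
  rw [rho_apply]
  have : rho hQn ⟨q, (nle hQn) q.2⟩ = ⟨MulAut.conj q, mem_autGroup_of_hom (F.conj_mem (nle hQn) ((nle hQn) q.2)) fun _ => rfl⟩ :=
    Subtype.ext (MulEquiv.ext fun _ => Subtype.ext rfl)
  rw [this]
  simp only [Subgroup.coe_mul, Subgroup.coe_inv, MulAut.mul_apply, MulAut.conj_apply, map_mul, map_inv,
    MulAut.apply_inv_self]

/-- Automorphisms of a normal centric subgroup extend as far as saturation allows. -/
theorem extend_aut [Finite S] {p : ℕ} [Fact p.Prime] (hS : IsPGroup p S) (hF : F.IsSaturated p)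
    (hQn : F.IsNormal Q) (a : F.autGroup Q) :
    ∃ (R : Subgroup Ω) (ψ : R →* Ω), ψ ∈ F.Hom R ∧ Q ≤ R ∧
      (∀ s : S, a * rho hQn s * a⁻¹ ∈ (rho hQn).range → (s : Ω) ∈ R) ∧
      (∀ (q : Q) (hq : (q : Ω) ∈ R), ψ ⟨q, hq⟩ = (((a : MulAut Q) q : Q) : Ω)) ∧
      ∀ (s : S) (hs : (s : Ω) ∈ R) (h : ψ ⟨s, hs⟩ ∈ S), rho hQn ⟨ψ ⟨s, hs⟩, h⟩ = a * rho hQn s * a⁻¹ := by
  obtain ⟨φ, hφ, hφQ, hφa⟩ := exists_hom_of_aut (nle hQn) a.2
  have hrec := receptive_of_fullyNormalized hS hF (fullyNormalized_of_normal hQn)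
  obtain ⟨ψ, hψ, he⟩ := hrec.2 Q φ hφ hφQ
  have hQR : Q ≤ extender S Q φ := le_extender (nle hQn) (apply_mem hφ)
  refine ⟨_, ψ, hψ, hQR, fun s hs => ?_, fun q hq => (he q q.2 hq).trans (hφa q), fun s hs h => ?_⟩
  · obtain ⟨k, hk⟩ := hs
    refine mem_extender_of ⟨s.2, base_le_normalizer hQn s.2⟩ k.2 fun x hx => ?_
    rw [hφa, hφa]
    have e : (rho hQn k : MulAut Q) ((a : MulAut Q) x) = (a : MulAut Q) ((rho hQn s : MulAut Q) x) := by
      rw [hk]; simp
    calc (((a : MulAut Q) ⟨_, hx⟩ : Q) : Ω) = (a : MulAut Q) ((rho hQn s : MulAut Q) x) := rfl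
      _ = _ := by rw [← e, rho_apply]
  · refine Subtype.ext (MulEquiv.ext fun w => Subtype.ext ?_)
    rw [rho_apply]
    simp only [Subgroup.coe_mul, Subgroup.coe_inv, MulAut.mul_apply]
    obtain ⟨v, rfl⟩ : ∃ v, (a : MulAut Q) v = w := ⟨_, MulAut.apply_inv_self _ _ w⟩
    rw [MulAut.inv_apply_self]
    have hcj : (s : Ω) * v * (s : Ω)⁻¹ ∈ Q := conj_mem_of_normalizer (base_le_normalizer hQn s.2) v.2
    rw [show (rho hQn s : MulAut Q) v = ⟨_, hcj⟩ from Subtype.ext (rho_apply hQn s v), ← hφa, ← hφa]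
    exact (ext_apply_conj hQR he ⟨s, hs⟩ v hcj).symm

section Construction

variable [Finite S] {p : ℕ} [Fact p.Prime]

/-- A transversal with `1` at the trivial coset. -/
theorem exists_transversal {A : Type*} [Group A] (P : Subgroup A) :
    ∃ t : A ⧸ P → A, (∀ x, (t x : A ⧸ P) = x) ∧ t ((1 : A) : A ⧸ P) = 1 := by
  classical
  refine ⟨fun x => if x = ((1 : A) : A ⧸ P) then 1 else x.out, fun x => ?_, by simp⟩
  by_cases h : x = ((1 : A) : A ⧸ P)
  · simp [h]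
  · simp [h]

theorem fix_iff {A : Type*} [Group A] {P : Subgroup A} {t : A ⧸ P → A} (ht : ∀ x, (t x : A ⧸ P) = x)
    (a : A) (x : A ⧸ P) : a • x = x ↔ (t x)⁻¹ * a * t x ∈ P := by
  conv_lhs => rw [← ht x]
  rw [MulAction.Quotient.smul_coe, eq_comm, QuotientGroup.eq, smul_eq_mul, mul_assoc]

variable (hQn : F.IsNormal Q) {t : F.autGroup Q ⧸ (rho hQn).range → F.autGroup Q}

/-- The lift of `ρ` whose coordinates on stabilisers are maps of the system. -/
theorem exists_good_lift (hS : IsPGroup p S) (hF : F.IsSaturated p)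
    (ht : ∀ x, (t x : F.autGroup Q ⧸ (rho hQn).range) = x) (ht1 : t ((1 : F.autGroup Q) : _ ⧸ _) = 1) :
    ∃ j : S →* Monomial.monGroup (rho hQn) t, (∀ s, Monomial.proj _ _ (j s) = rho hQn s) ∧
      (∀ s, Monomial.coord (j s) ((1 : F.autGroup Q) : _ ⧸ _) = s) ∧
      ∀ x, ∃ (R : Subgroup Ω) (χ : R →* Ω), χ ∈ F.Hom R ∧
        (∀ s : S, rho hQn s • x = x → ∃ h : (s : Ω) ∈ R, ((Monomial.coord (j s) x : S) : Ω) = χ ⟨s, h⟩) ∧
        ∀ q : Q, ((Monomial.coord (j ⟨q, (nle hQn) q.2⟩) x : S) : Ω) = (((((t x)⁻¹ : F.autGroup Q) : MulAut Q) q : Q) : Ω) := by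
  classical
  choose Rf ψf hψf hQR hsR hψq hψρ using fun x => extend_aut hS hF hQn ((t x)⁻¹)
  have hmem : ∀ x (r : S), (rho hQn) r • x = x → (r : Ω) ∈ Rf x := by
    intro x r hr
    refine hsR x r ?_
    rw [inv_inv]
    exact (fix_iff ht _ x).1 hr
  have hfix0 : ∀ r : S, (rho hQn) r • ((1 : F.autGroup Q) : F.autGroup Q ⧸ (rho hQn).range) = ((1 : F.autGroup Q) : F.autGroup Q ⧸ (rho hQn).range) := by
    intro r
    rw [fix_iff ht, ht1]
    simp
  let φ : F.autGroup Q ⧸ (rho hQn).range → S → S := fun x r =>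
    if x = ((1 : F.autGroup Q) : F.autGroup Q ⧸ (rho hQn).range) then r else if h : (r : Ω) ∈ Rf x then ⟨ψf x ⟨r, h⟩, apply_mem (hψf x) _⟩ else 1
  have hφmul : ∀ x r r', (rho hQn) r • x = x → (rho hQn) r' • x = x → φ x (r * r') = φ x r * φ x r' := by
    intro x r r' hr hr'
    by_cases hx : x = ((1 : F.autGroup Q) : F.autGroup Q ⧸ (rho hQn).range)
    · simp [φ, hx]
    · have h1 := hmem x r hr
      have h2 := hmem x r' hr'
      have h3 : ((r * r' : S) : Ω) ∈ Rf x := (Rf x).mul_mem h1 h2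
      simp only [φ, if_neg hx, dif_pos h1, dif_pos h2, dif_pos h3]
      exact Subtype.ext (map_mul (ψf x) ⟨_, h1⟩ ⟨_, h2⟩)
  have hφρ : ∀ x r, (rho hQn) r • x = x → (rho hQn) (φ x r) = (t x)⁻¹ * (rho hQn) r * t x := by
    intro x r hr
    by_cases hx : x = ((1 : F.autGroup Q) : F.autGroup Q ⧸ (rho hQn).range)
    · subst hx; simp [φ, ht1]
    · simp only [φ, if_neg hx, dif_pos (hmem x r hr)]
      rw [hψρ x r _ _, inv_inv]
  have hφq : ∀ x (q : Q), (φ x ⟨q, (nle hQn) q.2⟩ : Ω) = (((((t x)⁻¹ : F.autGroup Q) : MulAut Q) q : Q) : Ω) := by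
    intro x q
    by_cases hx : x = ((1 : F.autGroup Q) : F.autGroup Q ⧸ (rho hQn).range)
    · subst hx; simp [φ, ht1]
    · simp only [φ, if_neg hx, dif_pos (hQR x q.2)]
      exact hψq x q _
  obtain ⟨j, hj, hj0, hjx⟩ := Monomial.exists_lift ht φ hφmul hφρ ((1 : F.autGroup Q) : F.autGroup Q ⧸ (rho hQn).range) (fun r => by simp [φ])
  refine ⟨j, hj, fun s => hj0 s (hfix0 s), fun x => ?_⟩
  obtain ⟨o, u, k, hu, hk, hco⟩ := hjx x
  -- the stabiliser as a subgroup of Ω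
  set W : Subgroup Ω := ((MulAction.stabilizer (F.autGroup Q) x).comap (rho hQn)).map S.subtype
  have hW : W ≤ S := Subgroup.map_subtype_le _
  have hWfix : ∀ r : W, (rho hQn) ⟨r, hW r.2⟩ • x = x := by
    rintro ⟨_, s, hs, rfl⟩
    exact hs
  have hWo : ∀ r : W, (rho hQn) (u⁻¹ * ⟨r, hW r.2⟩ * u) • o = o := by
    intro r
    rw [map_mul, map_mul, map_inv, mul_smul, mul_smul, hu, hWfix r, inv_smul_eq_iff, hu]
  have hcu : ∀ r : W, conjHom W ((u⁻¹ : S) : Ω) r ∈ S := fun r => apply_mem (F.conj_mem hW (u⁻¹).2) r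
  have hval : ∀ r : W, (⟨conjHom W ((u⁻¹ : S) : Ω) r, hcu r⟩ : S) = u⁻¹ * ⟨r, hW r.2⟩ * u := fun r =>
    Subtype.ext (by simp [conjHom_apply])
  obtain ⟨χ1, hχ1, hχ1e⟩ : ∃ χ ∈ F.Hom W, ∀ r : W, χ r = (φ o (u⁻¹ * ⟨r, hW r.2⟩ * u) : Ω) := by
    by_cases hox : o = ((1 : F.autGroup Q) : F.autGroup Q ⧸ (rho hQn).range)
    · refine ⟨_, F.conj_mem hW (u⁻¹).2, fun r => ?_⟩
      simp [φ, hox, conjHom_apply]
    · have hin : ∀ r : W, conjHom W ((u⁻¹ : S) : Ω) r ∈ Rf o := fun r => by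
        have := hmem o _ (hWo r)
        rw [← hval r] at this
        exact this
      obtain ⟨χ, hχ, he⟩ := exists_comp (F.conj_mem hW (u⁻¹).2) (hψf o) hin
      refine ⟨χ, hχ, fun r => ?_⟩
      rw [he]
      simp only [φ, if_neg hox, dif_pos (hmem o _ (hWo r))]
      congr 1
      exact Subtype.ext (congrArg (fun z : S => (z : Ω)) (hval r))
  obtain ⟨χ, hχ, hχe⟩ := exists_comp hχ1 (F.conj_mem le_rfl (k⁻¹).2) (fun r => apply_mem hχ1 r)
  refine ⟨W, χ, hχ, fun s hs => ⟨⟨s, hs, rfl⟩, ?_⟩, fun q => ?_⟩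
  · rw [hco s hs, hχe, conjHom_apply]
    show _ = ((k⁻¹ : S) : Ω) * χ1 _ * ((k⁻¹ : S) : Ω)⁻¹
    rw [hχ1e]
    simp
  · have hq : (rho hQn) ⟨q, (nle hQn) q.2⟩ • x = x := by
      rw [fix_iff ht]
      have := aut_conj_rho hQn (t x)⁻¹ q
      rw [inv_inv] at this
      rw [this]
      exact ⟨_, rfl⟩
    rw [hco _ hq]
    have hcq : ((u⁻¹ : S) : Ω) * q * ((u⁻¹ : S) : Ω)⁻¹ ∈ Q :=
      conj_mem_of_normalizer (base_le_normalizer hQn (u⁻¹).2) q.2
    have e : u⁻¹ * (⟨q, (nle hQn) q.2⟩ : S) * u = ⟨_, (nle hQn) hcq⟩ := Subtype.ext (by simp)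
    rw [e]
    have h1 := hφq o ⟨_, hcq⟩
    have h2 : (⟨_, hcq⟩ : Q) = (((rho hQn) u⁻¹ : F.autGroup Q) : MulAut Q) q := Subtype.ext (rho_apply hQn u⁻¹ q).symm
    rw [h2] at h1
    simp only [Subgroup.coe_mul, Subgroup.coe_inv] at h1 ⊢
    rw [show (((k : S) : Ω))⁻¹ = ((k⁻¹ : S) : Ω) from rfl]
    calc ((k⁻¹ : S) : Ω) * (φ o ⟨_, (nle hQn) hcq⟩ : Ω) * (k : Ω)
        = ((k⁻¹ : S) : Ω) * (φ o ⟨_, (nle hQn) hcq⟩ : Ω) * ((k⁻¹ : S) : Ω)⁻¹ := by simp
      _ = ((((rho hQn) k⁻¹ * ((t o)⁻¹ * (rho hQn) u⁻¹) : F.autGroup Q) : MulAut Q) q : Ω) := by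
          rw [Subgroup.coe_mul, MulAut.mul_apply, rho_apply]
          congr 2
      _ = _ := by
          congr 3
          rw [map_inv, hk, map_inv]
          simp only [mul_inv_rev, inv_inv, mul_assoc, mul_inv_cancel_left, inv_mul_cancel_left, mul_inv_cancel,
            inv_mul_cancel, mul_one, Subgroup.coe_inv]

/-- The lift of `ρ` turns conjugation in the monomial group into the action on `Q`. -/
theorem lift_conj (ht : ∀ x, (t x : F.autGroup Q ⧸ (rho hQn).range) = x)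
    {j : S →* Monomial.monGroup (rho hQn) t} (hj : ∀ s, Monomial.proj _ _ (j s) = rho hQn s)
    (hjq : ∀ x, ∀ q : Q, ((Monomial.coord (j ⟨q, (nle hQn) q.2⟩) x : S) : Ω) = (((((t x)⁻¹ : F.autGroup Q) : MulAut Q) q : Q) : Ω)) :
    ∀ (m : (Monomial.monGroup (rho hQn) t)) (q : Q), m * j ⟨q, (nle hQn) q.2⟩ * m⁻¹ =
      j ⟨((((Monomial.proj (rho hQn) t) m : F.autGroup Q) : MulAut Q) q : Ω), (nle hQn) (Subtype.coe_prop _)⟩ := by
  intro m q
  rw [mul_inv_eq_iff_eq_mul]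
  refine Monomial.monExt ?_ fun x => ?_
  · rw [map_mul, map_mul]
    change (Monomial.proj (rho hQn) t) m * (Monomial.proj (rho hQn) t) (j _) = (Monomial.proj (rho hQn) t) (j _) * (Monomial.proj (rho hQn) t) m
    rw [show (Monomial.proj (rho hQn) t) (j _) = _ from hj _, show (Monomial.proj (rho hQn) t) (j _) = _ from hj _, ← aut_conj_rho hQn ((Monomial.proj (rho hQn) t) m) q]
    group
  · rw [Monomial.coord_mul, Monomial.coord_mul, hj]
    have hfix : ((rho hQn) ⟨((((Monomial.proj (rho hQn) t) m : F.autGroup Q) : MulAut Q) q : Ω), (nle hQn) (Subtype.coe_prop _)⟩)⁻¹ • x = x := by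
      rw [inv_smul_eq_iff, eq_comm, fix_iff ht]
      have := aut_conj_rho hQn (t x)⁻¹ ((((Monomial.proj (rho hQn) t) m : F.autGroup Q) : MulAut Q) q)
      rw [inv_inv] at this
      rw [this]
      exact ⟨_, rfl⟩
    rw [hfix]
    apply Subtype.ext
    have hq1 := hjq (((Monomial.proj (rho hQn) t) m)⁻¹ • x) q
    have hq2 := hjq x ((((Monomial.proj (rho hQn) t) m : F.autGroup Q) : MulAut Q) q)
    rw [Subgroup.coe_mul, Subgroup.coe_mul, hq1, hq2, ← mul_inv_eq_iff_eq_mul]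
    have h := Monomial.rho_coord m x
    have := rho_apply hQn (Monomial.coord m x) ((((t (((Monomial.proj (rho hQn) t) m)⁻¹ • x))⁻¹ : F.autGroup Q) : MulAut Q) q)
    rw [h] at this
    simp only [Subgroup.coe_mul, Subgroup.coe_inv, MulAut.mul_apply, MulAut.apply_inv_self] at this ⊢
    exact this.symm

/-- The local comparison needed for stability. -/
theorem local_conj (hS : IsPGroup p S) (hF : F.IsSaturated p) (hQc : F.IsCentric Q)
    (ht : ∀ x, (t x : F.autGroup Q ⧸ (rho hQn).range) = x)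
    {j : S →* Monomial.monGroup (rho hQn) t} (hj : ∀ s, Monomial.proj _ _ (j s) = rho hQn s)
    (hjloc : ∀ x, ∃ (R : Subgroup Ω) (χ : R →* Ω), χ ∈ F.Hom R ∧
        (∀ s : S, rho hQn s • x = x → ∃ h : (s : Ω) ∈ R, ((Monomial.coord (j s) x : S) : Ω) = χ ⟨s, h⟩) ∧
        ∀ q : Q, ((Monomial.coord (j ⟨q, (nle hQn) q.2⟩) x : S) : Ω) = (((((t x)⁻¹ : F.autGroup Q) : MulAut Q) q : Q) : Ω))
    (a : F.autGroup Q) {R : Subgroup Ω} {ψ : R →* Ω} (hψ : ψ ∈ F.Hom R) (hQR : Q ≤ R)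
    (hψq : ∀ (q : Q) (hq : (q : Ω) ∈ R), ψ ⟨q, hq⟩ = (((a : MulAut Q) q : Q) : Ω))
    (R1 : Subgroup S) (hR1 : ∀ r : R1, ((r : S) : Ω) ∈ R) (η : R1 →* S)
    (hηψ : ∀ r, ((η r : S) : Ω) = ψ ⟨r, hR1 r⟩)
    (hη : ∀ r, (rho hQn) (η r) = a * (rho hQn) r * a⁻¹)
    (hR1mem : ∀ s : S, a * (rho hQn) s * a⁻¹ ∈ (rho hQn).range → s ∈ R1) :
    ∀ x, ∃ g : S, (rho hQn) g = (t x)⁻¹ * a * t (a⁻¹ • x) ∧
      ∀ r, Monomial.proj (rho hQn) t ((j.comp η) r) • x = x →
        g * Monomial.coord ((j.comp R1.subtype) r) (a⁻¹ • x) = Monomial.coord ((j.comp η) r) x * g := by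
  intro x
  let y := a⁻¹ • x
  have hy : a • y = x := smul_inv_smul a x
  obtain ⟨g0, hg0⟩ := Monomial.exists_rho_eq ht a x y hy
  obtain ⟨W1, χ1, hχ1, hW1, hq1⟩ := hjloc y
  obtain ⟨W2, χ2, hχ2, hW2, hq2⟩ := hjloc x
  -- the common stabiliser
  let Wk : Subgroup Ω :=
    (((MulAction.stabilizer (F.autGroup Q) x).comap ((rho hQn).comp η)).map R1.subtype).map S.subtype
  have hWk : ∀ w : Wk, ∃ r : R1, ((r : S) : Ω) = w ∧ (rho hQn) (η r) • x = x ∧ (rho hQn) r • y = y := by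
    rintro ⟨_, _, ⟨r, hr, rfl⟩, rfl⟩
    refine ⟨r, rfl, hr, ?_⟩
    have h' : (rho hQn) (η r) • x = x := hr
    rw [hη, ← hy, mul_smul, mul_smul, inv_smul_smul] at h'
    exact smul_left_cancel a h'
  have hWS : Wk ≤ S := Subgroup.map_subtype_le _
  have hWW1 : Wk ≤ W1 := fun w hw => by
    obtain ⟨r, hr, -, hr2⟩ := hWk ⟨w, hw⟩
    obtain ⟨h, -⟩ := hW1 r hr2
    rwa [show ((r : S) : Ω) = w from hr] at h
  have hWR : Wk ≤ R := fun w hw => by
    obtain ⟨r, hr, -, -⟩ := hWk ⟨w, hw⟩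
    have h := hR1 r
    rwa [show ((r : S) : Ω) = w from hr] at h
  have hWW2 : ∀ w : Wk, ψ ⟨w, hWR w.2⟩ ∈ W2 := fun w => by
    obtain ⟨r, hr, hr2, -⟩ := hWk w
    obtain ⟨h, -⟩ := hW2 _ hr2
    rw [show (⟨(w : Ω), hWR w.2⟩ : R) = ⟨_, hR1 r⟩ from Subtype.ext hr.symm, ← hηψ r]
    exact h
  obtain ⟨ψr, hψr, hψre⟩ := exists_restrict hψ hWR
  obtain ⟨α2, hα2, hα2e⟩ := exists_comp hψr hχ2 (fun w => by rw [hψre]; exact hWW2 w)
  obtain ⟨χ1r, hχ1r, hχ1re⟩ := exists_restrict hχ1 hWW1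
  obtain ⟨α1, hα1, hα1e⟩ := exists_comp hχ1r (F.conj_mem le_rfl g0.2) (fun w => apply_mem hχ1r w)
  have hcoord1 : ∀ (r : R1) (hw : ((r : S) : Ω) ∈ Wk), (rho hQn) r • y = y →
      α1 ⟨_, hw⟩ = g0 * ((Monomial.coord (j r) y : S) : Ω) * (g0 : Ω)⁻¹ := by
    intro r hw hr
    obtain ⟨h, hc⟩ := hW1 r hr
    rw [hα1e, conjHom_apply, hc]
    simp only [hχ1re]
  have hcoord2 : ∀ (r : R1) (hw : ((r : S) : Ω) ∈ Wk), (rho hQn) (η r) • x = x →
      α2 ⟨_, hw⟩ = ((Monomial.coord (j (η r)) x : S) : Ω) := by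
    intro r hw hr
    obtain ⟨h, hc⟩ := hW2 _ hr
    rw [hα2e, hc]
    congr 1
    exact Subtype.ext ((hψre _).trans (hηψ r).symm)
  have hQW : ∀ q : Q, ∃ (r : R1), ((r : S) : Ω) = q ∧ ((r : S) : Ω) ∈ Wk ∧ (rho hQn) r • y = y ∧
      (rho hQn) (η r) • x = x ∧ η r = ⟨(((a : MulAut Q) q : Q) : Ω), (nle hQn) (Subtype.coe_prop _)⟩ := by
    intro q
    have hqR1 : (⟨q, (nle hQn) q.2⟩ : S) ∈ R1 := by
      refine hR1mem _ ?_
      rw [aut_conj_rho hQn a q]; exact ⟨_, rfl⟩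
    have hηq : η ⟨_, hqR1⟩ = ⟨(((a : MulAut Q) q : Q) : Ω), (nle hQn) (Subtype.coe_prop _)⟩ :=
      Subtype.ext ((hηψ _).trans (hψq q _))
    have hfixq : ∀ (q : Q) (z : F.autGroup Q ⧸ (rho hQn).range), (rho hQn) ⟨q, (nle hQn) q.2⟩ • z = z := by
      intro q z
      rw [fix_iff ht]
      have := aut_conj_rho hQn (t z)⁻¹ q
      rw [inv_inv] at this
      rw [this]
      exact ⟨_, rfl⟩
    have hx2 : (rho hQn) (η ⟨_, hqR1⟩) • x = x := by rw [hηq]; exact hfixq _ x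
    exact ⟨⟨_, hqR1⟩, rfl, ⟨_, ⟨_, hx2, rfl⟩, rfl⟩, hfixq q y, hx2, hηq⟩
  have hQWk : Q ≤ Wk := fun q hq => by
    obtain ⟨r, hr, hw, -⟩ := hQW ⟨q, hq⟩
    rwa [show ((r : S) : Ω) = q from hr] at hw
  obtain ⟨z, hz, hzc, hzx⟩ := Agree.exists_conj_of_agree hS hF hQWk
    (hWS.trans (base_le_normalizer hQn)) hQc hα1 hα2 (by
      intro q hq
      obtain ⟨r, hr, hw, hr1, hr2, hηr⟩ := hQW ⟨q, hq⟩
      rw [show (⟨q, hQWk hq⟩ : Wk) = ⟨_, hw⟩ from Subtype.ext hr.symm, hcoord1 r hw hr1,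
        hcoord2 r hw hr2, hηr, hq2,
        show (r : S) = ⟨q, (nle hQn) hq⟩ from Subtype.ext hr, hq1 ⟨q, hq⟩, ← rho_apply hQn g0]
      rw [hg0]
      simp only [Subgroup.coe_mul, Subgroup.coe_inv, MulAut.mul_apply, MulAut.apply_inv_self, Subtype.coe_eta])
  obtain ⟨rz, hrz, hwz, hrz1, hrz2, hηrz⟩ := hQW ⟨z, hz⟩
  refine ⟨g0 * Monomial.coord (j rz) y, ?_, fun r hr => ?_⟩
  · rw [map_mul, hg0, Monomial.rho_coord, hj]
    have : (rho hQn) rz = 1 := by
      refine Subtype.ext (MulEquiv.ext fun q => Subtype.ext ?_)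
      rw [rho_apply, hrz]
      exact mul_inv_eq_iff_eq_mul.2 (hzc q q.2)
    rw [this]
    simp [y]
  · have hrx : (rho hQn) (η r) • x = x := by rw [← hj]; exact hr
    have hry : (rho hQn) r • y = y := by
      have h' := hrx
      rw [hη, ← hy, mul_smul, mul_smul, inv_smul_smul] at h'
      exact smul_left_cancel a h'
    have hw : ((r : S) : Ω) ∈ Wk := ⟨_, ⟨_, hrx, rfl⟩, rfl⟩
    have hmain := hzx ⟨_, hw⟩
    rw [hcoord2 r hw hrx] at hmain
    simp only [map_mul, map_inv] at hmain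
    rw [show (⟨z, hQWk hz⟩ : Wk) = ⟨_, hwz⟩ from Subtype.ext hrz.symm, hcoord1 r hw hry,
      hcoord1 rz hwz hrz1] at hmain
    apply Subtype.ext
    simp only [MonoidHom.comp_apply, Subgroup.coe_mul, Subgroup.coe_subtype]
    rw [hmain]
    show (g0 : Ω) * ((Monomial.coord (j rz) y : S) : Ω) * ((Monomial.coord (j r) y : S) : Ω) = _
    group

/-- An element centralising the image of `Q` acts trivially. -/
theorem action_trivial_of_centralizes {G : Type*} [Group G] {ι : S →* G} (hι : Function.Injective ι) (g : G)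
    (a : MulAut Q) (hq : ∀ (q : Q) (h : (q : Ω) ∈ S) (h' : ((a q : Q) : Ω) ∈ S), g * ι ⟨q, h⟩ * g⁻¹ = ι ⟨(a q : Q), h'⟩)
    (hg : ∀ x : S, (x : Ω) ∈ Q → g * ι x = ι x * g) (hQS : Q ≤ S) : a = 1 := by
  refine MulEquiv.ext fun q => Subtype.ext ?_
  have h := hι ((hq q (hQS q.2) (hQS (a q).2)).symm.trans (mul_inv_eq_iff_eq_mul.2 (hg ⟨q, hQS q.2⟩ q.2)))
  have h2 := congrArg (fun z : S => (z : Ω)) h
  exact h2

/-- Realisation from a group with an action on `Q` whose conjugations are maps of the system. -/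
theorem realized_of_data (hS : IsPGroup p S) (hF : F.IsSaturated p) (hQc : F.IsCentric Q)
    {G : Type*} [Group G] {ι : S →* G} (hιinj : Function.Injective ι) (π : G →* F.autGroup Q)
    (hπι : ∀ s, π (ι s) = rho hQn s) (hsurj : Function.Surjective π)
    (hlifts : ∀ l : G, ∀ b : (rho hQn).range, π l = b → ∃ s : S, ι s = l)
    (hQimg : ∀ (l : G) (q : Q), l * ι ⟨q, (nle hQn) q.2⟩ * l⁻¹ =
      ι ⟨((((π l : F.autGroup Q) : MulAut Q) q : Q) : Ω), (nle hQn) (Subtype.coe_prop _)⟩)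
    (hconj : ∀ (P : Subgroup Ω) (hP : P ≤ S) (φ : P → S) (l : G),
      (∀ x : P, ι (φ x) = l * ι ⟨x, hP x.2⟩ * l⁻¹) → ∃ χ ∈ F.Hom P, ∀ x : P, χ x = φ x) :
    F.IsRealizedBy ι := by
  refine ⟨hιinj, fun P hP φ hφS => ?_⟩
  haveI := finite_sub (nle hQn)
  constructor
  · intro hφ
    obtain ⟨ψ, hψ, hψP, hψQ⟩ := hQn.2 P φ hφ
    have hPQS : P ⊔ Q ≤ S := sup_le hP (nle hQn)
    obtain ⟨ψQ, hψQm, hψQe⟩ := exists_restrict hψ (le_sup_right : Q ≤ P ⊔ Q)
    have hψQr : ψQ.range = Q := range_eq_of_mem hψQm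
      (fun q => by rw [hψQe]; exact apply_mem_of_normal hQn hψ _ q.2) le_rfl
    let a : F.autGroup Q := ⟨_, homEquiv_mem_autGroup hψQm hψQr⟩
    obtain ⟨l, hla⟩ := hsurj a
    -- conjugation by l on PQ takes values in the image of S
    have hval : ∀ x : ↥(P ⊔ Q), ∃ s : S, ι s = l * ι ⟨x, hPQS x.2⟩ * l⁻¹ := by
      intro x
      refine hlifts _ ⟨(rho hQn) ⟨ψ x, apply_mem hψ x⟩, _, rfl⟩ ?_
      rw [map_mul, map_mul, map_inv, hπι, hla]
      refine Subtype.ext (MulEquiv.ext fun w => Subtype.ext ?_)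
      show _ = (((((rho hQn) ⟨ψ x, apply_mem hψ x⟩ : F.autGroup Q) : MulAut Q) w : Q) : Ω)
      rw [rho_apply]
      obtain ⟨v, rfl⟩ : ∃ v, (a : MulAut Q) v = w := ⟨_, MulAut.apply_inv_self _ _ w⟩
      simp only [Subgroup.coe_mul, Subgroup.coe_inv, MulAut.mul_apply, MulAut.inv_apply_self]
      show ψQ _ = (ψ x : Ω) * ψQ v * (ψ x)⁻¹
      rw [hψQe, hψQe, ← map_inv, ← map_mul, ← map_mul]
      rfl
    choose φ' hφ' using hval
    obtain ⟨χ, hχ, hχe⟩ := hconj _ hPQS φ' l hφ'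
    obtain ⟨z, hz, -, hzx⟩ := Agree.exists_conj_of_agree hS hF (le_sup_right : Q ≤ P ⊔ Q)
      (hPQS.trans (base_le_normalizer hQn)) hQc hχ hψ (by
        intro q hq
        rw [hχe]
        have h := (hφ' ⟨q, Subgroup.mem_sup_right hq⟩).trans (hQimg l ⟨q, hq⟩)
        rw [hιinj h]
        show _ = ((((π l : F.autGroup Q) : MulAut Q) ⟨q, hq⟩ : Q) : Ω)
        rw [hla]
        exact (hψQe ⟨q, hq⟩).symm)
    refine ⟨l * ι ⟨z, (nle hQn) hz⟩, fun x => ?_⟩
    have h1 := hzx (Subgroup.inclusion le_sup_left x)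
    rw [hψP x, hχe] at h1
    have h2 := hφ' (⟨z, Subgroup.mem_sup_right hz⟩ * Subgroup.inclusion le_sup_left x *
      (⟨z, Subgroup.mem_sup_right hz⟩ : ↥(P ⊔ Q))⁻¹)
    rw [show (⟨φ x, hφS x⟩ : S) = φ' _ from Subtype.ext h1, h2]
    rw [show (⟨((⟨z, Subgroup.mem_sup_right hz⟩ * Subgroup.inclusion le_sup_left x *
      (⟨z, Subgroup.mem_sup_right hz⟩ : ↥(P ⊔ Q))⁻¹ : ↥(P ⊔ Q)) : Ω), hPQS (Subtype.coe_prop _)⟩ : S) =
      ⟨z, (nle hQn) hz⟩ * ⟨x, hP x.2⟩ * (⟨z, (nle hQn) hz⟩ : S)⁻¹ from rfl]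
    rw [map_mul, map_mul, map_inv]
    group
  · rintro ⟨l, hl⟩
    obtain ⟨χ, hχ, hχe⟩ := hconj P hP (fun x => ⟨φ x, hφS x⟩) l hl
    exact hom_congr hχ fun x => (hχe x).symm

/-- The model theorem. -/
theorem exists_model (hS : IsPGroup p S) (hF : F.IsSaturated p) (hQn : F.IsNormal Q) (hQc : F.IsCentric Q) :
    ∃ (G : Type u) (_ : Group G) (ι : S →* G), F.IsModel p G ι ∧
      (Q.subgroupOf S).map ι ≤ pCore p G ∧
      (∀ g : G, (∀ x : S, (x : Ω) ∈ Q → g * ι x = ι x * g) → ∃ x : S, (x : Ω) ∈ Q ∧ ι x = g) := by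
  classical
  haveI := finite_sub (nle hQn)
  haveI : Finite (MulAut Q) := Finite.of_injective (fun f : MulAut Q => (f : Q → Q)) DFunLike.coe_injective
  obtain ⟨t, ht, ht1⟩ := exists_transversal (rho hQn).range
  obtain ⟨j, hj, hj0, hjloc⟩ := exists_good_lift hQn hS hF ht ht1
  have hfix0 : ∀ r : S, (rho hQn) r • ((1 : F.autGroup Q) : F.autGroup Q ⧸ (rho hQn).range) = ((1 : F.autGroup Q) : F.autGroup Q ⧸ (rho hQn).range) := by
    intro r
    rw [fix_iff ht, ht1]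
    simp
  have hjinj : Function.Injective j := fun a b h => by rw [← hj0 a, h, hj0 b]
  have hqconj := lift_conj hQn ht hj (fun x => by obtain ⟨_, _, -, -, hq⟩ := hjloc x; exact hq)
  -- the diagonal copy of the centre
  set Z : Subgroup (Monomial.monGroup (rho hQn) t) := (rho hQn).ker.map j
  haveI hZn : Z.Normal := by
    refine ⟨?_⟩
    rintro _ ⟨z, hz, rfl⟩ m
    obtain ⟨hzQ, -⟩ := ker_le hQn hQc hz
    rw [hqconj m ⟨z, hzQ⟩]
    refine ⟨_, ?_, rfl⟩
    show (rho hQn) _ = 1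
    rw [← aut_conj_rho hQn ((Monomial.proj (rho hQn) t) m) ⟨z, hzQ⟩, show rho hQn ⟨z, _⟩ = 1 from hz]
    group
  have hZπ : ∀ z ∈ Z, (Monomial.proj (rho hQn) t) z = 1 := by
    rintro _ ⟨z, hz, rfl⟩; rw [show (Monomial.proj (rho hQn) t) (j z) = _ from hj z]; exact hz
  let π' : (Monomial.monGroup (rho hQn) t) ⧸ Z →* F.autGroup Q := QuotientGroup.lift Z (Monomial.proj (rho hQn) t) fun z hz => hZπ z hz
  let mk' : (Monomial.monGroup (rho hQn) t) →* (Monomial.monGroup (rho hQn) t) ⧸ Z := QuotientGroup.mk' Z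
  let s' : (rho hQn).range →* (Monomial.monGroup (rho hQn) t) ⧸ Z :=
    (QuotientGroup.lift (rho hQn).ker (mk'.comp j) fun z hz => (QuotientGroup.eq_one_iff _).2 ⟨z, hz, rfl⟩).comp
      (QuotientGroup.quotientKerEquivRange (rho hQn)).symm.toMonoidHom
  have hs' : ∀ s : S, s' ⟨(rho hQn) s, s, rfl⟩ = mk' (j s) := by
    intro s
    have : (QuotientGroup.quotientKerEquivRange (rho hQn)).symm ⟨(rho hQn) s, s, rfl⟩ = (s : S ⧸ (rho hQn).ker) :=
      (MulEquiv.symm_apply_eq _).2 rfl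
    simp only [s', MonoidHom.comp_apply, MulEquiv.coe_toMonoidHom, this]
    rfl
  have hπs : ∀ x : (rho hQn).range, π' (s' x) = x := by
    rintro ⟨_, s, rfl⟩; rw [hs']; exact hj s
  -- the kernel of (Monomial.proj (rho hQn) t) is abelian of exponent dividing #S
  obtain ⟨e, he⟩ := IsPGroup.iff_card.1 hS
  have hkx : ∀ (w : (Monomial.monGroup (rho hQn) t)), (Monomial.proj (rho hQn) t) w = 1 → ∀ x, (rho hQn) (Monomial.coord w x) = 1 := by
    intro w hw x
    rw [Monomial.rho_coord, show Monomial.proj (rho hQn) t w = 1 from hw]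
    simp
  have hcomm : ∀ u v : (Monomial.monGroup (rho hQn) t), (Monomial.proj (rho hQn) t) u = 1 → (Monomial.proj (rho hQn) t) v = 1 → u * v = v * u := by
    intro u v hu hv
    refine Monomial.monExt (by simp only [map_mul]; rw [show Monomial.proj (rho hQn) t u = 1 from hu,
      show Monomial.proj (rho hQn) t v = 1 from hv]) fun x => ?_
    rw [Monomial.coord_mul, Monomial.coord_mul, show Monomial.proj (rho hQn) t u = 1 from hu,
      show Monomial.proj (rho hQn) t v = 1 from hv]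
    simp only [inv_one, one_smul]
    exact Subtype.ext ((ker_le hQn hQc (hkx u hu x)).2 _ (ker_le hQn hQc (hkx v hv x)).1)
  have hexp : ∀ w : (Monomial.monGroup (rho hQn) t), (Monomial.proj (rho hQn) t) w = 1 → w ^ p ^ e = 1 := by
    intro w hw
    have hc : ∀ (n : ℕ) x, Monomial.coord (w ^ n) x = Monomial.coord w x ^ n := by
      intro n
      induction n with
      | zero => intro x; simp
      | succ n ih =>
        intro x
        rw [pow_succ', Monomial.coord_mul, show Monomial.proj (rho hQn) t w = 1 from hw, inv_one, one_smul, ih, pow_succ']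
    refine Monomial.monExt ?_ fun x => ?_
    · rw [map_pow, map_one]
      change (Monomial.proj (rho hQn) t) w ^ _ = _
      rw [hw, one_pow]
    · rw [hc, Monomial.coord_one, ← he, pow_card_eq_one']
  -- the index is prime to p
  have hrange : (rho hQn).range = (autInducedBy S Q).subgroupOf (F.autGroup Q) := by
    ext a
    rw [Subgroup.mem_subgroupOf, mem_autInducedBy]
    constructor
    · rintro ⟨s, rfl⟩; exact ⟨s, s.2, rho_apply hQn s⟩
    · rintro ⟨g, hg, h⟩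
      exact ⟨⟨g, hg⟩, Subtype.ext (MulEquiv.ext fun q => Subtype.ext (h q).symm)⟩
  obtain ⟨T, hT⟩ := (fullyAutomized_of_fullyNormalized hS hF (fullyNormalized_of_normal hQn)).2
  have hn : ¬ p ∣ (rho hQn).range.index := by
    rw [hrange, ← hT]; exact T.not_dvd_index
  have hcop : ∀ w : (Monomial.monGroup (rho hQn) t), (Monomial.proj (rho hQn) t) w = 1 → Nat.Coprime (rho hQn).range.index (orderOf w) := by
    intro w hw
    refine Nat.Coprime.of_dvd_right (orderOf_dvd_of_pow_eq_one (hexp w hw)) ?_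
    exact (((Nat.Prime.coprime_iff_not_dvd Fact.out).2 hn).pow_left e).symm
  have hmkcop : ∀ u : (Monomial.monGroup (rho hQn) t) ⧸ Z, π' u = 1 → Nat.Coprime (rho hQn).range.index (orderOf u) := by
    intro u
    induction u using QuotientGroup.induction_on with
    | H w => exact fun hw => Nat.Coprime.of_dvd_right (orderOf_map_dvd mk' w) (hcop w hw)
  -- stability
  have hstable : Complement.IsStable π' (rho hQn).range s' := by
    intro a
    obtain ⟨R, ψ, hψ, hQR, hsR, hψq, hψρ⟩ := extend_aut hS hF hQn a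
    let R1 : Subgroup S := (rho hQn).range.comap ((MulAut.conj a).toMonoidHom.comp (rho hQn))
    have hR1 : ∀ r : R1, ((r : S) : Ω) ∈ R := fun r => hsR r r.2
    let η : R1 →* S := MonoidHom.mk' (fun r => ⟨ψ ⟨r, hR1 r⟩, apply_mem hψ _⟩) fun r r' =>
      Subtype.ext (map_mul ψ ⟨_, hR1 r⟩ ⟨_, hR1 r'⟩)
    have hη : ∀ r, (rho hQn) (η r) = a * (rho hQn) r * a⁻¹ := fun r => hψρ r (hR1 r) (apply_mem hψ _)
    obtain ⟨m, hm, hmc⟩ := Monomial.exists_conj (j.comp R1.subtype) (j.comp η) a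
      (fun r => by simp only [MonoidHom.comp_apply, hj, hη]; rfl)
      (local_conj hQn hS hF hQc ht hj hjloc a hψ hQR hψq R1 hR1 η (fun r => rfl) hη (fun s h => h))
    refine ⟨mk' m, hm, ?_⟩
    rintro ⟨_, s, rfl⟩ hx
    have hsR1 : s ∈ R1 := hx
    rw [hs', show (⟨a * (rho hQn) s * a⁻¹, hx⟩ : (rho hQn).range) = ⟨(rho hQn) (η ⟨s, hsR1⟩), _, rfl⟩ from
      Subtype.ext (hη ⟨s, hsR1⟩).symm, hs', mul_inv_eq_iff_eq_mul, ← map_mul, ← map_mul]
    exact congrArg mk' (hmc ⟨s, hsR1⟩)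
  -- the section
  obtain ⟨σ, hσπ, hσs⟩ := Complement.exists_section_extending (π := π') (P := (rho hQn).range) (s := s')
    (by
      intro u v hu hv
      induction u using QuotientGroup.induction_on with
      | H u =>
        induction v using QuotientGroup.induction_on with
        | H v => exact congrArg mk' (hcomm u v hu hv))
    (fun u hu => by
      obtain ⟨k, hk⟩ := exists_pow_eq_self_of_coprime (hmkcop u hu)
      exact ⟨u ^ k, by rw [map_pow, hu, one_pow], by rw [← pow_mul, mul_comm, pow_mul, hk]⟩)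
    (fun u v hu hv h => by
      have h1 : π' (u * v⁻¹) = 1 := by rw [map_mul, map_inv, hu, hv]; simp
      have hc : Commute u v⁻¹ := by
        induction u using QuotientGroup.induction_on with
        | H u =>
          induction v using QuotientGroup.induction_on with
          | H v => exact (show Commute (mk' u) (mk' v) from congrArg mk' (hcomm u v hu hv)).inv_right
      have h2 : (u * v⁻¹) ^ (rho hQn).range.index = 1 := by
        rw [hc.mul_pow, inv_pow, h, mul_inv_cancel]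
      have h3 : orderOf (u * v⁻¹) = 1 :=
        Nat.eq_one_of_dvd_coprimes (hmkcop _ h1).symm dvd_rfl (orderOf_dvd_of_pow_eq_one h2)
      exact mul_inv_eq_one.1 (orderOf_eq_one_iff.1 h3))
    hπs hstable
  -- the group
  let L : Subgroup (Monomial.monGroup (rho hQn) t) := σ.range.comap mk'
  have hjL : ∀ s, j s ∈ L := fun s => ⟨(rho hQn) s, by rw [← hs', ← hσs ⟨(rho hQn) s, s, rfl⟩]⟩
  let ι : S →* L := j.codRestrict L hjL
  let πL : L →* F.autGroup Q := (Monomial.proj (rho hQn) t).comp L.subtype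
  have hιinj : Function.Injective ι := fun a b h => hjinj (congrArg Subtype.val h)
  have hπι : ∀ s, πL (ι s) = (rho hQn) s := hj
  have hsurj : Function.Surjective πL := by
    intro a
    obtain ⟨m, hm⟩ := QuotientGroup.mk'_surjective Z (σ a)
    exact ⟨⟨m, a, hm.symm⟩, by
      show π' (mk' m) = a
      rw [show mk' m = σ a from hm, hσπ]⟩
  have hker : ∀ l : L, πL l = 1 → ∃ s : S, (rho hQn) s = 1 ∧ ι s = l := by
    rintro ⟨m, a, ha⟩ hl
    have hl' : π' (mk' m) = 1 := hl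
    rw [← ha, hσπ] at hl'
    subst hl'
    rw [map_one] at ha
    obtain ⟨z, hz, hzm⟩ := (QuotientGroup.eq_one_iff m).1 ha.symm
    exact ⟨z, hz, Subtype.ext hzm⟩
  have hlifts : ∀ l : L, ∀ b : (rho hQn).range, πL l = b → ∃ s : S, ι s = l := by
    rintro l ⟨_, s, rfl⟩ hl
    obtain ⟨z, -, hz⟩ := hker (l * (ι s)⁻¹) (by rw [map_mul, map_inv, hπι, hl]; simp)
    exact ⟨z * s, by rw [map_mul, hz]; group⟩
  -- conjugation inside L is given by maps of F
  have hconj : ∀ (P : Subgroup Ω) (hP : P ≤ S) (φ : P → S) (l : L),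
      (∀ x : P, ι (φ x) = l * ι ⟨x, hP x.2⟩ * l⁻¹) →
      ∃ χ ∈ F.Hom P, ∀ x : P, χ x = φ x := by
    intro P hP φ l hl
    let y := (πL l)⁻¹ • ((1 : F.autGroup Q) : F.autGroup Q ⧸ (rho hQn).range)
    obtain ⟨W, χ0, hχ0, hW, -⟩ := hjloc y
    have hfy : ∀ x : P, (rho hQn) ⟨x, hP x.2⟩ • y = y := by
      intro x
      have h1 := congrArg πL (hl x)
      rw [hπι, map_mul, map_mul, map_inv, hπι] at h1
      have h2 := hfix0 (φ x)
      rw [h1, mul_smul, mul_smul] at h2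
      exact eq_inv_smul_iff.2 h2
    have hPW : P ≤ W := fun x hx => (hW ⟨x, hP hx⟩ (hfy ⟨x, hx⟩)).1
    obtain ⟨χ1, hχ1, hχ1e⟩ := exists_restrict hχ0 hPW
    let f0 := Monomial.coord (l : (Monomial.monGroup (rho hQn) t)) ((1 : F.autGroup Q) : F.autGroup Q ⧸ (rho hQn).range)
    obtain ⟨χ, hχ, hχe⟩ := exists_comp hχ1 (F.conj_mem le_rfl f0.2) (fun x => apply_mem hχ1 x)
    refine ⟨χ, hχ, fun x => ?_⟩
    obtain ⟨h, hc⟩ := hW ⟨x, hP x.2⟩ (hfy x)
    have h1 : j (φ x) * (l : (Monomial.monGroup (rho hQn) t)) = (l : (Monomial.monGroup (rho hQn) t)) * j ⟨x, hP x.2⟩ := by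
      have := congrArg Subtype.val (hl x)
      change j (φ x) = (l : (Monomial.monGroup (rho hQn) t)) * j ⟨x, hP x.2⟩ * (l : (Monomial.monGroup (rho hQn) t))⁻¹ at this
      rw [this]; group
    have h2 := congrArg (fun w => Monomial.coord w ((1 : F.autGroup Q) : F.autGroup Q ⧸ (rho hQn).range)) h1
    simp only [Monomial.coord_mul, hj0, hj, inv_smul_eq_iff.2 (hfix0 (φ x)).symm] at h2
    have h3 : φ x = f0 * Monomial.coord (j ⟨x, hP x.2⟩) y * f0⁻¹ := eq_mul_inv_iff_mul_eq.2 h2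
    rw [hχe, conjHom_apply, h3]
    simp only [Subgroup.coe_mul, Subgroup.coe_inv, hc, hχ1e]
  have hQimg : ∀ (l : L) (q : Q), l * ι ⟨q, (nle hQn) q.2⟩ * l⁻¹ =
      ι ⟨((((πL l : F.autGroup Q) : MulAut Q) q : Q) : Ω), (nle hQn) (Subtype.coe_prop _)⟩ := fun l q =>
    Subtype.ext (hqconj l q)
  let Qi : Subgroup L := (Q.subgroupOf S).map ι
  haveI hQi : Qi.Normal := by
    refine ⟨?_⟩
    rintro _ ⟨q, hq, rfl⟩ l
    rw [hQimg l ⟨q, hq⟩]
    exact Subgroup.mem_map_of_mem ι (Subgroup.mem_subgroupOf.2 (Subtype.coe_prop _))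
  have hQcore : Qi ≤ pCore p L := le_sSup ⟨hQi, (hS.to_subgroup _).map _⟩
  have hcent : ∀ g : L, (∀ x : S, (x : Ω) ∈ Q → g * ι x = ι x * g) → ∃ x : S, (x : Ω) ∈ Q ∧ ι x = g := by
    intro g hg
    have hg1 : πL g = 1 := Subtype.ext
      (action_trivial_of_centralizes hιinj g ((πL g : F.autGroup Q) : MulAut Q) (fun q _ _ => hQimg g q) hg (nle hQn))
    obtain ⟨s, hs, hsl⟩ := hker g hg1
    exact ⟨s, (ker_le hQn hQc hs).1, hsl⟩
  refine ⟨L, inferInstance, ι, ⟨inferInstance,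
    realized_of_data hQn hS hF hQc hιinj πL hπι hsurj hlifts hQimg hconj, ?_, ?_⟩, hQcore, hcent⟩
  · have hp : IsPGroup p ι.range :=
      hS.of_equiv (MonoidHom.ofInjective hιinj)
    have hidx : ¬ p ∣ ι.range.index := by
      have : ι.range = (rho hQn).range.comap πL := by
        ext l
        constructor
        · rintro ⟨s, rfl⟩; exact ⟨s, (hπι s).symm⟩
        · intro hl
          obtain ⟨s, hs⟩ := hlifts l ⟨_, hl⟩ rfl
          exact ⟨s, hs⟩
      rw [this, Subgroup.index_comap_of_surjective _ hsurj]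
      exact hn
    exact ⟨hp.toSylow hidx, rfl⟩
  · intro g hg
    refine hQcore ?_
    obtain ⟨x, hx, e⟩ := hcent g fun x hx => (Subgroup.mem_centralizer_iff.1 hg (ι x) (hQcore ⟨x, hx, rfl⟩)).symm
    exact ⟨x, hx, e⟩

/-- Every constrained saturated system over a finite `p`-group has a model. -/
theorem exists_model_of_constrained (hS : IsPGroup p S) (hF : F.IsConstrained p) :
    ∃ (G : Type u) (_ : Group G) (ι : S →* G), F.IsModel p G ι := by
  obtain ⟨hsat, Q, hQn, hQc⟩ := hF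
  obtain ⟨G, hG, ι, h, -⟩ := exists_model hS hsat hQn hQc
  exact ⟨G, hG, ι, h⟩

end Construction

end Cfsg.Agent.Lib.FusionAlperin.Model
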