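import Cfsg.Prelude.Def_FusionReduction
import Cfsg.Agent.Lib.FusionP3.Tate
import Cfsg.Agent.Lib.FusionSystem.Saturation
import Cfsg.Agent.Lib.Coprime.Action

/-!
Subsystems of `p`-power index: their hyperfocal subgroups, uniqueness, residual limits.
-/

set_option autoImplicit false

namespace Cfsg.Agent.Lib.FusionAlperin.Residual

open Cfsg Cfsg.FusionSystem Cfsg.Agent.Lib.FS Cfsg.Agent.Lib.FusionP3
open Cfsg.Agent.Lib.Transfer.PResidual (sup_sylow_eq_top map_pResidual_le mem_pResidual)

universe u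

variable {Ω : Type u} [Group Ω]
variable {S : Subgroup Ω}

/-- A saturated subsystem of `F` lies in every subsystem of `p`-power index over a larger subgroup. -/
theorem subset_of_pPowerIndex [Finite S] {p : ℕ} [Fact p.Prime] (hS : IsPGroup p S) {F : FusionSystem S}
    {T U : Subgroup Ω} {E : FusionSystem T} {F₀ : FusionSystem U} (hEs : E.IsSaturated p)
    (hEsub : E.IsSubsystemOf F) (hTU : T ≤ U) (hidx : F₀.HasPPowerIndexIn F p) :
    E.IsSubsystemOf F₀ := by
  have hTS : T ≤ S := src_le (hEsub _ (subtype_mem E le_rfl))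
  have := finite_sub hTS
  have hT : IsPGroup p T := isPGroup_of_le hS hTS
  intro P φ hφ
  refine Induction.hom_induction hT hEs (M := fun P φ => φ ∈ F₀.Hom P) ?_ ?_ ?_ P φ hφ
  · intro P Q φ ψ χ _ _ h hχ hp hq
    exact hom_congr (F₀.comp_mem hp hq h) hχ
  · intro P Q φ ψ h _ hφψ hq
    exact mem_of_restrict hq h hφψ
  · intro P hPn _ _ α hα _
    have hPT : P ≤ T := hPn.1
    have hPU : P ≤ U := hPT.trans hTU
    have := finite_sub (hPT.trans hTS)
    obtain ⟨-, R, hR⟩ := fullyAutomized_of_fullyNormalized hT hEs hPn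
    have key : (⟨α, hα⟩ : E.autGroup P) ∈
        (F₀.autGroup P).comap (E.autGroup P).subtype := by
      have h1 : (⟨α, hα⟩ : E.autGroup P) ∈ pResidual p (E.autGroup P) ⊔ (R : Subgroup _) := by
        rw [sup_sylow_eq_top]; trivial
      refine (sup_le ?_ ?_ : pResidual p (E.autGroup P) ⊔ (R : Subgroup _) ≤ _) h1
      · intro β hβ
        have hle : E.autGroup P ≤ F.autGroup P := Subgroup.closure_mono fun β hβ => hEsub _ hβ
        exact hidx.2.2 P hPU
          ⟨Subgroup.inclusion hle β, map_pResidual_le (p := p) (Subgroup.inclusion hle) ⟨β, hβ, rfl⟩, rfl⟩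
      · intro β hβ
        rw [hR, Subgroup.mem_subgroupOf] at hβ
        refine autInducedBy_le_autGroup F₀ hPU ?_
        exact (Subgroup.closure_mono fun γ ⟨g, hg, hγ⟩ => ⟨g, hTU hg, hγ⟩ :
          autInducedBy T P ≤ autInducedBy U P) hβ
    obtain ⟨ψ, hψ, _, he⟩ := exists_hom_of_aut hPU (Subgroup.mem_comap.1 key)
    exact hom_congr hψ fun x => (he x).symm

/-- A subsystem over a strongly closed subgroup, of `p`-power index, has the same hyperfocal subgroup. -/
theorem hyperfocal_eq [Finite S] {p : ℕ} [Fact p.Prime] (hS : IsPGroup p S) {F : FusionSystem S}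
    {T : Subgroup Ω} (E : FusionSystem T) (hT : F.StronglyClosed T) (hidx : E.HasPPowerIndexIn F p) :
    E.hyperfocalSubgroup p = F.hyperfocalSubgroup p := by
  refine le_antisymm ?_ ?_
  · refine (Subgroup.closure_le _).2 ?_
    rintro _ ⟨P, α, x, hP, hα, rfl⟩
    have hle : E.autGroup P ≤ F.autGroup P := Subgroup.closure_mono fun β hβ => hidx.1 _ hβ
    exact Tate.hyperfocal_gen_mem (hP.trans hT.1)
      (α := Subgroup.inclusion hle α) (map_pResidual_le (Subgroup.inclusion hle) ⟨α, hα, rfl⟩) x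
  refine (Subgroup.closure_le _).2 ?_
  rintro _ ⟨P, α, x, hP, hα, rfl⟩
  have := finite_sub hP
  have hN : ∀ (β : F.autGroup P), ∀ n : P, (n : Ω) ∈ T → (((β : MulAut P) n : P) : Ω) ∈ T := by
    intro β n hn
    obtain ⟨φ, hφ, -, he⟩ := exists_hom_of_aut hP β.2
    obtain ⟨ψ, hψ, heq⟩ : ∃ ψ ∈ F.Hom (P ⊓ T), ∀ z : (P ⊓ T : Subgroup Ω), ψ z = φ ⟨z, z.2.1⟩ :=
      ⟨_, mem_of_restrict (φ := φ.comp (Subgroup.inclusion (inf_le_left : P ⊓ T ≤ P))) hφ inf_le_left
        (fun _ => rfl), fun _ => rfl⟩
    rw [← he n]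
    have := hT.2 (P ⊓ T) inf_le_right ψ hψ ⟨n, n.2, hn⟩
    rwa [heq] at this
  -- the automorphisms moving every element by an element of the small hyperfocal subgroup
  have main : ∀ (β : F.autGroup P), β ∈ pResidual p (F.autGroup P) →
      ∀ y : P, (y : Ω)⁻¹ * (((β : MulAut P) y : P) : Ω) ∈ E.hyperfocalSubgroup p := by
    intro β hβ
    induction hβ using Subgroup.closure_induction with
    | one => intro y; simp
    | mul a b _ _ ha hb =>
      intro y
      have := mul_mem (hb y) (ha ((b : MulAut P) y))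
      simpa [mul_assoc] using this
    | inv a _ ha =>
      intro y
      have := inv_mem (ha (((a : MulAut P)⁻¹) y))
      simpa using this
    | mem β hβ =>
      intro y
      set b : MulAut P := (β : MulAut P) with hb
      have hord : (orderOf b).Coprime p := by rwa [hb, Subgroup.orderOf_coe]
      have hcop : (Nat.card (Subgroup.zpowers b)).Coprime (Nat.card (T.subgroupOf P)) := by
        obtain ⟨k, hk⟩ := (isPGroup_of_le hS hP).to_subgroup (T.subgroupOf P) |>.exists_card_eq
        rw [Nat.card_zpowers, hk]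
        exact hord.pow_right k
      have hinv : ∀ (a : Subgroup.zpowers b), ∀ n ∈ T.subgroupOf P, a • n ∈ T.subgroupOf P := by
        rintro ⟨_, k, rfl⟩ n hn
        exact hN (β ^ k) n hn
      have hg : ∀ a : Subgroup.zpowers b, y⁻¹ * a • y ∈ T.subgroupOf P := by
        rintro ⟨_, k, rfl⟩
        have hmem : β ^ k ∈ pResidual p (F.autGroup P) := zpow_mem (mem_pResidual hβ) k
        exact hidx.2.1 (Tate.hyperfocal_gen_mem hP hmem y)
      obtain ⟨n, hn, hfix⟩ := Cfsg.Agent.Lib.Coprime.Action.exists_mul_fixed (G := P)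
        hinv hcop (Or.inl (Cfsg.Agent.Lib.Coprime.isSolvable_zpowers b)) hg
      have hfix' : b (y * n) = y * n := hfix ⟨b, Subgroup.mem_zpowers b⟩
      have e : y⁻¹ * b y = n * (b n)⁻¹ := by
        rw [map_mul] at hfix'
        rw [eq_mul_inv_iff_mul_eq, mul_assoc, hfix', inv_mul_cancel_left]
      -- restrict to `P ∩ T`
      set Q := P ⊓ T with hQ
      have hQP : Q ≤ P := inf_le_left
      have := finite_sub (hQP.trans hP)
      let e₀ : Q ≃* T.subgroupOf P :=
        { toFun := fun q => ⟨⟨q, q.2.1⟩, q.2.2⟩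
          invFun := fun q => ⟨q.1.1, q.1.2, q.2⟩
          left_inv := fun _ => rfl
          right_inv := fun _ => rfl
          map_mul' := fun _ _ => rfl }
      have hbQ : ∀ q : Q, ((b ⟨q, q.2.1⟩ : P) : Ω) ∈ Q := fun q =>
        ⟨(b ⟨q, q.2.1⟩).2, hN β ⟨q, q.2.1⟩ q.2.2⟩
      have hbQ' : ∀ q : Q, ((b⁻¹ ⟨q, q.2.1⟩ : P) : Ω) ∈ Q := fun q =>
        ⟨(b⁻¹ ⟨q, q.2.1⟩).2, hN β⁻¹ ⟨q, q.2.1⟩ q.2.2⟩
      let c : MulAut Q :=
        { toFun := fun q => ⟨_, hbQ q⟩
          invFun := fun q => ⟨_, hbQ' q⟩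
          left_inv := fun q => by apply Subtype.ext; simp
          right_inv := fun q => by apply Subtype.ext; simp
          map_mul' := fun q r => by
            apply Subtype.ext
            have h := congrArg Subtype.val (map_mul b ⟨q, q.2.1⟩ ⟨r, r.2.1⟩)
            exact h }
      have hcF : c ∈ F.autGroup Q := by
        obtain ⟨φ, hφ, -, he⟩ := exists_hom_of_aut hP β.2
        exact (mem_autGroup (hQP.trans hP)).2 (mem_of_restrict hφ hQP fun q => (he ⟨q, q.2.1⟩).symm)
      have hcord : (orderOf c).Coprime p := by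
        refine hord.coprime_dvd_left (orderOf_dvd_of_pow_eq_one ?_)
        have hpow : ∀ (k : ℕ) (q : Q), (((c ^ k) q : Q) : Ω) = (((b ^ k) ⟨q, q.2.1⟩ : P) : Ω) := by
          intro k
          induction k with
          | zero => intro q; simp
          | succ k ih =>
            intro q
            rw [pow_succ', pow_succ', MulAut.mul_apply, MulAut.mul_apply]
            show ((b ⟨((c ^ k) q : Q), _⟩ : P) : Ω) = _
            congr 2
            exact Subtype.ext (ih q)
        apply MulEquiv.ext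
        intro q
        apply Subtype.ext
        rw [hpow, pow_orderOf_eq_one]
        rfl
      have hQT : Q ≤ T := inf_le_right
      have hcE : c ∈ E.autGroup Q :=
        hidx.2.2 Q hQT ⟨⟨c, hcF⟩, mem_pResidual (by rwa [Subgroup.orderOf_mk]), rfl⟩
      have h1 := Tate.hyperfocal_gen_mem (F := E) (p := p) hQT
        (α := ⟨c, hcE⟩) (mem_pResidual (by rwa [Subgroup.orderOf_mk])) ⟨(n : Ω), n.2, hn⟩
      have h2 := inv_mem h1
      have e2 : ((y : Ω))⁻¹ * ((b y : P) : Ω) = (n : Ω) * ((b n : P) : Ω)⁻¹ := by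
        exact congrArg Subtype.val e
      rw [e2]
      rw [mul_inv_rev, inv_inv] at h2
      -- conjugate
      have h3 := Tate.hyperfocal_conj_mem (F := E) (p := p) (g := (n : Ω)) hn h2
      have e4 : ((c ⟨(n : Ω), n.2, hn⟩ : Q) : Ω) = ((b n : P) : Ω) := rfl
      simpa [mul_assoc, e4] using h3
  exact main α hα x


theorem hasPPowerIndexIn_self (F : FusionSystem S) (p : ℕ) : F.HasPPowerIndexIn F p :=
  ⟨fun _ => subset_rfl, Tate.hyperfocal_le F p, fun P _ => by
    rintro _ ⟨β, -, rfl⟩; exact β.2⟩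

theorem stronglyClosed_base (F : FusionSystem S) : F.StronglyClosed S :=
  ⟨le_rfl, fun _ _ _ hφ x => apply_mem hφ x⟩

theorem eq_of_base {T : Subgroup Ω} (h : T = S) {F : FusionSystem S} {D : FusionSystem T}
    {X : Subgroup Ω} {Y : FusionSystem X} {p : ℕ} (hh : ∀ P, D.Hom P = F.Hom P)
    (hY : IsResidualLimitOf Y F p) : IsResidualLimitOf Y D p := by
  subst h
  rwa [fusion_ext (F := D) (E := F) fun P φ => by rw [hh]]

theorem pPrimeResidual_hom_eq {T : Subgroup Ω} (h : T = S) {F F' : FusionSystem S}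
    {D D' : FusionSystem T} {p : ℕ} (hh : ∀ P, D.Hom P = F.Hom P)
    (hF : F.IsPPrimeResidual p F') (hD : D.IsPPrimeResidual p D') : ∀ P, D'.Hom P = F'.Hom P := by
  subst h
  have : D = F := fusion_ext fun P φ => by rw [hh]
  subst this
  exact fun P => subset_antisymm (hD.2.2 F' hF.1 hF.2.1 P) (hF.2.2 D' hD.1 hD.2.1 P)

theorem self_pPrimeResidual_hom {T : Subgroup Ω} (h : T = S) {F : FusionSystem S}
    {D D' : FusionSystem T} {p : ℕ} (hh : ∀ P, D.Hom P = F.Hom P)
    (hF : F.IsPPrimeResidual p F) (hD : D.IsPPrimeResidual p D') : ∀ P, D'.Hom P = F.Hom P :=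
  pPrimeResidual_hom_eq h hh hF hD

/-- A stable system is its only residual limit. -/
theorem limit_of_stable {p : ℕ} {V : Subgroup Ω} {Y : FusionSystem V} {F : FusionSystem S}
    (hY : IsResidualLimitOf Y F p) :
    p.Prime → ∀ {T : Subgroup Ω} (E : FusionSystem T), T = S → (∀ P, E.Hom P = F.Hom P) →
      Finite T → IsPGroup p T → E.IsSaturated p → E.hyperfocalSubgroup p = T →
      E.IsPPrimeResidual p E → ∀ P, E.Hom P = Y.Hom P := by
  induction hY with
  | @stable F p _ _ => intro _ T E _ hh _ _ _ _ _; exact hh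
  | @step S' X F p D D' hD hD' hlim ih =>
    intro hp T E hTS hh hfin hT hE hst hres
    have := Fact.mk hp
    subst hTS
    have : E = F := fusion_ext fun P φ => by rw [hh]
    subst this
    have h1 : ∀ P, D.Hom P = E.Hom P := fun P => subset_antisymm (hD.2.1 P)
      (subset_of_pPowerIndex hT hE (fun _ => subset_rfl) hst.ge hD.2 P)
    exact ih hp E hst.symm (fun P => (self_pPrimeResidual_hom hst h1 hres hD' P).symm) hfin hT hE
      hst hres

/-- Residual limits of a system and of a subsystem of `p`-power index have the same maps. -/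
theorem limit_hom_eq {p : ℕ} {U : Subgroup Ω} {X : FusionSystem U} {F : FusionSystem S}
    (hX : IsResidualLimitOf X F p) :
    p.Prime → Finite S → IsPGroup p S → F.IsSaturated p → ∀ {T : Subgroup Ω} (E : FusionSystem T),
      E.IsSaturated p → F.StronglyClosed T → E.HasPPowerIndexIn F p →
      ∀ {V : Subgroup Ω} (Y : FusionSystem V), IsResidualLimitOf Y E p → ∀ P, X.Hom P = Y.Hom P := by
  induction hX with
  | @stable F p hst hres =>
    intro hp hfin hS hF T E hE hT hidx V Y hY
    have := Fact.mk hp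
    obtain rfl : T = U := le_antisymm hT.1 (hst.ge.trans hidx.2.1)
    have hEF : E = F := fusion_ext fun P φ => ⟨fun h => hidx.1 P h,
      fun h => subset_of_pPowerIndex hS hF (fun _ => subset_rfl) le_rfl hidx P h⟩
    subst hEF
    exact limit_of_stable hY hp E rfl (fun _ => rfl) hfin hS hF hst hres
  | @step S X F p D D' hD hD' hlim ih =>
    intro hp hfin hS hF T E hE hT hidx V Y hY
    have := Fact.mk hp
    have hTS : T ≤ S := hT.1
    have := finite_sub hTS
    have hTp : IsPGroup p T := isPGroup_of_le hS hTS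
    have hyp := hyperfocal_eq hS E hT hidx
    have hHS : F.hyperfocalSubgroup p ≤ S := Tate.hyperfocal_le F p
    have hfin' := finite_sub hHS
    have hHp : IsPGroup p (F.hyperfocalSubgroup p) := isPGroup_of_le hS hHS
    have key : ∀ Z : Subgroup Ω, ∀ Y' : FusionSystem Z,
        IsResidualLimitOf Y' D' p → ∀ P, X.Hom P = Y'.Hom P := fun Z Y' hY' =>
      ih hp hfin' hHp hD'.1 D' hD'.1 (stronglyClosed_base D') (hasPPowerIndexIn_self D' p) Y' hY'
    cases hY with
    | stable _ _ hst hres =>
      have hHT : F.hyperfocalSubgroup p = T := hyp.symm.trans hst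
      have h1 : ∀ P, D.Hom P = E.Hom P := fun P => subset_antisymm
        (subset_of_pPowerIndex hS hD.1 hD.2.1 hHT.le hidx P)
        (subset_of_pPowerIndex hS hE hidx.1 hHT.ge hD.2 P)
      have h2 := self_pPrimeResidual_hom hHT h1 hres hD'
      exact key _ _ (eq_of_base hHT h2 (IsResidualLimitOf.stable _ _ hst hres))
    | step _ _ D₂ D₂' hD₂ hD₂' hlim₂ =>
      have hsub : D₂.IsSubsystemOf F := fun P φ h => hidx.1 P (hD₂.2.1 P h)
      have hidx₂ : D₂.HasPPowerIndexIn F p := by
        refine ⟨hsub, hyp.ge, fun P hP => ?_⟩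
        have hPT : P ≤ T := hP.trans (Tate.hyperfocal_le E p)
        refine le_trans ?_ (hD₂.2.2.2 P hP)
        rintro _ ⟨β, hβ, rfl⟩
        induction hβ using Subgroup.closure_induction with
        | mem β hβ =>
          have hm : (β : MulAut P) ∈ E.autGroup P := hidx.2.2 P hPT ⟨β, mem_pResidual hβ, rfl⟩
          exact ⟨⟨β, hm⟩, mem_pResidual (by rwa [Subgroup.orderOf_mk, Subgroup.orderOf_coe]), rfl⟩
        | one => simp
        | mul a b _ _ ha hb => rw [map_mul]; exact mul_mem ha hb
        | inv a _ ha => rw [map_inv]; exact inv_mem ha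
      have h1 : ∀ P, D.Hom P = D₂.Hom P := fun P => subset_antisymm
        (subset_of_pPowerIndex hS hD.1 hD.2.1 hyp.ge hidx₂ P)
        (subset_of_pPowerIndex hS hD₂.1 hsub hyp.le hD.2 P)
      have h2 := pPrimeResidual_hom_eq hyp.symm h1 hD₂' hD'
      exact key _ _ (eq_of_base hyp.symm h2 hlim₂)

end Cfsg.Agent.Lib.FusionAlperin.Residual
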