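import Mathlib
import Cfsg.Agent.Lib.FusionSystem.Saturation
import Cfsg.Agent.Lib.FusionSystem.Group
import Cfsg.Agent.Lib.FusionP3.Induction
import Cfsg.Agent.Lib.FusionAlperin.Agree

/-!
A criterion for simplicity: no proper nontrivial strongly closed subgroup, and `Aut_F(S)` generated by
automorphisms restricting to products of `p`-elements on fully normalized centric subgroups.
-/

set_option autoImplicit false
set_option linter.style.haveILetI false

namespace Cfsg.Agent.Lib.FusionAlperin.Simple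

open Cfsg Cfsg.FusionSystem Cfsg.Agent.Lib.FS

variable {Ω : Type*} [Group Ω] {S : Subgroup Ω} [Finite S] {p : ℕ} [Fact p.Prime] {F E : FusionSystem S}

/-- The automiser of an invariant subsystem is normal in the automiser of the system. -/
theorem autGroup_conj_mem (hE : E.IsInvariantIn F) {R : Subgroup Ω} (hR : R ≤ S) {e : MulAut R}
    (he : e ∈ E.autGroup R) {β : MulAut R} (hβ : β ∈ F.autGroup R) : β * e * β⁻¹ ∈ E.autGroup R := by
  obtain ⟨-, -, hinv, hfrat⟩ := hE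
  haveI := finite_sub hR
  obtain ⟨φ, hφ, hφR, hφβ⟩ := exists_hom_of_aut hR hβ
  obtain ⟨α, hα, φ₀, hφ₀, hφe⟩ := hfrat R hR φ hφ
  have hR' : φ₀.range ≤ S := range_le_base hφ₀
  haveI := finite_sub hR'
  set e' := MulAut.congr (homEquiv hφ₀ rfl) e
  have he' : e' ∈ E.autGroup φ₀.range := congr_mem_autGroup hφ₀ rfl he
  obtain ⟨χ, hχ, hχe⟩ := hinv φ₀.range hR' _ ((mem_autGroup hR').1 he') α hα
  have hval : ∀ y : φ₀.range, ((α ⟨y, hR' y.2⟩ : S) : Ω) ∈
      (φ₀.range.subgroupOf S).map (S.subtype.comp α.toMonoidHom) := fun y =>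
    ⟨⟨y, hR' y.2⟩, Subgroup.mem_subgroupOf.2 y.2, rfl⟩
  have hφα : ∀ x : R, ((α ⟨φ₀ x, apply_mem hφ₀ x⟩ : S) : Ω) = β x := fun x => by
    rw [← hφe x (apply_mem hφ₀ x), hφβ]
  have hRle : R ≤ (φ₀.range.subgroupOf S).map (S.subtype.comp α.toMonoidHom) := fun x hx => by
    have h := hval ⟨φ₀ (β⁻¹ ⟨x, hx⟩), ⟨_, rfl⟩⟩
    rw [hφα, MulAut.apply_inv_self] at h
    exact h
  obtain ⟨χ', hχ', hχ'e⟩ := exists_restrict hχ hRle
  refine mem_autGroup_of_hom hχ' fun y => ?_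
  obtain ⟨x, rfl⟩ : ∃ x, β x = y := ⟨_, MulAut.apply_inv_self _ _ y⟩
  rw [MulAut.mul_apply, MulAut.mul_apply, MulAut.inv_apply_self, hχ'e]
  have h := hχe ⟨φ₀ x, x, rfl⟩ (hR' (e' _).2) (hval _)
  have e1 : (⟨((β x : R) : Ω), hRle (β x).2⟩ : ↥((φ₀.range.subgroupOf S).map (S.subtype.comp α.toMonoidHom))) =
      ⟨_, hval ⟨φ₀ x, x, rfl⟩⟩ := Subtype.ext (hφα x).symm
  rw [e1, h, ← hφα (e x)]
  congr 2
  apply Subtype.ext
  show φ₀ (e x) = φ₀ (e ((homEquiv hφ₀ rfl).symm (homEquiv hφ₀ rfl x)))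
  rw [MulEquiv.symm_apply_apply]

/-- An invariant subsystem over `S` contains the `p`-elements of the automiser of a fully normalized subgroup. -/
theorem pElement_mem_autGroup (hS : IsPGroup p S) (hF : F.IsSaturated p) (hE : E.IsInvariantIn F)
    {R : Subgroup Ω} (hR : F.IsFullyNormalized R) {α : MulAut R} (hα : α ∈ F.autGroup R)
    (hp : ∃ k, orderOf α = p ^ k) : α ∈ E.autGroup R := by
  haveI := finite_sub hR.1
  obtain ⟨T, hT⟩ := (fullyAutomized_of_fullyNormalized hS hF hR).2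
  obtain ⟨k, hk⟩ := hp
  have hp' : IsPGroup p (Subgroup.zpowers α) := IsPGroup.of_card (n := k) (by rw [Nat.card_zpowers, hk])
  obtain ⟨γ, hγ, hconj⟩ := exists_conj_le_sylow T hT (Subgroup.zpowers_le.2 hα) hp'
  have h := autInducedBy_le_autGroup E hR.1 (hconj α (Subgroup.mem_zpowers α))
  have := autGroup_conj_mem hE hR.1 h ((F.autGroup R).inv_mem hγ)
  rwa [show γ⁻¹ * (γ * α * γ⁻¹) * γ⁻¹⁻¹ = α by group] at this

/-- Climbing from a centric subgroup to `S`: an automorphism of `S` whose restriction to an invariant centric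
subgroup lies in the subsystem lies in the subsystem. -/
theorem mem_autGroup_of_restrict (hS : IsPGroup p S) (hF : F.IsSaturated p) (hEs : E.IsSaturated p)
    (hEF : E.IsSubsystemOf F) {β : MulAut S} (hβ : β ∈ F.autGroup S) :
    ∀ (n : ℕ) (R : Subgroup Ω), Nat.card S - Nat.card R < n → R ≤ S → F.IsCentric R →
      ∀ φ : R →* Ω, φ ∈ E.Hom R → φ.range = R →
        (∀ (x : R) (hx : (x : Ω) ∈ S), φ x = ((β ⟨x, hx⟩ : S) : Ω)) → β ∈ E.autGroup S := by
  intro n
  induction n with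
  | zero => intro R h; exact absurd h (Nat.not_lt_zero _)
  | succ n ih =>
    intro R hn hR hc φ hφ hφR hφβ
    rcases eq_or_lt_of_le hR with rfl | hlt
    · exact mem_autGroup_of_hom hφ fun x => (hφβ x x.2).symm
    haveI := finite_sub hR
    have hRec : E.IsReceptive R := by
      refine receptive_of_fullyCentralized hS hEs ⟨hR, fun R' hR' => ?_⟩
      obtain ⟨χ, hχ, rfl⟩ := hR'
      haveI := finite_sub (range_le_base hχ)
      have hRR' : F.IsConj R χ.range := ⟨χ, hEF R hχ, rfl⟩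
      haveI : Finite (centralizerIn S R) := finite_sub (centralizerIn_le R)
      refine Nat.card_le_card_of_injective (fun c : centralizerIn S χ.range =>
        (⟨(homEquiv hχ rfl).symm ⟨c, hc.2 _ hRR' c.2⟩, ?_⟩ : centralizerIn S R)) fun a b hab => ?_
      · refine mem_centralizerIn'.2 ⟨hR (SetLike.coe_mem _), fun x hx => ?_⟩
        obtain ⟨d, hd⟩ : ∃ d, homEquiv hχ rfl ⟨x, hx⟩ = d := ⟨_, rfl⟩
        have hcd := (mem_centralizerIn'.1 c.2).2 d d.2
        have e : homEquiv hχ rfl ((homEquiv hχ rfl).symm ⟨c, hc.2 _ hRR' c.2⟩ * ⟨x, hx⟩ *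
            ((homEquiv hχ rfl).symm ⟨c, hc.2 _ hRR' c.2⟩)⁻¹) = homEquiv hχ rfl ⟨x, hx⟩ := by
          rw [map_mul, map_mul, map_inv, MulEquiv.apply_symm_apply, hd]
          exact Subtype.ext hcd
        exact congrArg Subtype.val ((homEquiv hχ rfl).injective e)
      · have h2 : (homEquiv hχ rfl).symm ⟨(a : Ω), hc.2 _ hRR' a.2⟩ =
            (homEquiv hχ rfl).symm ⟨(b : Ω), hc.2 _ hRR' b.2⟩ := Subtype.ext (congrArg (fun z : centralizerIn S R => (z : Ω)) hab)
        exact Subtype.ext (congrArg (fun z : χ.range => (z : Ω)) ((homEquiv hχ rfl).symm.injective h2))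
    have hR' : ∀ x : R, ((β ⟨x, hR x.2⟩ : S) : Ω) ∈ R := fun x => by
      rw [← hφβ x (hR x.2)]; exact hφR.le ⟨x, rfl⟩
    set N := normalizerIn S R
    have hN : N ≤ S := normalizerIn_le R
    haveI := finite_sub hN
    have hRN : R < N := FusionP3.Induction.lt_normalizerIn hS hlt
    obtain ⟨ψ0, hψ0, he0⟩ := hRec.2 R φ hφ hφR
    have hNe : N ≤ extender S R φ := fun g hg => by
      refine mem_extender_of hg (β ⟨g, hN hg⟩).2 fun x hx => ?_
      rw [hφβ _ (hR hx), hφβ x (hR x.2)]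
      show _ = ((β ⟨g, hN hg⟩ * β ⟨x, hR x.2⟩ * (β ⟨g, hN hg⟩)⁻¹ : S) : Ω)
      rw [← map_inv, ← map_mul, ← map_mul]
      rfl
    obtain ⟨ψ, hψ, heψ⟩ := exists_restrict hψ0 hNe
    obtain ⟨β0, hβ0, hβ0r, hβ0e⟩ := exists_hom_of_aut le_rfl hβ
    obtain ⟨β1, hβ1, hβ1e⟩ := exists_restrict hβ0 hN
    obtain ⟨z, hz, -, hzx⟩ := Agree.exists_conj_of_agree hS hF hRN.le (fun g hg => hg.2) hc (hEF N hψ) hβ1
      (fun q hq => by
        rw [heψ, he0 q hq, hφβ _ (hR hq), hβ1e, hβ0e])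
    obtain ⟨ψ', hψ', hψ'e⟩ := exists_comp (E.conj_mem hN (hR hz)) hψ
      (fun x => conj_mem_of_normalizer (Subgroup.le_normalizer (hRN.le hz)) x.2)
    refine ih N ?_ hN ?_ ψ' hψ' ?_ ?_
    · have h1 : Nat.card R < Nat.card N :=
        lt_of_le_of_ne (Subgroup.card_le_of_le hRN.le) fun h => hRN.ne (Subgroup.eq_of_le_of_card_ge hRN.le h.ge)
      have h2 : Nat.card N ≤ Nat.card S := Subgroup.card_le_of_le hN
      omega
    · refine ⟨hN, ?_⟩
      rintro _ ⟨χ, hχ, rfl⟩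
      have hRR : F.IsConj R ((R.subgroupOf N).map χ) :=
        ⟨_, restrict_mem hχ hRN.le, (map_subgroupOf_eq_range hRN.le χ).symm⟩
      refine le_trans (le_trans (centralizerIn_anti ?_) (hc.2 _ hRR)) ?_ <;>
        (rintro _ ⟨y, -, rfl⟩; exact ⟨y, rfl⟩)
    · have hval : ∀ x : N, ψ' x ∈ N := fun x => by
        have e : ψ' x = β1 x := by
          rw [hψ'e, hzx]
          congr 1
        rw [e, hβ1e, hβ0e]
        refine ⟨(β _).2, mem_normalizer_of_conj_mem fun y hy => ?_⟩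
        obtain ⟨w, hw⟩ := hφR.ge hy
        rw [← hw, hφβ w (hR w.2)]
        show ((β ⟨x, hN x.2⟩ * β ⟨w, hR w.2⟩ * (β ⟨x, hN x.2⟩)⁻¹ : S) : Ω) ∈ R
        rw [← map_inv, ← map_mul, ← map_mul]
        exact hR' ⟨(x : Ω) * w * (x : Ω)⁻¹, conj_mem_of_normalizer x.2.2 w.2⟩
      exact range_eq_of_mem hψ' hval le_rfl
    · intro x hx
      have e : ψ' x = β1 x := by
        rw [hψ'e, hzx]
        congr 1
      rw [e, hβ1e, hβ0e]

/-- An invariant saturated subsystem over `S` containing `Aut_F(S)` is the whole system. -/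
theorem hom_eq_of_autGroup_le (hE : E.IsInvariantIn F) (h : F.autGroup S ≤ E.autGroup S) :
    ∀ P : Subgroup Ω, E.Hom P = F.Hom P := by
  intro P
  refine Set.Subset.antisymm (hE.1 P) fun φ hφ => ?_
  obtain ⟨α, hα, φ₀, hφ₀, he⟩ := hE.2.2.2 P (src_le hφ) φ hφ
  exact mem_comp hφ₀ ((mem_autGroup le_rfl).1 (h hα)) (fun x => apply_mem hφ₀ x) fun x => he x _

/-- The generators allowed in the criterion. -/
def LocallyPGenerated (F : FusionSystem S) (p : ℕ) : Set (MulAut S) :=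
  {β | β ∈ F.autGroup S ∧ ∃ R : Subgroup Ω, F.IsFullyNormalized R ∧ F.IsCentric R ∧ ∃ γ : MulAut R,
    γ ∈ Subgroup.closure {α : MulAut R | α ∈ F.autGroup R ∧ ∃ k, orderOf α = p ^ k} ∧
    ∀ (x : R) (hx : (x : Ω) ∈ S), ((γ x : R) : Ω) = ((β ⟨x, hx⟩ : S) : Ω)}

/-- The simplicity criterion. -/
theorem isSimple_of_criterion (hS : IsPGroup p S) (hF : F.IsSaturated p) (hS1 : S ≠ ⊥)
    (hsc : ∀ T : Subgroup Ω, F.StronglyClosed T → T = ⊥ ∨ T = S)
    (hgen : F.autGroup S ≤ Subgroup.closure (LocallyPGenerated F p)) : F.IsSimple p := by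
  refine ⟨hF, hS1, fun T E hE => ?_⟩
  obtain ⟨⟨hEs, -, hinv⟩, -⟩ := hE
  rcases hsc T hinv.2.1 with h | h
  · exact Or.inl h
  subst h
  refine Or.inr ⟨rfl, hom_eq_of_autGroup_le hinv (hgen.trans ((Subgroup.closure_le _).2 ?_))⟩
  rintro β ⟨hβ, R, hRn, hRc, γ, hγ, hγβ⟩
  have hγE : γ ∈ E.autGroup R :=
    (Subgroup.closure_le _).2 (fun a ha => pElement_mem_autGroup hS hF hinv hRn ha.1 ha.2) hγ
  obtain ⟨φ, hφ, hφR, hφγ⟩ := exists_hom_of_aut hRn.1 hγE
  exact mem_autGroup_of_restrict hS hF hEs hinv.1 hβ _ R (Nat.lt_succ_self _) hRn.1 hRc φ hφ hφR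
    fun x hx => (hφγ x).trans (hγβ x hx)

/-- The criterion for the fusion system of a finite group. -/
theorem isSimple_group {G : Type*} [Group G] [Finite G] (P : Sylow p G) (hS1 : (P : Subgroup G) ≠ ⊥)
    (hsc : ∀ T : Subgroup G, (groupFusionSystem (P : Subgroup G)).StronglyClosed T → T = ⊥ ∨ T = (P : Subgroup G))
    (X : Set (Subgroup G))
    (hX : ∀ R ∈ X, (groupFusionSystem (P : Subgroup G)).IsFullyNormalized R ∧ (groupFusionSystem (P : Subgroup G)).IsCentric R)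
    (hgen : autInducedBy ⊤ (P : Subgroup G) ≤ ⨆ R ∈ X, autInducedBy
      (Subgroup.closure {g : G | g ∈ Subgroup.normalizer (R : Set G) ∧ ∃ k : ℕ, orderOf g = p ^ k})
      (P : Subgroup G)) :
    (groupFusionSystem (P : Subgroup G)).IsSimple p := by
  refine isSimple_of_criterion P.isPGroup' (isSaturated_group P) hS1 hsc ?_
  rw [group_autGroup le_rfl]
  refine hgen.trans (iSup₂_le fun R hR => ?_)
  intro β hβ
  obtain ⟨g, hg, hgβ⟩ := mem_autInducedBy.1 hβ
  obtain ⟨hRn, hRc⟩ := hX R hR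
  set F := groupFusionSystem (P : Subgroup G)
  have hK : Subgroup.closure {g : G | g ∈ Subgroup.normalizer (R : Set G) ∧ ∃ k : ℕ, orderOf g = p ^ k} ≤
      Subgroup.normalizer (R : Set G) := (Subgroup.closure_le _).2 fun x hx => hx.1
  refine Subgroup.subset_closure ⟨?_, R, hRn, hRc, R.normalizerMonoidHom ⟨g, hK hg⟩, ?_, fun x hx => ?_⟩
  · rw [group_autGroup le_rfl]
    exact mem_autInducedBy.2 ⟨g, Subgroup.mem_top g, hgβ⟩
  · suffices H : Subgroup.closure {g : G | g ∈ Subgroup.normalizer (R : Set G) ∧ ∃ k : ℕ, orderOf g = p ^ k} ≤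
        ((Subgroup.closure {α : MulAut R | α ∈ F.autGroup R ∧ ∃ k, orderOf α = p ^ k}).comap
          R.normalizerMonoidHom).map (Subgroup.normalizer (R : Set G)).subtype by
      obtain ⟨n, hn, hng⟩ := H hg
      rwa [show (⟨g, hK hg⟩ : Subgroup.normalizer (R : Set G)) = n from Subtype.ext hng.symm]
    refine (Subgroup.closure_le _).2 ?_
    rintro x ⟨hxN, k, hk⟩
    refine ⟨⟨x, hxN⟩, Subgroup.subset_closure ⟨?_, ?_⟩, rfl⟩
    · rw [group_autGroup hRn.1]
      exact mem_autInducedBy.2 ⟨x, Subgroup.mem_top x, fun _ => rfl⟩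
    · have h1 : orderOf (R.normalizerMonoidHom ⟨x, hxN⟩) ∣ p ^ k := by
        rw [← hk, ← Subgroup.orderOf_mk x hxN]
        exact orderOf_map_dvd R.normalizerMonoidHom _
      obtain ⟨j, -, hj⟩ := (Nat.dvd_prime_pow Fact.out).1 h1
      exact ⟨j, hj⟩
  · exact (hgβ ⟨x, hx⟩).symm

end Cfsg.Agent.Lib.FusionAlperin.Simple
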