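import Cfsg.Agent.Lib.FusionP3.StronglyClosed
import Cfsg.Agent.Lib.FusionSystem.NormalFacts
import Cfsg.Agent.Lib.FusionSystem.FactorSaturated

/-!
Solvable fusion systems: series of strongly closed subgroups with abelian factors.
-/

set_option autoImplicit false

namespace Cfsg.Agent.Lib.FusionAlperin.Solvable

open Cfsg Cfsg.FusionSystem Cfsg.Agent.Lib.FS
open scoped commutatorElement

variable {Ω : Type*} [Group Ω] {S : Subgroup Ω} {F : FusionSystem S} {p : ℕ}

/-- `B` is reached from the trivial subgroup by abelian steps through strongly closed subgroups. -/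
inductive Climb (F : FusionSystem S) : Subgroup Ω → Prop
  | bot : Climb F ⊥
  | step {A B : Subgroup Ω} : Climb F A → A ≤ B → F.StronglyClosed B → ⁅B, B⁆ ≤ A → Climb F B

theorem stronglyClosed_bot (F : FusionSystem S) : F.StronglyClosed ⊥ :=
  ⟨bot_le, fun R hR φ _ x => Subgroup.mem_bot.2 (by
    rw [show x = 1 from Subtype.ext (Subgroup.mem_bot.1 (hR x.2)), map_one])⟩

theorem Climb.stronglyClosed {B : Subgroup Ω} (h : Climb F B) : F.StronglyClosed B := by
  cases h with
  | bot => exact stronglyClosed_bot F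
  | step _ _ hB _ => exact hB

theorem climb_iff_chain {B : Subgroup Ω} :
    Climb F B ↔ ∃ (n : ℕ) (T : Fin (n + 1) → Subgroup Ω), T 0 = ⊥ ∧ T (Fin.last n) = B ∧ Monotone T ∧
      (∀ i, F.StronglyClosed (T i)) ∧ ∀ i : Fin n, ⁅T i.succ, T i.succ⁆ ≤ T (Fin.castSucc i) := by
  constructor
  · intro h
    induction h with
    | bot =>
      exact ⟨0, fun _ => ⊥, rfl, rfl, monotone_const, fun _ => stronglyClosed_bot F, fun i => i.elim0⟩
    | @step A B _ hAB hB hc ih =>
      obtain ⟨n, T, h0, hn, hm, hs, hcm⟩ := ih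
      refine ⟨n + 1, Fin.snoc T B, ?_, Fin.snoc_last .., ?_, ?_, ?_⟩
      · rw [← Fin.castSucc_zero, Fin.snoc_castSucc, h0]
      · refine Fin.monotone_iff_le_succ.2 fun i => ?_
        refine Fin.lastCases ?_ ?_ i
        · rw [Fin.succ_last, Fin.snoc_castSucc, Fin.snoc_last, hn]; exact hAB
        · intro j
          rw [Fin.succ_castSucc, Fin.snoc_castSucc, Fin.snoc_castSucc]
          exact hm j.castSucc_le_succ
      · exact Fin.lastCases (by rw [Fin.snoc_last]; exact hB) fun i => by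
          rw [Fin.snoc_castSucc]; exact hs i
      · refine Fin.lastCases ?_ fun i => ?_
        · rw [Fin.succ_last, Fin.snoc_castSucc, Fin.snoc_last, hn]; exact hc
        · rw [Fin.succ_castSucc, Fin.snoc_castSucc, Fin.snoc_castSucc]; exact hcm i
  · rintro ⟨n, T, h0, rfl, hm, hs, hc⟩
    suffices h : ∀ i, Climb F (T i) from h _
    intro i
    induction i using Fin.induction with
    | zero => rw [h0]; exact Climb.bot
    | succ i ih => exact ih.step (hm i.castSucc_le_succ) (hs _) (hc i)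

/-- A step of the climb leaving `R`. -/
theorem Climb.exists_step {B : Subgroup Ω} (h : Climb F B) {R : Subgroup Ω} (hR : ¬ B ≤ R) :
    ∃ B' : Subgroup Ω, F.StronglyClosed B' ∧ ⁅B', B'⁆ ≤ R ∧ ¬ B' ≤ R := by
  induction h with
  | bot => exact absurd bot_le hR
  | @step A B _ hAB hB hc ih =>
    by_cases hA : A ≤ R
    · exact ⟨B, hB, hc.trans hA, hR⟩
    · exact ih hA

section Image

variable {Ω' : Type*} [Group Ω'] {S' : Subgroup Ω'} {θ : S →* Ω'} {D : FusionSystem S'} {T : Subgroup Ω}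

theorem stronglyClosed_image (hD : F.IsFactorSystem T θ D) {B : Subgroup Ω} (hB : F.StronglyClosed B) :
    D.StronglyClosed (imageAlong θ B) := by
  obtain ⟨-, hker, hr, hmem⟩ := hD
  refine ⟨?_, fun R hR φ' hφ' x => ?_⟩
  · rintro _ ⟨s, -, rfl⟩; exact hr.le ⟨s, rfl⟩
  obtain ⟨-, φ, hφ, hind⟩ := (hmem R φ').1 hφ'
  obtain ⟨x, hx⟩ := x
  obtain ⟨s, hs, rfl⟩ := hR hx
  have hs' : (s : Ω) ∈ preimageAlong θ R := mem_preimageAlong.2 ⟨s.2, hx⟩
  rw [inducedAlong_apply hind ⟨_, hs'⟩ s.2 hx (apply_mem hφ _)]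
  exact ⟨⟨_, apply_mem hφ _⟩, stronglyClosed_apply_mem hB hφ (x := ⟨_, hs'⟩) hs, rfl⟩

theorem commutator_image_le {A B : Subgroup Ω} (hB : B ≤ S) (h : ⁅B, B⁆ ≤ A) :
    ⁅imageAlong θ B, imageAlong θ B⁆ ≤ imageAlong θ A := by
  rw [imageAlong, imageAlong, ← Subgroup.map_commutator]
  refine Subgroup.map_mono (Subgroup.commutator_le.2 fun a ha b hb => ?_)
  have := h (Subgroup.commutator_mem_commutator (show (a : Ω) ∈ B from ha) (show (b : Ω) ∈ B from hb))
  simpa [Subgroup.mem_subgroupOf, commutatorElement_def] using this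

theorem climb_image (hD : F.IsFactorSystem T θ D) {B : Subgroup Ω} (h : Climb F B) :
    Climb D (imageAlong θ B) := by
  induction h with
  | bot => rw [imageAlong, Subgroup.bot_subgroupOf, Subgroup.map_bot]; exact Climb.bot
  | @step A B _ hAB hB hc ih =>
    exact ih.step (Subgroup.map_mono (Subgroup.comap_mono hAB)) (stronglyClosed_image hD hB)
      (commutator_image_le hB.1 hc)

variable [Finite S] [Fact p.Prime]

theorem stronglyClosed_preimage (hS : IsPGroup p S) (hF : F.IsSaturated p) (hT : F.StronglyClosed T)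
    (hD : F.IsFactorSystem T θ D) {B : Subgroup Ω'} (hB : D.StronglyClosed B) :
    F.StronglyClosed (preimageAlong θ B) := by
  obtain ⟨⟨-, hm⟩, -, -⟩ := factor_isSurjectiveMorphism hS hF hT hD
  refine ⟨preimageAlong_le θ B, fun R hR φ hφ x => ?_⟩
  obtain ⟨hxS, hxB⟩ := mem_preimageAlong.1 (hR x.2)
  obtain ⟨φ', hφ', hind⟩ := hm R φ hφ
  have hy : θ ⟨x, hxS⟩ ∈ imageAlong θ R := ⟨⟨x, hxS⟩, x.2, rfl⟩
  refine mem_preimageAlong.2 ⟨apply_mem hφ x, ?_⟩
  rw [← inducedAlong_apply hind x hxS hy (apply_mem hφ x)]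
  exact stronglyClosed_apply_mem hB hφ' (x := ⟨_, hy⟩) hxB

theorem commutator_preimage_le {A B : Subgroup Ω'} (h : ⁅B, B⁆ ≤ A) :
    ⁅preimageAlong θ B, preimageAlong θ B⁆ ≤ preimageAlong θ A := by
  refine Subgroup.commutator_le.2 fun a ha b hb => ?_
  obtain ⟨haS, haB⟩ := mem_preimageAlong.1 ha
  obtain ⟨hbS, hbB⟩ := mem_preimageAlong.1 hb
  refine mem_preimageAlong.2 ⟨(⁅(⟨a, haS⟩ : S), ⟨b, hbS⟩⁆ : S).2, ?_⟩
  show θ ⁅(⟨a, haS⟩ : S), ⟨b, hbS⟩⁆ ∈ A
  rw [map_commutatorElement]
  exact h (Subgroup.commutator_mem_commutator haB hbB)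

theorem preimage_bot (hD : F.IsFactorSystem T θ D) : preimageAlong θ (⊥ : Subgroup Ω') = T := by
  ext x
  refine mem_preimageAlong.trans ⟨fun ⟨hx, h⟩ => (hD.2.1 ⟨x, hx⟩).1 (Subgroup.mem_bot.1 h), fun hx => ?_⟩
  exact ⟨hD.1 hx, Subgroup.mem_bot.2 ((hD.2.1 ⟨x, hD.1 hx⟩).2 hx)⟩

theorem climb_preimage (hS : IsPGroup p S) (hF : F.IsSaturated p) (hT : Climb F T)
    (hD : F.IsFactorSystem T θ D) {B : Subgroup Ω'} (h : Climb D B) : Climb F (preimageAlong θ B) := by
  induction h with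
  | bot => rw [preimage_bot hD]; exact hT
  | @step A B _ hAB hB hc ih =>
    exact ih.step (fun x hx => mem_preimageAlong.2 ((mem_preimageAlong.1 hx).imp fun _ h => hAB h))
      (stronglyClosed_preimage hS hF hT.stronglyClosed hD hB) (commutator_preimage_le hc)

end Image

section Main

variable [Finite S] [Fact p.Prime]

theorem normal_subgroupOf {R : Subgroup Ω} (hR : F.StronglyClosed R) : (R.subgroupOf S).Normal :=
  ⟨fun y hy g => Subgroup.mem_subgroupOf.2
    (FusionP3.StronglyClosed.conj_mem_of_stronglyClosed hR g.2 (Subgroup.mem_subgroupOf.1 hy))⟩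

/-- A system is solvable if and only if the base is reached by an abelian climb. -/
theorem isSolvableSystem_iff (hS : IsPGroup p S) (hF : F.IsSaturated p) :
    F.IsSolvableSystem ↔ Climb F S := by
  constructor
  · intro h
    suffices H : ∀ k (R : Subgroup Ω), Climb F R → Nat.card S - Nat.card R ≤ k → Climb F S from
      H _ ⊥ Climb.bot le_rfl
    intro k
    induction k with
    | zero =>
      intro R hR hk
      have hle := hR.stronglyClosed.1
      have := finite_sub hle
      rwa [Subgroup.eq_of_le_of_card_ge hle (by omega)] at hR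
    | succ k ih =>
      intro R hR hk
      have hsc := hR.stronglyClosed
      rcases eq_or_ne R S with rfl | hne
      · exact hR
      have := normal_subgroupOf hsc
      set θ := QuotientGroup.mk' (R.subgroupOf S)
      have hker : ∀ s : S, θ s = 1 ↔ (s : Ω) ∈ R := fun s => QuotientGroup.eq_one_iff s
      have hr : θ.range = ⊤ := MonoidHom.range_eq_top.2 (QuotientGroup.mk'_surjective _)
      obtain ⟨E, hE⟩ := exists_factorSystem hsc θ hker hr
      have hEp := isPGroup_image hS hr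
      obtain ⟨Q, hQ1, hQc, hQ⟩ := (core_ne_bot_iff hEp (factor_isSaturated hS hF hsc hE)).1
        (h R hsc hne E hE)
      have hc : ⁅Q, Q⁆ ≤ ⊥ := (commutator_eq_bot_of_commutative Q).le
      have hnew := climb_preimage hS hF hR hE (Climb.bot.step bot_le hQ hc)
      have hle : R ≤ preimageAlong θ Q := fun x hx => mem_preimageAlong.2
        ⟨hsc.1 hx, by rw [(hker ⟨x, hsc.1 hx⟩).2 hx]; exact one_mem _⟩
      have hlt : R < preimageAlong θ Q := by
        refine lt_of_le_of_ne hle fun he => hQ1 ?_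
        rw [← imageAlong_preimageAlong hr (le_top : Q ≤ ⊤), ← he, eq_bot_iff]
        rintro _ ⟨s, hs, rfl⟩
        exact Subgroup.mem_bot.2 ((hker s).2 hs)
      have := finite_sub (preimageAlong_le θ Q)
      have hcard : Nat.card R < Nat.card (preimageAlong θ Q) := by
        refine lt_of_le_of_ne (Subgroup.card_le_of_le hlt.le) fun he => hlt.ne ?_
        exact Subgroup.eq_of_le_of_card_ge hlt.le he.ge
      exact ih _ hnew (by omega)
  · intro h R hR hne hn E hE hcore
    obtain ⟨B, hB, hBc, hBR⟩ := h.exists_step (R := R) fun hle => hne (le_antisymm hR.1 hle)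
    have hr := hE.2.2.1
    have hEp := isPGroup_image hS hr
    set θ := QuotientGroup.mk' (R.subgroupOf S)
    have hb : imageAlong θ R = ⊥ := by
      rw [eq_bot_iff]
      rintro _ ⟨s, hs, rfl⟩
      exact Subgroup.mem_bot.2 ((hE.2.1 s).2 hs)
    have hab : IsMulCommutative (imageAlong θ B) := ⟨⟨fun a b => Subtype.ext
      (commutatorElement_eq_one_iff_mul_comm.1 (Subgroup.mem_bot.1 (hb ▸ commutator_image_le hB.1 hBc
        (Subgroup.commutator_mem_commutator a.2 b.2))))⟩⟩
    refine (core_ne_bot_iff hEp (factor_isSaturated hS hF hR hE)).2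
      ⟨imageAlong θ B, fun hbot => hBR fun x hx => ?_, hab, stronglyClosed_image hE hB⟩ hcore
    have h1 : θ ⟨x, hB.1 hx⟩ ∈ imageAlong θ B := ⟨_, hx, rfl⟩
    rw [hbot, Subgroup.mem_bot] at h1
    exact (hE.2.1 _).1 h1

/-- The product of a normal and a strongly closed subgroup is strongly closed. -/
theorem stronglyClosed_sup {Q D : Subgroup Ω} (hQ : F.IsNormal Q) (hD : F.StronglyClosed D) :
    F.StronglyClosed (Q ⊔ D) := by
  refine ⟨sup_le hQ.1 hD.1, fun R hR φ hφ x => ?_⟩
  obtain ⟨ψ, hψ, he, hm⟩ := hQ.2 R φ hφ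
  obtain ⟨u, hu, t, ht, hxe⟩ := FusionP3.StronglyClosed.exists_mul_of_mem_sup
    (fun u hu t ht => FusionP3.StronglyClosed.conj_mem_of_stronglyClosed hD (hQ.1 hu) ht) (hR x.2)
  have ht' : t ∈ R ⊔ Q := by
    rw [show t = u⁻¹ * x by rw [hxe]; group]
    exact mul_mem (Subgroup.mem_sup_right (inv_mem hu)) (Subgroup.mem_sup_left x.2)
  rw [← he x, show Subgroup.inclusion le_sup_left x =
    Subgroup.inclusion le_sup_right ⟨u, hu⟩ * (⟨t, ht'⟩ : ↥(R ⊔ Q)) from Subtype.ext hxe, map_mul]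
  exact mul_mem (Subgroup.mem_sup_left (hm.le ⟨_, hu, rfl⟩))
    (Subgroup.mem_sup_right (stronglyClosed_apply_mem hD hψ (x := ⟨t, ht'⟩) ht))

/-- A solvable system is constrained. -/
theorem isConstrained_of_climb (hS : IsPGroup p S) (hF : F.IsSaturated p) (h : Climb F S) :
    F.IsConstrained p := by
  have hQ : F.IsNormal F.core := FusionAlperin.Join.isNormal_core F
  set Q := F.core with hQdef
  have hQn : ∀ g ∈ S, ∀ q ∈ Q, g * q * g⁻¹ ∈ Q := fun g hg q hq =>
    FusionP3.StronglyClosed.conj_mem_of_stronglyClosed (isNormal_stronglyClosed hQ) hg hq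
  have key : ∀ B, Climb F B → B ⊓ (Q ⊔ centralizerIn S Q) ≤ Q := by
    intro B hB
    induction hB with
    | bot => exact le_trans inf_le_left bot_le
    | @step A B _ hAB hB hc ih =>
      have hX := FusionP3.StronglyClosed.stronglyClosed_sup_centralizerIn hS hF (isNormal_stronglyClosed hQ)
      set D := B ⊓ (Q ⊔ centralizerIn S Q) with hD
      have hDsc : F.StronglyClosed D := ⟨inf_le_left.trans hB.1, fun R hR φ hφ x =>
        ⟨hB.2 R (hR.trans inf_le_left) φ hφ x, hX.2 R (hR.trans inf_le_right) φ hφ x⟩⟩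
      have hDD : ∀ a ∈ D, ∀ b ∈ D, ⁅a, b⁆ ∈ Q := fun a ha b hb =>
        ih ⟨hc (Subgroup.commutator_mem_commutator ha.1 hb.1), by
          rw [commutatorElement_def]
          exact mul_mem (mul_mem (mul_mem ha.2 hb.2) (Subgroup.inv_mem _ ha.2)) (Subgroup.inv_mem _ hb.2)⟩
      set Y := Q ⊔ D with hY
      have hYX : Y ≤ Q ⊔ centralizerIn S Q := sup_le le_sup_left inf_le_right
      obtain ⟨n, Qs, h0, hn, hmono, hser⟩ := (isNormal_iff_series hS hF).1 hQ
      have hYn : F.IsNormal Y := by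
        refine isNormal_of_series hS hF (n := n + 1) (Fin.snoc Qs Y) ?_ (Fin.snoc_last ..) ?_ ?_
        · rw [← Fin.castSucc_zero, Fin.snoc_castSucc, h0]
        · refine Fin.lastCases ?_ fun i => ?_
          · rw [Fin.succ_last, Fin.snoc_last]; exact stronglyClosed_sup hQ hDsc
          · rw [Fin.succ_castSucc, Fin.snoc_castSucc]; exact (hser i).1
        · refine Fin.lastCases ?_ fun i => ?_
          · rw [Fin.succ_last, Fin.snoc_last, Fin.snoc_castSucc, hn]
            have hdec : ∀ y ∈ Y, ∃ q ∈ Q, ∃ d ∈ D, y = q * d := fun y hy =>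
              FusionP3.StronglyClosed.exists_mul_of_mem_sup
                (fun u hu t ht => FusionP3.StronglyClosed.conj_mem_of_stronglyClosed hDsc (hQ.1 hu) ht) hy
            refine Subgroup.commutator_le.2 fun a ha b hb => ?_
            obtain ⟨q, hq, d, hd, rfl⟩ := hdec a ha
            obtain ⟨q', hq', d', hd', rfl⟩ := hdec b hb
            have hdS := hDsc.1 hd
            have hd'S := hDsc.1 hd'
            rw [show ⁅q * d, q' * d'⁆ = q * ((d * q' * d⁻¹) * ⁅d, d'⁆ * (d' * q⁻¹ * d'⁻¹)) * q'⁻¹ from by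
                simp only [commutatorElement_def]; group]
            exact mul_mem (mul_mem hq (mul_mem (mul_mem (hQn d hdS q' hq') (hDD d hd d' hd'))
              (hQn d' hd'S _ (Subgroup.inv_mem _ hq)))) (Subgroup.inv_mem _ hq')
          · rw [Fin.succ_castSucc, Fin.snoc_castSucc, Fin.snoc_castSucc]
            refine Subgroup.commutator_le.2 fun a ha z hz => ?_
            have hconj : ∀ u ∈ Q, ∀ t ∈ centralizerIn S Q, u * t * u⁻¹ ∈ centralizerIn S Q := fun u hu t ht => by
              refine mem_centralizerIn'.2 ⟨mul_mem (mul_mem (hQ.1 hu) (mem_centralizerIn'.1 ht).1)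
                (inv_mem (hQ.1 hu)), fun y hy => ?_⟩
              have h1 := (mem_centralizerIn'.1 ht).2 _ (hQn u⁻¹ (inv_mem (hQ.1 hu)) y hy)
              calc u * t * u⁻¹ * y * (u * t * u⁻¹)⁻¹
                  = u * (t * (u⁻¹ * y * u⁻¹⁻¹) * t⁻¹) * u⁻¹ := by group
                _ = y := by rw [h1]; group
            obtain ⟨q, hq, c, hcc, rfl⟩ := FusionP3.StronglyClosed.exists_mul_of_mem_sup
              hconj (show a ∈ Q ⊔ centralizerIn S Q from hYX ha)
            have hzQ : z ∈ Q := hn ▸ (show Qs i.succ ≤ Qs (Fin.last n) from hmono (Fin.le_last _)) hz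
            have hcz : c * z = z * c := mul_inv_eq_iff_eq_mul.1 ((mem_centralizerIn'.1 hcc).2 z hzQ)
            rw [show ⁅q * c, z⁆ = ⁅q, z⁆ by
              rw [commutatorElement_def, commutatorElement_def, mul_assoc q c z, hcz, mul_inv_rev]
              group]
            exact (hser i).2 (Subgroup.commutator_mem_commutator hq hz)
      exact le_trans le_sup_right (hQdef ▸ le_core_of_isNormal hYn)
  refine ⟨hF, Q, hQ, hQ.1, fun R hR => ?_⟩
  obtain ⟨φ, hφ, rfl⟩ := hR
  have := finite_sub hQ.1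
  have hrange : φ.range = Q := range_eq_of_mem hφ (fun x => isNormal_apply_mem hQ hφ x.2) le_rfl
  rw [hrange]
  exact fun c hc => key S h ⟨centralizerIn_le Q hc, Subgroup.mem_sup_right hc⟩

end Main

section Normal

variable {T : Subgroup Ω} {E : FusionSystem T}

theorem climb_inf (hE : E.IsSubsystemOf F) {B : Subgroup Ω} (h : Climb F B) : Climb E (B ⊓ T) := by
  induction h with
  | bot => rw [bot_inf_eq]; exact Climb.bot
  | @step A B _ hAB hB hc ih =>
    refine ih.step (inf_le_inf_right T hAB) ⟨inf_le_right, fun R hR φ hφ x =>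
      ⟨hB.2 R (hR.trans inf_le_left) φ (hE _ hφ) x, apply_mem hφ x⟩⟩ ?_
    exact le_inf ((Subgroup.commutator_mono inf_le_left inf_le_left).trans hc)
      (Subgroup.commutator_le.2 fun a ha b hb => by
        rw [commutatorElement_def]
        exact mul_mem (mul_mem (mul_mem ha.2 hb.2) (Subgroup.inv_mem _ ha.2)) (Subgroup.inv_mem _ hb.2))

/-- The largest subgroup of `B` invariant under `Aut_F(T)`. -/
def invCore (F : FusionSystem S) (T B : Subgroup Ω) : Subgroup Ω where
  carrier := {x | ∃ hx : x ∈ T, ∀ α ∈ F.autGroup T, ((α ⟨x, hx⟩ : T) : Ω) ∈ B}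
  one_mem' := ⟨one_mem T, fun α _ => by
    rw [show (⟨1, one_mem T⟩ : T) = 1 from rfl, map_one]; exact one_mem B⟩
  mul_mem' := by
    rintro a b ⟨ha, ha'⟩ ⟨hb, hb'⟩
    refine ⟨mul_mem ha hb, fun α hα => ?_⟩
    rw [show (⟨a * b, mul_mem ha hb⟩ : T) = ⟨a, ha⟩ * ⟨b, hb⟩ from rfl, map_mul]
    exact mul_mem (ha' α hα) (hb' α hα)
  inv_mem' := by
    rintro a ⟨ha, ha'⟩
    refine ⟨inv_mem ha, fun α hα => ?_⟩
    rw [show (⟨a⁻¹, inv_mem ha⟩ : T) = (⟨a, ha⟩ : T)⁻¹ from rfl, map_inv]
    exact inv_mem (ha' α hα)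

theorem climb_invCore (hE : E.IsInvariantIn F) {B : Subgroup Ω} (h : Climb E B) :
    Climb F (invCore F T B) := by
  induction h with
  | bot =>
    rw [show invCore F T ⊥ = ⊥ from le_bot_iff.1 fun x ⟨hx, h⟩ => h 1 (one_mem _)]
    exact Climb.bot
  | @step A B _ hAB hB hc ih =>
    refine ih.step (fun x ⟨hx, h⟩ => ⟨hx, fun α hα => hAB (h α hα)⟩) ⟨?_, fun R hR φ hφ x => ?_⟩ ?_
    · exact fun x ⟨hx, _⟩ => hE.2.1.1 hx
    · have hRT : R ≤ T := fun y hy => (hR hy).fst
      obtain ⟨α₀, hα₀, φ₀, hφ₀, he⟩ := hE.2.2.2 R hRT φ hφ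
      refine ⟨hE.2.1.2 R hRT φ hφ x, fun α hα => ?_⟩
      obtain ⟨χ, hχ, hχe⟩ := hE.2.2.1 R hRT φ₀ hφ₀ (α * α₀) (mul_mem hα hα₀)
      have hm : ((((α * α₀) ⟨x, hRT x.2⟩ : T)) : Ω) ∈
          (R.subgroupOf T).map (T.subtype.comp (α * α₀).toMonoidHom) := ⟨⟨x, hRT x.2⟩, x.2, rfl⟩
      have h1 := stronglyClosed_apply_mem hB hχ (x := ⟨_, hm⟩) ((hR x.2).snd (α * α₀) (mul_mem hα hα₀))
      rw [hχe x (apply_mem hφ₀ x) hm] at h1
      have e : (⟨φ x, hE.2.1.2 R hRT φ hφ x⟩ : T) = α₀ ⟨φ₀ x, apply_mem hφ₀ x⟩ :=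
        Subtype.ext (he x (apply_mem hφ₀ x))
      rw [e, ← MulAut.mul_apply]
      exact h1
    · refine Subgroup.commutator_le.2 fun a ⟨ha, ha'⟩ b ⟨hb, hb'⟩ => ?_
      refine ⟨(⁅(⟨a, ha⟩ : T), ⟨b, hb⟩⁆ : T).2, fun α hα => ?_⟩
      show ((α ⁅(⟨a, ha⟩ : T), ⟨b, hb⟩⁆ : T) : Ω) ∈ A
      rw [map_commutatorElement]
      exact hc (Subgroup.commutator_mem_commutator (ha' α hα) (hb' α hα))

theorem climb_of_invariant (hE : E.IsInvariantIn F) (h : Climb E T) : Climb F T := by
  have := climb_invCore hE h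
  rwa [show invCore F T T = T from le_antisymm (fun x hx => hx.fst) fun x hx => ⟨hx, fun α _ => (α _).2⟩] at this

variable [Finite S] [Fact p.Prime] {Ω' : Type*} [Group Ω'] {S' : Subgroup Ω'} {θ : S →* Ω'}
  {D : FusionSystem S'}

/-- Solvability passes to and from a normal subsystem and the factor system. -/
theorem climb_extension (hS : IsPGroup p S) (hF : F.IsSaturated p) (hE : E.IsInvariantIn F)
    (hD : F.IsFactorSystem T θ D) : Climb F S ↔ Climb E T ∧ Climb D S' := by
  constructor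
  · intro h
    have h1 := climb_inf hE.1 h
    rw [inf_eq_right.2 hE.2.1.1] at h1
    have h2 := climb_image hD h
    rw [imageAlong, Subgroup.subgroupOf_self, ← MonoidHom.range_eq_map, hD.2.2.1] at h2
    exact ⟨h1, h2⟩
  · rintro ⟨h1, h2⟩
    have h3 := climb_preimage hS hF (climb_of_invariant hE h1) hD h2
    rwa [show preimageAlong θ S' = S from le_antisymm (preimageAlong_le θ S') fun x hx =>
      mem_preimageAlong.2 ⟨hx, hD.2.2.1.le ⟨⟨x, hx⟩, rfl⟩⟩] at h3

end Normal

end Cfsg.Agent.Lib.FusionAlperin.Solvable
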