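import Mathlib

/-!
Groups of transvections with a common centre that are maximal `p`-subgroups of an automorphism group.
-/

set_option autoImplicit false

namespace Cfsg.Agent.Lib.FusionAlperin.Transvections

variable {V : Type*} [CommGroup V] [Finite V] {p : ℕ} [hp : Fact p.Prime]

/-- `R` is a maximal `p`-subgroup of `A` whose elements are transvections with centre `z`. -/
structure IsTransv (p : ℕ) (A : Subgroup (MulAut V)) (z : V) (R : Subgroup (MulAut V)) : Prop where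
  le : R ≤ A
  fix : ∀ r ∈ R, r z = z
  move : ∀ r ∈ R, ∀ x, x⁻¹ * r x ∈ Subgroup.zpowers z
  isP : IsPGroup p R
  max : ∀ K : Subgroup (MulAut V), K ≤ A → IsPGroup p K → R ≤ K → K ≤ R

theorem pow_apply {k : MulAut V} {x c : V} (h : k x = x * c) (hc : k c = c) (j : ℕ) :
    (k ^ j) x = x * c ^ j := by
  induction j with
  | zero => simp
  | succ j ih => rw [pow_succ', MulAut.mul_apply, ih, map_mul, h, map_pow, hc, pow_succ', mul_assoc]

theorem mem_zpowers_of_ne {z c : V} (hz : z ^ p = 1) (hc : c ∈ Subgroup.zpowers z) (h1 : c ≠ 1) :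
    z ∈ Subgroup.zpowers c := by
  have hc' : Nat.card (Subgroup.zpowers z) = p := by
    rw [Nat.card_zpowers]
    exact orderOf_eq_prime hz fun h => h1 (by rw [h, Subgroup.zpowers_one_eq_bot] at hc; exact hc)
  have hgen := zpowers_eq_top_of_prime_card hc'
    (g := (⟨c, hc⟩ : Subgroup.zpowers z)) fun h => h1 (congrArg Subtype.val h)
  obtain ⟨m, hm⟩ := Subgroup.mem_zpowers_iff.1
    (hgen ▸ Subgroup.mem_top (⟨z, Subgroup.mem_zpowers z⟩ : Subgroup.zpowers z))
  exact ⟨m, congrArg Subtype.val hm⟩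

/-- Automorphisms stabilising `1 < ⟨z⟩ < V`. -/
def stab (A : Subgroup (MulAut V)) (z : V) : Subgroup (MulAut V) where
  carrier := {k | k ∈ A ∧ k z = z ∧ ∀ x, x⁻¹ * k x ∈ Subgroup.zpowers z}
  one_mem' := ⟨one_mem A, rfl, fun x => by simp⟩
  mul_mem' := by
    rintro a b ⟨ha, hza, hma⟩ ⟨hb, hzb, hmb⟩
    refine ⟨mul_mem ha hb, by rw [MulAut.mul_apply, hzb, hza], fun x => ?_⟩
    rw [MulAut.mul_apply, show x⁻¹ * a (b x) = (x⁻¹ * b x) * ((b x)⁻¹ * a (b x)) by group]
    exact mul_mem (hmb x) (hma (b x))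
  inv_mem' := by
    rintro a ⟨ha, hza, hma⟩
    refine ⟨inv_mem ha, a.injective (by simp [hza]), fun x => ?_⟩
    have h := inv_mem (hma (a⁻¹ x))
    rwa [MulAut.apply_inv_self, mul_inv_rev, inv_inv] at h

theorem mem_stab {A : Subgroup (MulAut V)} {z : V} {k : MulAut V} :
    k ∈ stab A z ↔ k ∈ A ∧ k z = z ∧ ∀ x, x⁻¹ * k x ∈ Subgroup.zpowers z := Iff.rfl

theorem pow_p_eq_one {z : V} (hz : z ^ p = 1) {k : MulAut V} (hk : k z = z)
    (hm : ∀ x, x⁻¹ * k x ∈ Subgroup.zpowers z) : k ^ p = 1 := by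
  ext x
  obtain ⟨i, hi⟩ := hm x
  have hi : z ^ i = x⁻¹ * k x := hi
  rw [pow_apply (c := z ^ i) (by rw [hi, mul_inv_cancel_left]) (by rw [map_zpow, hk]) p,
    ← zpow_natCast, ← zpow_mul, mul_comm i, zpow_mul, zpow_natCast, hz, one_zpow, mul_one]
  rfl

variable {A R R' : Subgroup (MulAut V)} {z z' : V}

theorem eq_stab (hexp : ∀ x : V, x ^ p = 1) (h : IsTransv p A z R) : R = stab A z := by
  have hle : R ≤ stab A z := fun r hr => ⟨h.le hr, h.fix r hr, h.move r hr⟩
  refine le_antisymm hle (h.max _ (fun k hk => hk.1) (fun k => ⟨1, Subtype.ext ?_⟩) hle)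
  rw [pow_one, SubgroupClass.coe_pow, pow_p_eq_one (hexp z) k.2.2.1 k.2.2.2]
  rfl

/-- An element of order dividing `p` normalising a maximal `p`-subgroup lies in it. -/
theorem mem_of_normalizes (h : IsTransv p A z R) {k : MulAut V} (hk : k ∈ A) (hkp : k ^ p = 1)
    (hn : ∀ r ∈ R, k * r * k⁻¹ ∈ R) : k ∈ R := by
  have hnorm : Subgroup.zpowers k ≤ Subgroup.normalizer (R : Set (MulAut V)) := by
    rw [Subgroup.zpowers_le]
    exact Subgroup.mem_normalizer_fintype hn
  have hzp : IsPGroup p (Subgroup.zpowers k) := by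
    rintro ⟨_, m, rfl⟩
    refine ⟨1, Subtype.ext ?_⟩
    show (k ^ m) ^ p ^ 1 = 1
    rw [pow_one, ← zpow_natCast, ← zpow_mul, mul_comm, zpow_mul, zpow_natCast, hkp, one_zpow]
  exact h.max _ (sup_le (Subgroup.zpowers_le.2 hk) h.le) (hzp.to_sup_of_normal_right' h.isP hnorm)
    le_sup_right (Subgroup.mem_sup_left (Subgroup.mem_zpowers k))

theorem exists_moving (hexp : ∀ x : V, x ^ p = 1) (h : IsTransv p A z R) (h' : IsTransv p A z' R')
    (hne : ¬ R' ≤ R) : ∃ r ∈ R, r z' ≠ z' := by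
  by_contra hfix
  push Not at hfix
  refine hne fun k hk => ?_
  have hkp : k ^ p = 1 := pow_p_eq_one (hexp z') (h'.fix k hk) (h'.move k hk)
  refine mem_of_normalizes h (h'.le hk) hkp fun r hr => ?_
  -- the conjugate commutes with `R`
  set c := k * r * k⁻¹ with hc
  obtain ⟨a, ha⟩ := h'.move k hk z
  have ha : z' ^ a = z⁻¹ * k z := ha
  have hkz : k z = z * z' ^ a := by rw [ha, mul_inv_cancel_left]
  have hkiz : k⁻¹ z = z * z' ^ (-a) := by
    apply k.injective
    rw [MulAut.apply_inv_self, map_mul, map_zpow, h'.fix k hk, hkz, mul_assoc, ← zpow_add]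
    simp
  have hcz : c z = z := by
    rw [hc, MulAut.mul_apply, MulAut.mul_apply, hkiz, map_mul, map_zpow, h.fix r hr, hfix r hr, ← hkiz,
      MulAut.apply_inv_self]
  have hd : ∀ x, ∃ i : ℤ, c x = x * (z * z' ^ a) ^ i := fun x => by
    obtain ⟨i, hi⟩ := h.move r hr (k⁻¹ x)
    have hi : z ^ i = (k⁻¹ x)⁻¹ * r (k⁻¹ x) := hi
    refine ⟨i, ?_⟩
    rw [hc, MulAut.mul_apply, MulAut.mul_apply, show r (k⁻¹ x) = k⁻¹ x * z ^ i by rw [hi, mul_inv_cancel_left],
      map_mul, MulAut.apply_inv_self, map_zpow, hkz]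
  have hcomm : ∀ g ∈ R, Commute c g := fun g hg => MulEquiv.ext fun x => by
    obtain ⟨i, hi⟩ := hd x
    obtain ⟨j, hj⟩ := h.move g hg x
    have hj : g x = x * z ^ j := by rw [show z ^ j = x⁻¹ * g x from hj, mul_inv_cancel_left]
    simp only [MulAut.mul_apply, hi, hj, map_mul, map_zpow, h.fix g hg, hfix g hg, hcz, mul_assoc]
    rw [mul_comm (z ^ j)]
  have hcp : c ^ p = 1 := by
    rw [hc, conj_pow, pow_p_eq_one (hexp z) (h.fix r hr) (h.move r hr), mul_one, mul_inv_cancel]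
  refine mem_of_normalizes h (mul_mem (mul_mem (h'.le hk) (h.le hr)) (inv_mem (h'.le hk))) hcp
    fun g hg => ?_
  rw [(hcomm g hg).eq, mul_inv_cancel_right]
  exact hg

theorem exists_scaled (hexp : ∀ x : V, x ^ p = 1) (h : IsTransv p A z R) {x : V} (hx : ∃ r ∈ R, r x ≠ x)
    (e : ℤ) : ∃ r ∈ R, r x = x * z ^ e := by
  obtain ⟨r, hr, hne⟩ := hx
  obtain ⟨m, hm⟩ := mem_zpowers_of_ne (hexp z) (h.move r hr x) fun h1 => hne (inv_mul_eq_one.1 h1).symm
  obtain ⟨i, hi⟩ := h.move r hr x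
  have hi : z ^ i = x⁻¹ * r x := hi
  have hm : (x⁻¹ * r x) ^ m = z := hm
  obtain ⟨j, hj⟩ : ∃ j : ℕ, (x⁻¹ * r x) ^ j = z ^ e := by
    have hmem : z ^ e ∈ Submonoid.powers (x⁻¹ * r x) := by
      rw [mem_powers_iff_mem_zpowers, ← hm, ← zpow_mul]
      exact ⟨_, rfl⟩
    obtain ⟨j, hj⟩ := hmem
    exact ⟨j, hj⟩
  refine ⟨r ^ j, pow_mem hr j, ?_⟩
  rw [pow_apply (c := x⁻¹ * r x) (mul_inv_cancel_left x (r x)).symm (by rw [← hi, map_zpow, h.fix r hr]) j, hj]

theorem eq_one_of_fix (hexp : ∀ x : V, x ^ p = 1) (h : IsTransv p A z R) (hz' : z' ∉ Subgroup.zpowers z)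
    {k : MulAut V} (hk : k ∈ A) (hkz' : k z' = z') (hkz : k z = z * z'⁻¹)
    (hmk : ∀ x, x⁻¹ * k x ∈ Subgroup.zpowers z') {g : MulAut V} (hg : g ∈ R) (hgz : g z' = z') : g = 1 := by
  have hkiz : k⁻¹ z = z * z' := by
    apply k.injective
    rw [MulAut.apply_inv_self, map_mul, hkz', hkz, inv_mul_cancel_right]
  set u := k * g * k⁻¹ * g⁻¹ with hu
  have hgi : g⁻¹ z = z := g.injective (by rw [MulAut.apply_inv_self, h.fix g hg])
  have hgiz' : g⁻¹ z' = z' := g.injective (by rw [MulAut.apply_inv_self, hgz])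
  have hkiz' : k⁻¹ z' = z' := k.injective (by rw [MulAut.apply_inv_self, hkz'])
  have huz : u z = z := by
    rw [hu, MulAut.mul_apply, MulAut.mul_apply, MulAut.mul_apply, hgi, hkiz, map_mul, h.fix g hg, hgz,
      ← hkiz, MulAut.apply_inv_self]
  have huz' : u z' = z' := by
    rw [hu, MulAut.mul_apply, MulAut.mul_apply, MulAut.mul_apply, hgiz', hkiz', hgz, hkz']
  have key : ∀ x m, g x = x * z ^ m → u x = x * z' ^ (-m : ℤ) := by
    intro x m hm
    obtain ⟨i, hi⟩ := hmk x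
    have hi : k x = x * z' ^ i := by rw [show z' ^ i = x⁻¹ * k x from hi, mul_inv_cancel_left]
    have hkix : k⁻¹ x = x * z' ^ (-i) := by
      apply k.injective
      rw [MulAut.apply_inv_self, map_mul, map_zpow, hkz', hi, mul_assoc, ← zpow_add]
      simp
    have hgix : g⁻¹ x = x * z ^ (-m) := by
      apply g.injective
      rw [MulAut.apply_inv_self, map_mul, map_zpow, h.fix g hg, hm, mul_assoc, ← zpow_add]
      simp
    rw [hu, MulAut.mul_apply, MulAut.mul_apply, MulAut.mul_apply, hgix, map_mul, map_zpow, hkix, hkiz,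
      map_mul g, map_mul g, map_zpow g, map_zpow g, map_mul g, hm, hgz, h.fix g hg]
    simp only [map_mul, map_zpow, hkz', hkz, hi]
    simp [mul_zpow, mul_comm, mul_left_comm, mul_assoc]
  have hall : ∀ x, x⁻¹ * u x ∈ Subgroup.zpowers z' := fun x => by
    obtain ⟨m, hm⟩ := h.move g hg x
    rw [key x m (by rw [show z ^ m = x⁻¹ * g x from hm, mul_inv_cancel_left]), inv_mul_cancel_left]
    exact ⟨_, rfl⟩
  have huA : u ∈ A := mul_mem (mul_mem (mul_mem hk (h.le hg)) (inv_mem hk)) (inv_mem (h.le hg))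
  have hu1 : u ∈ R := by
    refine mem_of_normalizes h huA (pow_p_eq_one (hexp z') huz' hall) fun r hr => ?_
    rw [eq_stab hexp h]
    have hui : u⁻¹ z = z := u.injective (by rw [MulAut.apply_inv_self, huz])
    refine ⟨mul_mem (mul_mem huA (h.le hr)) (inv_mem huA), ?_, fun x => ?_⟩
    · rw [MulAut.mul_apply, MulAut.mul_apply, hui, h.fix r hr, huz]
    · obtain ⟨j, hj⟩ := h.move r hr (u⁻¹ x)
      have hj : r (u⁻¹ x) = u⁻¹ x * z ^ j := by
        rw [show z ^ j = (u⁻¹ x)⁻¹ * r (u⁻¹ x) from hj, mul_inv_cancel_left]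
      rw [MulAut.mul_apply, MulAut.mul_apply, hj, map_mul, MulAut.apply_inv_self, map_zpow, huz,
        inv_mul_cancel_left]
      exact ⟨_, rfl⟩
  ext x
  obtain ⟨m, hm⟩ := h.move g hg x
  have hm : g x = x * z ^ m := by rw [show z ^ m = x⁻¹ * g x from hm, mul_inv_cancel_left]
  have h1 := h.move u hu1 x
  rw [key x m hm, inv_mul_cancel_left] at h1
  have h2 : z' ^ (-m) = 1 := by
    by_contra hne
    exact hz' (Subgroup.zpowers_le.2 h1 (mem_zpowers_of_ne (hexp z') ⟨_, rfl⟩ hne))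
  have hz'1 : orderOf z' = p := orderOf_eq_prime (hexp z') fun h1 => hz' (h1 ▸ one_mem _)
  rw [← orderOf_dvd_iff_zpow_eq_one, hz'1, dvd_neg] at h2
  rw [hm, orderOf_dvd_iff_zpow_eq_one.1 ((Int.natCast_dvd_natCast.2 (orderOf_dvd_of_pow_eq_one (hexp z))).trans h2),
    mul_one]
  rfl

/-- Two different conjugate groups of transvections give an element inverting `z`, whose fixed points among
those of the first group are the common fixed points of both. -/
theorem exists_inversion (hexp : ∀ x : V, x ^ p = 1) (hp2 : p ≠ 2) (h : IsTransv p A z R)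
    (h' : IsTransv p A z' R') (hne : ¬ R' ≤ R) (hne' : ¬ R ≤ R') :
    ∃ t ∈ A, t z = z⁻¹ ∧ (∀ r ∈ R, t * r * t⁻¹ ∈ R) ∧
      ∀ x, (∀ r ∈ R, r x = x) → ∃ c : ℤ, (∀ r ∈ R', r (x * z ^ c) = x * z ^ c) ∧
        t x = x * z ^ (2 * c) ∧ (t x = x ↔ ∀ r ∈ R', r x = x) := by
  obtain ⟨r, hr, hrz'⟩ := exists_scaled hexp h (exists_moving hexp h h' hne) 1
  obtain ⟨k, hk, hkz⟩ := exists_scaled hexp h' (exists_moving hexp h' h hne') (-1)
  rw [zpow_one] at hrz'
  rw [zpow_neg, zpow_one] at hkz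
  have hz1 : z ≠ 1 := fun h1 => by
    obtain ⟨g, hg, hg'⟩ := exists_moving hexp h' h hne'
    exact hg' (by rw [h1, map_one])
  have hz'1 : z' ≠ 1 := fun h1 => by
    obtain ⟨g, hg, hg'⟩ := exists_moving hexp h h' hne
    exact hg' (by rw [h1, map_one])
  have hz' : z' ∉ Subgroup.zpowers z := by
    rintro ⟨i, rfl⟩
    exact hne' fun g hg => by
      rw [eq_stab hexp h']
      exact ⟨h.le hg, by rw [map_zpow, h.fix g hg], fun x =>
        Subgroup.zpowers_le.2 (mem_zpowers_of_ne (hexp z) ⟨i, rfl⟩ hz'1) (h.move g hg x)⟩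
  have hkz' := h'.fix k hk
  have hrz := h.fix r hr
  have hw1 : (r * k * r) z = z'⁻¹ := by
    rw [MulAut.mul_apply, MulAut.mul_apply, hrz, hkz, map_mul, map_inv, hrz, hrz', mul_inv,
      mul_comm z'⁻¹, ← mul_assoc, mul_inv_cancel, one_mul]
  have hw2 : (r * k * r) z' = z := by
    rw [MulAut.mul_apply, MulAut.mul_apply, hrz', map_mul, hkz', hkz, mul_comm z, mul_inv_cancel_left, hrz]
  set t := (r * k * r) * (r * k * r) with ht
  have htz : t z = z⁻¹ := by rw [ht, MulAut.mul_apply, hw1, map_inv, hw2]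
  have htA : t ∈ A := mul_mem (mul_mem (mul_mem (h.le hr) (h'.le hk)) (h.le hr))
    (mul_mem (mul_mem (h.le hr) (h'.le hk)) (h.le hr))
  refine ⟨t, htA, htz, fun g hg => ?_, fun x hx => ?_⟩
  · rw [eq_stab hexp h]
    have hti : t⁻¹ z = z⁻¹ := t.injective (by rw [MulAut.apply_inv_self, map_inv, htz, inv_inv])
    refine ⟨mul_mem (mul_mem htA (h.le hg)) (inv_mem htA), ?_, fun y => ?_⟩
    · rw [MulAut.mul_apply, MulAut.mul_apply, hti, map_inv, h.fix g hg, map_inv, htz, inv_inv]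
    · obtain ⟨j, hj⟩ := h.move g hg (t⁻¹ y)
      have hj : g (t⁻¹ y) = t⁻¹ y * z ^ j := by
        rw [show z ^ j = (t⁻¹ y)⁻¹ * g (t⁻¹ y) from hj, mul_inv_cancel_left]
      rw [MulAut.mul_apply, MulAut.mul_apply, hj, map_mul, MulAut.apply_inv_self, map_zpow, htz,
        inv_mul_cancel_left, inv_zpow']
      exact ⟨_, rfl⟩
  have hfixR' : ∀ y, k y = y → ∀ g ∈ R', g y = y := by
    intro y hy g hg
    obtain ⟨i, hi⟩ := h'.move g hg z
    have hi : g z = z * z' ^ i := by rw [show z' ^ i = z⁻¹ * g z from hi, mul_inv_cancel_left]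
    have hpw : (k ^ (-i)) z = z * z' ^ i ∧ (k ^ (-i)) y = y := by
      suffices ∀ i : ℤ, (k ^ i) z = z * z' ^ (-i) ∧ (k ^ i) y = y ∧ (k ^ i) z' = z' by
        have := this (-i); rw [neg_neg] at this; exact ⟨this.1, this.2.1⟩
      intro i
      induction i using Int.induction_on with
      | zero => simp
      | succ n ih =>
        rw [zpow_add_one]
        simp only [MulAut.mul_apply, hkz, map_mul, map_inv, hy, hkz', ih.1, ih.2.1, ih.2.2]
        refine ⟨?_, trivial, trivial⟩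
        rw [mul_assoc, neg_add, zpow_add, zpow_neg_one]
      | pred n ih =>
        have e1 : k⁻¹ z = z * z' := k.injective (by
          rw [MulAut.apply_inv_self, map_mul, hkz', hkz, inv_mul_cancel_right])
        have e2 : k⁻¹ y = y := k.injective (by rw [MulAut.apply_inv_self, hy])
        have e3 : k⁻¹ z' = z' := k.injective (by rw [MulAut.apply_inv_self, hkz'])
        rw [zpow_sub_one]
        simp only [MulAut.mul_apply, map_mul, e1, e2, e3, ih.1, ih.2.1, ih.2.2]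
        refine ⟨?_, trivial, trivial⟩
        rw [mul_assoc, neg_sub, ← zpow_add_one, sub_neg_eq_add, add_comm (1 : ℤ), neg_neg]
    -- `g` and the power of `k` agree
    have hz : z ∉ Subgroup.zpowers z' := fun hmem => hz' (mem_zpowers_of_ne (hexp z') hmem hz1)
    obtain ⟨s, hs, hsz⟩ := exists_scaled hexp h (exists_moving hexp h h' hne) (-1)
    rw [zpow_neg, zpow_one] at hsz
    have hd : (k ^ (-i))⁻¹ * g = 1 := eq_one_of_fix hexp h' hz (h.le hs) (h.fix s hs) hsz (h.move s hs)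
      (mul_mem (inv_mem (zpow_mem hk _)) hg)
      (by rw [MulAut.mul_apply, hi, ← hpw.1, MulAut.inv_apply_self])
    rw [inv_mul_eq_one] at hd
    rw [← hd]; exact hpw.2
  obtain ⟨i, hi⟩ := h'.move k hk x
  have hi : k x = x * z' ^ i := by rw [show z' ^ i = x⁻¹ * k x from hi, mul_inv_cancel_left]
  have hl : k (x * z ^ i) = x * z ^ i := by
    rw [map_mul, map_zpow, hi, hkz, mul_zpow, inv_zpow, mul_assoc, mul_left_comm (z' ^ i),
      mul_inv_cancel, mul_one]
  have hrl : r (x * z ^ i) = x * z ^ i := by rw [map_mul, map_zpow, hx r hr, hrz]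
  have htl : t (x * z ^ i) = x * z ^ i := by simp only [ht, MulAut.mul_apply, hrl, hl]
  have htx : t x = x * z ^ (2 * i) := by
    rw [map_mul, map_zpow, htz, inv_zpow, mul_inv_eq_iff_eq_mul] at htl
    rw [htl, two_mul, zpow_add, mul_assoc]
  refine ⟨i, hfixR' _ hl, htx, fun he => ?_, fun hx' => ?_⟩
  · rw [htx, mul_eq_left, ← orderOf_dvd_iff_zpow_eq_one] at he
    rcases eq_or_ne z 1 with h1 | h1
    · exact fun g hg => by simpa [h1] using hfixR' _ hl g hg
    rw [orderOf_eq_prime (hexp z) h1] at he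
    have hpi : (p : ℤ) ∣ i := by
      refine (Int.Prime.dvd_mul' hp.out he).resolve_left fun h2 => hp2 ?_
      exact (Nat.prime_dvd_prime_iff_eq hp.out Nat.prime_two).1 (by exact_mod_cast h2)
    have hzi : z ^ i = 1 := orderOf_dvd_iff_zpow_eq_one.1 (by rwa [orderOf_eq_prime (hexp z) h1])
    exact fun g hg => by simpa [hzi] using hfixR' _ hl g hg
  · simp only [ht, MulAut.mul_apply, hx r hr, hx' k hk]

end Cfsg.Agent.Lib.FusionAlperin.Transvections
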